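import Cfsg.Agent.N2.Sp2.MdSuz_m3
import Cfsg.Agent.TAB.Co1.Tab
import Cfsg.Prelude.Def_Sporadic_a
import Cfsg.Agent.N2.Sp2.MdCo2_m3
import Cfsg.Agent.H419.LeechIrr
import Cfsg.Agent.N2.Cl.D4.B44_mg_m3
import Cfsg.Agent.N2.Ex.Mu.T33C_m3
import Cfsg.Agent.Lib.Zsigmondy
import Cfsg.Agent.H954.TSing7
import Cfsg.Agent.N2.Cl.Ten.Main_m3
import Cfsg.Agent.N2.Tool
import Cfsg.Agent.FastGrp
import Cfsg.Agent.Prune
set_option linter.all false

section
prune_inst 0x7ffdeaf9bba8fbffdfff7e3fa79ccdfdd1aa0fffa4dff9cbffe06bbf1bbf03008945f3ad8be010fe5ef6421410a87843fb7eceffe26bd87ffffd1ff41ffbee0ff5f7b50851d488340f340ffe03e0778e7f3fffffffffffffffffffffffffffaeffbfffffffff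

-- part: N2/Sp/GCo1
section
prune_inst 0x10000000000000
set_option linter.all false

/-- decoders of the packed data (elaboration time only) -/
private noncomputable def pk61d (b S i : Nat) : Nat := Nat.mod (Nat.shiftRight S (Nat.mul b i)) (Nat.shiftLeft (nat_lit 1) b)
private noncomputable def pk61f {α : Type} (t : Nat) (f : Nat → α) : α := Nat.rec (f Nat.zero) (fun k _ => f (Nat.succ k)) t
private noncomputable def pk61l {α : Type} (f : Nat → α) (s e : Nat) (tl : List α) : List α :=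
  pk61f e fun e => Nat.rec tl (fun k ih => List.cons (pk61f (Nat.sub e (Nat.succ k)) f) ih) (Nat.sub e s)

/-!
# N2 (S3519), sporadic rows: Co1 (helper16; generated by notes/N2/sp16/emit.py.txt)

Types which are left, with order, letter in the order of the table, and bound for the fixed points: 1 = 2a
      (89181388800), 2 = 2b (2012774400), 3 = 2c (389283840), 4 = 3a (1345036492800), 5 = 3b (58786560), 6 = 3c
      (12597120), 7 = 3d (544320), 8 = 4a (371589120), 9 = 4b (1179648), 10 = 4c (737280), 11 = 4d (294912), 12 = 4e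
      (48384), 13 = 4f (15360), 14 = 5a (3024000), 15 = 5b (36000), 16 = 5c (15000), 17 = 6a (9953280), 18 = 6b
      (483840), 19 = 6c (155520), 20 = 6d (155520), 21 = 6e (20736), 22 = 6f (15552), 26 = 7a (17640), 28 = 8a
      (92160), 29 = 8b (6144), 30 = 8c (6144), 37 = 10a (9600), 44 = 12a (138240), 45 = 12b (9216), 60 = 15a (5400).
-/

set_option autoImplicit false
set_option Elab.async false
set_option maxRecDepth 4000

namespace Cfsg.Agent.N2.Sp.Co1

open Cfsg Cfsg.Agent.FP3 Cfsg.Agent.TAB.Eng Cfsg.Agent.TAB.Use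

/-- the data -/
abbrev D : Dat := TAB.Co1.D

/-- the table -/
noncomputable abbrev R : Rows := TAB.Co1.RR

/-- the densities -/
def nu : List ℕ :=
  (by
  refine (?fq9001 : ((pk61l (fun i1 => (pk61d (nat_lit 59) 
    (nat_lit 0x3d8c26600a0000057ecc91b7c000017148e6403c00005eb03b09e80000066943ff56600000d30515db9000001bf9e2e5d6000003d8c26600a000007b184cc014000007b184cc01400000f63099802800000f630998028000083e32da93a0000107c65b5274000011c10b11db800004cef2ff80c800004cef2ff80c800004cef2ff80c8000066943ff5660000099de5ff0190000066943ff5660002823bffbda0000029f6d458c10000057ecc91b7c000003a9ddb67a8000001d4eedb3d400002e291cc807800002e291cc8078000007b184cc014000088c5aa9c8800001118b5539100000088c5aa9c88000039b363fa09600007366c7f412c0001ec61330050000014840ccaae0000014840ccaae000000834d1eaac0000002bc45f8e4000020f8cb6a4e8000015fb3246df000002f581d84f40000133bcbfe032000019a50ffd59800000cd287feacc000019a50ffd5980000334a1ffab30000066943ff566000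0066943ff5660000088c5aa9c880000088c5aa9c8800000b65ce37b6000000cd287feacc00000cd287feacc000001b5abbb8e8001bf9e2e5d60000017148e6403c00000c4f3ae00200000189e75c00400000189e75c00400000313ceb8008000000c4f3ae00200001e64d09490000003cc9a12920000001e64d094900000099de5ff0190000133bcbfe03200000e6cd8fe8258000099de5ff0190000133bcbfe03200000290819955c000191f14e3480000003597a407000000cd287feacc00000a4206655700000088c5aa9c88000003cc9a12920000005b2e71bdb0000001850a6dd400000030a14dba80000001f431faec000000030a14dba80000fc1930a40000000d214fdde000000005007ff30000007b184cc014000004e27cf34e00000019a50ffd598000014840ccaae0000019a50ffd59800000029aed4e900000de4f1a30000000013363e500000000083bd190000000000002f2b000000004f93967700000001ec7ffb000000000163b1c3800000000000001) i1)) (nat_lit 0) (nat_lit 99) List.nil) : List ℕ)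
    = ?xq9001 → (List ℕ)) ?hq9001; (case hq9001 => (set_option maxRecDepth 1000000 in set_option simprocs false in conv => lhs; reduce; dsimp only)); intro _; exact ?xq9001 : List ℕ)

/-- type, lower and upper bound for the order -/
def O : Out :=
  (by
  refine (?fq9002 : ((pk61l (fun i1 => (_root_.Prod.mk (pk61d (nat_lit 6) 
    (nat_lit 0xf3cb6c95e75d71a59551349140f38d30b289207185103081) i1) (_root_.Prod.mk (pk61d (nat_lit 26) 
    (nat_lit 0x7cb14aabb916b1f20840000626144335d118b567cb14aabb916b00053000b8ede04b30f8071d930001148000452000009400000104b30f8015c1c000000412cc3e0023d900000a3000002c000003000000400001a000000400000100000040000010000004000001) i1) (pk61d (nat_lit 28) 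
    (nat_lit 0xaf26afa86bb4bf600f37949e452138d703f28866b7) (pk61d (nat_lit 3) 
    (nat_lit 0x95941b5db6d76a96db6db6d) i1))))) (nat_lit 0) (nat_lit 32) List.nil) : Out)
    = ?xq9002 → (Out)) ?hq9002; (case hq9002 => (set_option maxRecDepth 1000000 in set_option simprocs false in conv => lhs; reduce; dsimp only)); intro _; exact ?xq9002 : Out)

/-- the types -/
def S : List ℕ := [1, 2, 3, 4, 5, 6, 7, 8, 9, 10, 11, 12, 13, 14, 15, 16, 17, 18, 19, 20, 21, 22, 26, 28, 29, 30, 37, 44, 45, 60]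

/-- steps -/
noncomputable def l0_0 : List St :=
  (by
  refine (?fq9003 : ((pk61l (fun i1 => (_root_.Cfsg.Agent.N2.Sp.St.fk (pk61d (nat_lit 7) 
    (nat_lit 0x122fcd) i1) ((fun g1 : Nat → Nat => pk61l (fun i2 => (_root_.Prod.mk (pk61d (nat_lit 67) (Nat.add 
    (nat_lit 0xbb823d03f5a3b0c209797690655971c809156a23100bb9fbab7c2c90d138a99000c5849c7416f24cb28c0881a78487858842a93e47107fb7a05257488e4418e0db8967ce30d3409685ce28275c88348ad5d5bdd186f88107554a5ee43f615300b1580a72c2b8fbee28a8ce887f19ce07c37d2f6189933200182284aa7566f0fa21067c6a42e1ccfdb1431424eb652c0b867005d9d3a0d7e536b209940d67147b95bcb186fb615591a5331e14c0de1a15bfe4ed41bebb76f192a283f8228718bc45a1656a099525daf639fa99a0efe70e53f519e88800f58eedee82afc90044d7ab510a90a8000d17b1dee9fae5d602cb7c7887cba814806f05b59d3b2000000633157e3f56ffff003a187c9de407d3e0221046c2ce04ead8043144760638caac80706e8435bc300ef01264f1c7587e2ee401e88bca75a8ff6a4000dbf6d5ff62133002711c39dfb9ae9e0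0b974a5f1ebf4b8c01b14638c762dc35401ae2b5e1f83a3ef804edf172df7e8df900e0ad924162e256600ad7cb7f443445f80286e03c7542c95b0028db3bb9730976200822bf7657c33b2a00ef398b78dc21380021a2261e8e66f1e00654709e428df1d000cf07c9e2b671ade00a21ad7a4d44a6f001b23e3efa6cdbcb802c6ebe3fb6fb6c40081eb515229e1d84025b3457af269b60002e14174acab1f4f00508438137a22e11002e377edd4f4011a002e2ce867219c0500029976212bec2250012bbfc9580b3f2e005ca9d46b65edb1a00bef25baf6008aa000701c6e8d20be810009bdc95a761f66f001df821acc60ef200028b54cf0ece14f0010034da771d45570043b280392cbc26c001a1eb05c9f72e4e0074d7e677dfe111400c1a8b0f2e054410006ea373d3aa90b0001f62f2a35dd21140017a36b9e5ed58c4001386130c50198480274ef86b2918e3701bc16d674ec8000000d531f5f184bacc8038b8637b073bdfd80429f85b68b271e1006a2794070d3bdba013486e209df62d9002a1c18457d0f94b8027fed55ae2f570400479365a5acd310c007c93e210207eb14019ff5fde67f655f0019b6ddaf703bc7200bb411ce3dd4160c00bba3684b7165b200222550aba63067f80421ba34ca55e86c000684969bf02da4a006d694557ed8a0040175a77937a4eb4480225478e01c62003005c7fbf7dc86fe5c00a8cc62f1a78644c00653e6e1c3b130d8012415422308f579001979bab200065ea00aeda1b991c1cf4001806b23a7c248e2000d6956592305628007aa44149ab86710000079cf855ac8ad0014a67ea3c24ea3b000d3dab94ae524d70004cb3b1d034da6e00c0b2c7b4456482000031e18b00b8c7c800b067555984bfc500230239aaf2734620034a09d8e731eab400440d94dffd3ee60016cce7e6d85ea33)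 (Nat.shiftLeft (Nat.add 
    (nat_lit 0xbbca7807d57dda756c11047d92b5004b7c687198b3dd2c0929f6aedb6419f07b26de98c04c69fdd9243439e9d99bbafdbbf254cb3d02527736791ea3aebe006ea2ae162edf3d853bb4b999c9de92e376961b302a3a187c60372705e537af7d065aa6c0bce494fae2a3b342d6d3f55d91ae1186c2baf18c78131086c753bcf8c855709316ea1c26c0b648948c8142d9095512f5b8dca71367a2bad7ac16b4d2e030cdbf0a61689783b13be374cc1591557d6f240bc20b921d70a8ef93f12fd04130d4f08e3d4720e814426e9de97588990552a21574b99bd99f6370bb521c627f33c55a5035b8d37f6e74a769ecee083bfb0e8c38c29b83e18cc9cdff39cd293ba2f532eb5c3c847f378c25dfeaa471c712074489bb9133df86a5e6107ffb096c04889f61fbd57b00e4fb06b43ac3e0fb0527f3c186d45df100d9e085d8d2c036c8d32374e7185187f091b4305da29b298031666bca3053c31a6a0e781148896a1e3d4d46857661265cb867e2831dd02380fcdbb5f764b743cc64c465259e94d073a65aa7da93af260de767016f02c19601a709f055cfe3db90348e2187762642ad04e8b533445bafb260832bf3809634853a0ed53f2d30a4b75bc1e1e3ee2072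3319583d0dd112c36ff52b07973d9652b18beb80dedabe19fd5218d01869b8ac0742048d830af1c7d5969818805c60e12e9651b99e09d6848007b33ddbc0bbe5caf72235f470185e9094e055b630031b05564db73882a0507f6eabd542597403536c6c2ca3e13200e60ceb392d121fb017fb4fee054dcd0a0163608df4dbdc2f4025f8e64c100f1018055550421b4b3d3f005269f4ccff7c9ee01d6aa243adbaf8680203490849aab0ef0071dfbeca377e7ca0009c28d1f249832e012e121cd10df7130008b4dac18230eb60030fcd253f5cf89a0035dd108196cdb6607a0ef85e8aed19fa462ebe10fdf47be556bc75e2d631000009900b093b46656d49416a38bd8b113f29e9234ce7f1d7b7a584c34f7854654aaddd917f18ad103aff9e92714b9db8ea7eba3e58c1d5b2c8829368bf62e401a739aea3c7e6c1010d4060536ce3f8a223b8f28b9b5a34015f839f51d802b3ad929e014030c36768725939503cd86afc69c5b845f8034d758275a8d64436e7ad5e88333651c25554f24354fe91fee6d4be8b373063eb3f735628b85a5d744844da9a9191fbbe29836451deb13bd1e655512acf06dd65106991412735eccc268ea9499f97332d048135c52422154dc9fdc369f09174d09a4d401884cfbdeb73818dc009c9cf220c1960a57f724162833146478ff4260879fc678eb707847aedcb18df5e917413e36ffb85025cfa938c0f53c400f74a046404bddc1f776f864970194398ea6c51f8e5800ad905967ad31fc6dab995)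 (Nat.shiftLeft 
    (nat_lit 0x2b5e3af16b18800005202e3307ba3e50b79e27378733c393b3b39c) (nat_lit 8000))) (nat_lit 8000))) i2) (pk61d (nat_lit 7) 
    (nat_lit 0x305fbd76e5bb566c57ad56a53a54684f9d3664b95264478d16243850603f7cf5e3b74e5c376cd5a3364c582f5cb562b54a54274c95223448501f3c74e1b3464c172c54a13203868c178b05fbd76e5bb566c57ad56a53a54684f9d3664b95264478d16243850603f7cf5e3b74e5c376cd5a3364c582f5cb55a84e94f9d3864a911207161c17ef5db96ed59b15eb55a94e951a13e74d992e549911e345870a0bf7cf5e3b74e1a3364c57ad4688c920a13161c17eedcb766c57ad529519f3a6cc972a4c78b121c17ef9ebc76e9cb86cd19b262bd623) i2))) (g1 i1) (g1 (Nat.succ i1)) List.nil) fun j => (pk61d (nat_lit 8) 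
    (nat_lit 0xf29f5e2a00) j)) (nat_lit 0) (pk61d (nat_lit 46) 
    (nat_lit 0xec61fdfcf56bb0d0f4049d8017c49a79d2c0335ca80a4f) i1) ((fun g1 : Nat → Nat => pk61l (fun i2 => (_root_.Prod.mk (pk61d (nat_lit 6) 
    (nat_lit 0x841041) i2) (pk61d (nat_lit 2) 
    (nat_lit 0x75) i2))) (g1 i1) (g1 (Nat.succ i1)) List.nil) fun j => (pk61d (nat_lit 3) 
    (nat_lit 0x48c8) j)) ((fun g1 : Nat → Nat => pk61l (fun i2 => (_root_.Prod.mk (pk61d (nat_lit 28) 
    (nat_lit 0x87000001100000a700008900006020000001f0c31583d87f98f0000007000001d000001e0000322000015c000002400000722001a91) i2) (_root_.Prod.mk (pk61d (nat_lit 7) 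
    (nat_lit 0xc585c365371714b782bc6870db94) i2) (pk61d (nat_lit 2) 
    (nat_lit 0xbabeaaee) i2)))) (g1 i1) (g1 (Nat.succ i1)) List.nil) fun j => (pk61d (nat_lit 5) 
    (nat_lit 0x105a0e0) j)))) (nat_lit 0) (nat_lit 4) List.nil) : List St)
    = ?xq9003 → (List St)) ?hq9003; (case hq9003 => (set_option maxRecDepth 1000000 in conv => lhs; reduce)); intro _; exact ?xq9003 : List St)

/-- steps -/
noncomputable def l1_0 : List St :=
  (by
  refine (?fq9004 : ((pk61l (fun i1 => (_root_.Cfsg.Agent.N2.Sp.St.fk (pk61d (nat_lit 7) 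
    (nat_lit 0x122fcd) i1) ((fun g1 : Nat → Nat => pk61l (fun i2 => (_root_.Prod.mk (pk61d (nat_lit 67) (Nat.add 
    (nat_lit 0x6c7cf005df4960b6d66d3f90adec9bba0dedb7be8726ac88647b72c32252a1734af7aef0424b391507a429f2b147902bc41ef57a1ff888d52fcf57799fea2ad584f0efb3826344d07f250b9235098868b81719cbc6facf010a5983a2532dd45069bda0eb692b74c82895c94e30245687803556a8a5ca7cdcd8f6a8f5af762588002022df94230bbbefc09e20e16f48f545e495877414c482648306bd099f837b764fd1849287f0616a52bc017bba54ac14f8a4c312a9c13cdaee7ab8b09aa8f1987235ea09583cee752a2ca864bc890e59df52aab01d83fcd46b5e85999dbae43e12e6b7ef001565e859ca390de0157aa8023bc25ad602643f45c5940064d06e3c3ccd14c8c00a14a8ed5ae2aa425560068c394190cfeabc01e1d4b4a3d8afbb005002b4544aea43401503f3b848f71ebe03782dace9d90000002b3c83fbd9b161f000decff3efc5ad39010cee9a95294c40001ec1db3807b9937c0359c46387c08bf98089f62b8a353366b00ee1fbe3e4aadd740078d34a1db05e6a4033212fa387381ff805f0f52659ae89bb00735822cb62f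bdd60126ef873811fad58037140f8a46fc4908023d805a899805a0009445f512aeac6f800a6807f076b9a4c4020ef723090a987c003acc34fc4cddfbe007a67b3f9a10e578013338a590fc0afc4033001093d3217af002232db06b91db15006bb8236951e0ba200835a8d568a5750801b1485e3e7d1f708099876d015719b7800c398a3bd24bb052010e3bcced9ecc37800ac908a8dbdd8f580034043b3e9b3ca500181def793cdedc800bdd4646a3ab0328008850d95ae11a400035cb749724a09b6000add35b9d69794c00156dc8ed2de4ba8011bf8449138868580437f7d3ee14080e001b0b7a522b5dfe2008b83eee86a8259c0004159987fd09b60017b42b05b015c8200176bd7ae39ba33e003f6032b5c0987380137b4c36ef605dc00de0b6b3a764000000549875b4327ddea01d7bf11e4a454390023636c3cc80a8a4001a3467f8e3e027a009ac5cd4b75e47400198808d4b73a5a00011738d5af3128b000179aa06083161e50040b9abe6298e79e00bd6f0f267d2958000a19438f89f573700017a17c80c1ceed00f2925d48b4a055a00b0f71b16f96bf34024c3e97c076f71980377f58b6402e7bf00555814e6b33bcbc008ed96bd048f404001586c9c9130b0078021f251a65d794cd001387ee645ada0f2002cfe1c0cc84a96c00946b8f68657544001dd19a5d363fc1b007b4ca1b4c48187e0002fa42d617bc95c019b1928a2668f418007e903daf8b20a600196605d93d55908003747637e51afa70015c7c92a60909c700105f64400369ef6000bc39421d7f41ca00adf9976d681856c0114bdd03a6d573100028d5f565d6732f)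 (Nat.shiftLeft 
    (nat_lit 0x56bc75e2d63100000a405c660f747ca16f3c4e6f0e6787276767397794f00faafbb4ead82208fb256a0096f8d0e33167ba581253ed5db6c833e0f64dbd318098d3fbb2486873d3b33775fb77e4a9967a04a4ee6cf23d475d7c00dd455c2c5dbe7b0a7769733393bd25c6ed2c3660547430f8c06e4e0bca6f5efa0cb54d8179c929f5c5476685ada7eabb235c230d8575e318f026210d8ea779f190aae1262dd4384d816c9129190285b212aa25eb71b94e26cf4575af582d69a5c0619b7e14c2d12f076277c6e9982b22aafade48178417243ae151df27e25fa08261a9e11c7a8e41d02884dd3bd2eb11320aa5442ae97337b33ec6e176a438c4fe678ab4a06b71a6fedce94ed3d9dc1077f61d1871853707c319939bfe739a527745ea65d6b87908fe6f184bbfd548e38e240e8913772267bf0d4bcc20fff612d809113ec3f7aaf601c9f60d687587c1f60a4fe7830da8bbe201b3c10bb1a5806d91a646e9ce30a30fe1236860bb4536530062ccd79460a78634d41cf0229112d43c7a9a8d0aecc24cb970cfc5063ba04701f9b76beec96e8798c988ca4b3d29a0e74cb54fb5275e4c1bcece02de05832c034e13e0ab9fc7b720691c430eec4c855a09d16a6688b75f64c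10657e7012c690a741daa7e5a61496eb783c3c7dc40e46632b07a1ba22586dfea560f2e7b2ca56317d701bdb57c33faa431a030d371580e84091b0615e38fab2d303100b8c1c25d2ca3733c13ad09000f667bb78177cb95ee446be8e030bd2129c0ab6c6006360aac9b6e710540a0fedd57aa84b2e806a6d8d85947c26401cc19d6725a243f602ff69fdc0a9b9a1402c6c11be9b7b85e804bf1cc98201e20300aaaa08436967a7e00a4d3e999fef93dc03ad544875b75f0d004069210935561de00e3bf7d946efcf940013851a3e493065c025c2439a21bee26001169b5830461d6c0061f9a4a7eb9f134006bba21032d9b6cc298970e3bc1f513142cdf81e12dba3f5fad78ebc5ac6200000d9693398212f3d0329ca8b38cac5b9ae4550965418e9d7b148771f40057a159cc96dff1fe97ee5fbe33232104cf080fae6e945e2cec09718f05fd7626bc2ec97ea3078d6250fbd68f8a50b18045ea9feecd966837127db4077d5f7fd3edd255d226ce92c4be84addb6d324a1dd2f1d742ecf4e39e924ea470efe8d99f0c65524221e65a7c556967d2c4bab7db68957a7475101ef7ea01a9f8ff6f37d898ec23c7434e0873c724da6b51c07ecf21cd8490f408f5e4e474f6e1a286686eddcb7b7343ec994ba25b0782e8ac6561fae42ed9ece1c1dda5682d7b7e9c83d088b132647e43772fdd09b)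 (nat_lit 8000))) i2) (pk61d (nat_lit 7) 
    (nat_lit 0x60bf7aedcb76acd8af5aad4a74a8d09f3a6cc972a4c88f1a2c4870a0c07ef9ebc76e9cb86ed9ab466c98b05eb96ac56a94a84e992a446890a03e78e9c3668c982e58a94264070d182f160bf7aedcb76acd8af5aad4a74a8d09f3a6cc972a4c88f1a2c4870a0c07ef9ebc76e9cb86ed9a3364c582f5cb55a84e94e9c3254889038b0e0bf7aedcb76acd8af56a53a54684f9d3664b95264478d161c282fdf3d76e9cb868c57ad4688d1924170e0bf76e5bb362bd6a94a8d09f3a6cc931e2c48705fbe7af1db970d9a3364c519c) i2))) (g1 i1) (g1 (Nat.succ i1)) List.nil) fun j => (pk61d (nat_lit 8) 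
    (nat_lit 0xe996572600) j)) (nat_lit 0) (pk61d (nat_lit 47) 
    (nat_lit 0x99a6184ad2b911c404fe4e180396be4ee04003fe044967d) i1) ((fun g1 : Nat → Nat => pk61l (fun i2 => (_root_.Prod.mk (pk61d (nat_lit 6) 
    (nat_lit 0xe01041) i2) (pk61d (nat_lit 2) 
    (nat_lit 0x75) i2))) (g1 i1) (g1 (Nat.succ i1)) List.nil) fun j => (pk61d (nat_lit 3) 
    (nat_lit 0x48c8) j)) ((fun g1 : Nat → Nat => pk61l (fun i2 => (_root_.Prod.mk (pk61d (nat_lit 26) 
    (nat_lit 0x8700000440000a700022400060205216ec00000030000e3ee55086) i2) (_root_.Prod.mk (pk61d (nat_lit 7) 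
    (nat_lit 0x62c2e1b295d6e194) i2) (pk61d (nat_lit 2) 
    (nat_lit 0x2eaee) i2)))) (g1 i1) (g1 (Nat.succ i1)) List.nil) fun j => (pk61d (nat_lit 4) 
    (nat_lit 0x94320) j)))) (nat_lit 0) (nat_lit 4) List.nil) : List St)
    = ?xq9004 → (List St)) ?hq9004; (case hq9004 => (set_option maxRecDepth 1000000 in conv => lhs; reduce)); intro _; exact ?xq9004 : List St)

/-- steps -/
noncomputable def l2_0 : List St :=
  (by
  refine (?fq9005 : ((pk61l (fun i1 => (_root_.Cfsg.Agent.N2.Sp.St.fk (pk61d (nat_lit 7) 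
    (nat_lit 0x122fcd) i1) ((fun g1 : Nat → Nat => pk61l (fun i2 => (_root_.Prod.mk (pk61d (nat_lit 67) (Nat.add 
    (nat_lit 0x6c7cf005df4960b6d66d3f90adec9bba0dedb7be8726ac88647b72c32252a1734af7aef0424b391507a429f2b147902bc41ef57a1ff888d52fcf57799fea2ad584f0efb3826344d07f250b9235098868b81719cbc6facf010a5983a2532dd45069bda0eb692b74c82895c94e30245687803556a8a5ca7cdcd8f6a8f5af762588002022df94230bbbefc09e20e16f48f545e495877414c482648306bd099f837b764fd1849287f0616a52bc017bba54ac14f8a4c312a9c13cdaee7ab8b09aa8f1987235ea09583cee752a2ca864bc890e59df52aab01d83fcd46b5e85999dbae43e12e6b7ef001565e859ca390de0157aa8023bc25ad602643f45c5940064d06e3c3ccd14c8c00a14a8ed5ae2aa425560068c394190cfeabc01e1d4b4a3d8afbb005002b4544aea43401503f3b848f71ebe03782dace9d90000002b3c83fbd9b161f000decff3efc5ad39010cee9a95294c40001ec1db3807b9937c0359c46387c08bf98089f62b8a353366b00ee1fbe3e4aadd740078d34a1db05e6a4033212fa387381ff805f0f52659ae89bb00735822cb62f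bdd60126ef873811fad58037140f8a46fc4908023d805a899805a0009445f512aeac6f800a6807f076b9a4c4020ef723090a987c003acc34fc4cddfbe007a67b3f9a10e578013338a590fc0afc4033001093d3217af002232db06b91db15006bb8236951e0ba200835a8d568a5750801b1485e3e7d1f708099876d015719b7800c398a3bd24bb052010e3bcced9ecc37800ac908a8dbdd8f580034043b3e9b3ca500181def793cdedc800bdd4646a3ab0328008850d95ae11a400035cb749724a09b6000add35b9d69794c00156dc8ed2de4ba8011bf8449138868580437f7d3ee14080e001b0b7a522b5dfe2008b83eee86a8259c0004159987fd09b60017b42b05b015c8200176bd7ae39ba33e003f6032b5c0987380137b4c36ef605dc00de0b6b3a764000000549875b4327ddea01d7bf11e4a454390023636c3cc80a8a4001a3467f8e3e027a009ac5cd4b75e47400198808d4b73a5a00011738d5af3128b000179aa06083161e50040b9abe6298e79e00bd6f0f267d2958000a19438f89f573700017a17c80c1ceed00f2925d48b4a055a00b0f71b16f96bf34024c3e97c076f71980377f58b6402e7bf00555814e6b33bcbc008ed96bd048f404001586c9c9130b0078021f251a65d794cd001387ee645ada0f2002cfe1c0cc84a96c00946b8f68657544001dd19a5d363fc1b007b4ca1b4c48187e0002fa42d617bc95c019b1928a2668f418007e903daf8b20a600196605d93d55908003747637e51afa70015c7c92a60909c700105f64400369ef6000bc39421d7f41ca00adf9976d681856c0114bdd03a6d573100028d5f565d6732f)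 (Nat.shiftLeft 
    (nat_lit 0x56bc75e2d63100000a405c660f747ca16f3c4e6f0e6787276767397794f00faafbb4ead82208fb256a0096f8d0e33167ba581253ed5db6c833e0f64dbd318098d3fbb2486873d3b33775fb77e4a9967a04a4ee6cf23d475d7c00dd455c2c5dbe7b0a7769733393bd25c6ed2c3660547430f8c06e4e0bca6f5efa0cb54d8179c929f5c5476685ada7eabb235c230d8575e318f026210d8ea779f190aae1262dd4384d816c9129190285b212aa25eb71b94e26cf4575af582d69a5c0619b7e14c2d12f076277c6e9982b22aafade48178417243ae151df27e25fa08261a9e11c7a8e41d02884dd3bd2eb11320aa5442ae97337b33ec6e176a438c4fe678ab4a06b71a6fedce94ed3d9dc1077f61d1871853707c319939bfe739a527745ea65d6b87908fe6f184bbfd548e38e240e8913772267bf0d4bcc20fff612d809113ec3f7aaf601c9f60d687587c1f60a4fe7830da8bbe201b3c10bb1a5806d91a646e9ce30a30fe1236860bb4536530062ccd79460a78634d41cf0229112d43c7a9a8d0aecc24cb970cfc5063ba04701f9b76beec96e8798c988ca4b3d29a0e74cb54fb5275e4c1bcece02de05832c034e13e0ab9fc7b720691c430eec4c855a09d16a6688b75f64c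10657e7012c690a741daa7e5a61496eb783c3c7dc40e46632b07a1ba22586dfea560f2e7b2ca56317d701bdb57c33faa431a030d371580e84091b0615e38fab2d303100b8c1c25d2ca3733c13ad09000f667bb78177cb95ee446be8e030bd2129c0ab6c6006360aac9b6e710540a0fedd57aa84b2e806a6d8d85947c26401cc19d6725a243f602ff69fdc0a9b9a1402c6c11be9b7b85e804bf1cc98201e20300aaaa08436967a7e00a4d3e999fef93dc03ad544875b75f0d004069210935561de00e3bf7d946efcf940013851a3e493065c025c2439a21bee26001169b5830461d6c0061f9a4a7eb9f134006bba21032d9b6cc298970e3bc1f513142cdf81e12dba3f5fad78ebc5ac6200000d9693398212f3d0329ca8b38cac5b9ae4550965418e9d7b148771f40057a159cc96dff1fe97ee5fbe33232104cf080fae6e945e2cec09718f05fd7626bc2ec97ea3078d6250fbd68f8a50b18045ea9feecd966837127db4077d5f7fd3edd255d226ce92c4be84addb6d324a1dd2f1d742ecf4e39e924ea470efe8d99f0c65524221e65a7c556967d2c4bab7db68957a7475101ef7ea01a9f8ff6f37d898ec23c7434e0873c724da6b51c07ecf21cd8490f408f5e4e474f6e1a286686eddcb7b7343ec994ba25b0782e8ac6561fae42ed9ece1c1dda5682d7b7e9c83d088b132647e43772fdd09b)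 (nat_lit 8000))) i2) (pk61d (nat_lit 7) 
    (nat_lit 0x60bf7aedcb76acd8af5aad4a74a8d09f3a6cc972a4c88f1a2c4870a0c07ef9ebc76e9cb86ed9ab466c98b05eb96ac56a94a84e992a446890a03e78e9c3668c982e58a94264070d182f160bf7aedcb76acd8af5aad4a74a8d09f3a6cc972a4c88f1a2c4870a0c07ef9ebc76e9cb86ed9a3364c582f5cb55a84e94e9c3254889038b0e0bf7aedcb76acd8af56a53a54684f9d3664b95264478d161c282fdf3d76e9cb868c57ad4688d1924170e0bf76e5bb362bd6a94a8d09f3a6cc931e2c48705fbe7af1db970d9a3364c519c) i2))) (g1 i1) (g1 (Nat.succ i1)) List.nil) fun j => (pk61d (nat_lit 8) 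
    (nat_lit 0xe996572600) j)) (nat_lit 0) (pk61d (nat_lit 47) 
    (nat_lit 0xc7be52c7ab8963e539b0ff2004aa5dccf05005309f2c3a2) i1) ((fun g1 : Nat → Nat => pk61l (fun i2 => (_root_.Prod.mk (pk61d (nat_lit 6) 
    (nat_lit 0xe01041) i2) (pk61d (nat_lit 2) 
    (nat_lit 0x75) i2))) (g1 i1) (g1 (Nat.succ i1)) List.nil) fun j => (pk61d (nat_lit 3) 
    (nat_lit 0x48c8) j)) ((fun g1 : Nat → Nat => pk61l (fun i2 => (_root_.Prod.mk (pk61d (nat_lit 26) 
    (nat_lit 0x8700000440000a700022400060205216ec00000030000e3ee55086) i2) (_root_.Prod.mk (pk61d (nat_lit 7) 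
    (nat_lit 0x62c2e1b295d6e194) i2) (pk61d (nat_lit 2) 
    (nat_lit 0x2eaee) i2)))) (g1 i1) (g1 (Nat.succ i1)) List.nil) fun j => (pk61d (nat_lit 4) 
    (nat_lit 0x94320) j)))) (nat_lit 0) (nat_lit 4) List.nil) : List St)
    = ?xq9005 → (List St)) ?hq9005; (case hq9005 => (set_option maxRecDepth 1000000 in conv => lhs; reduce)); intro _; exact ?xq9005 : List St)

/-- steps -/
noncomputable def l3_0 : List St :=
  (by
  refine (?fq9006 : ((pk61l (fun i1 => (_root_.Cfsg.Agent.N2.Sp.St.fk (pk61d (nat_lit 7) 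
    (nat_lit 0x122fcd) i1) ((fun g1 : Nat → Nat => pk61l (fun i2 => (_root_.Prod.mk (pk61d (nat_lit 67) (Nat.add 
    (nat_lit 0xc985f2e012a8c658be3ce8ec04a7672fd3b4ecd4004e84504417451ba00fe8717b26ab36c20149ce7db3c251d1c0177294eae196796007e3454d682c909500a106efdac102c2001f31d59f7f0e161003062ad769b97d860043aeec8908a09a700769f84b3694227200cb043894c12302001b530292fe28703004837b239dffecb800d69fc61fe90c1d001354f6ba448989180175828d9cfdfe9a80513a8f062b3e60500582f9b38364041a010a6bc3059bbaa800015ea2296f224a1803642ff8413a26b5003ba653edfac054400a1288616f623f800124e0250419ba30000f80dc115893d5d003e484104bd381d800af8eb89187ea2bc00f14ee406d91370002f28ff477566f1200752f4123246707a0014d30b14505ae1c00d53686079d97d980581df94882237b9001404c83020f7b56003748b3bea4e76dc009a6091d8750aea807784143d932cd44003062d16a12cdd640105ec493bba0b41000eb1b11672949a98b06ac2d2c1a0e05b465a5c0db05f951302d86e34164fc26ba5a91957056d5cb63f56bc75e2d6310000030ffcc03542c8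d3d6d916709649cc0e2d91e58c59a7b4f6cfba237fead5a99d8ab847d84be06a9af7a747e4ac96e2a317e6087a294c96fa3985911b02f0dfa6a2d98952a3e7154d1c468f9c5e7199604934ed14885dbdd17616317b31b2e81332ca86ab8b221768e407ce88bca428ef3dfbd9e21da0bf4a99b12ee3cdff9896b18433349385d22f63a2f454bebe9672e1c9d39c228f84d34be6d8f0c9bb63389f40377e4e495e2a2f73cac81f37633b20c8e0b663828be7b43af7b9f7790b5aa7413a5e72cdaf677803a3b2593af6505ef429f9297ab4a52f9d002ee649dfaea78e50f1bdc37104310e512f1e245cee910ae120900ad74dee9d9d6066648982ac8550df813a375857a1724970699742863161a0865800ffa7e4e6da9f8163da3f33acd245a80ef8d2ed86ab7cc8085102f310d21f03e17f63ad9ea6afa49c43a66184cc2d325c886dcfe431e4a9cb501080d55b160cbff403782dace9d90000001f72969fd2a8ba5004bbbe0d130776e500811e6c55c7aed2000135fa825a4819a4020fbf3129715654001a90f314b760232006a4612257a801260099f90705bcc69cc039cbf1d1d826b64803f068b572f1cb3e0068653624f85afa000cf5e52500c50cf0008fc9f9c954965c0015dc91f9b950ada00c04fe0d1c0beda200540c0b7924df0d4007a8749bf1a3fb1802f8ea0dd4eebe8c006211e9c4928d1180087cf8b9c823970801ad63e7bc903dba00021bcb95f8c4c39004a1b616c1390b6a000f02670bfa8b32c019067184891071080116d055f8e16e4d0010f28c942a57b7e00102f3754b1f22740072129a2ba1307a000f9b7f1cf8138d3)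 (Nat.shiftLeft 
    (nat_lit 0x2b5e3af16b18800005202e3307ba3e50b79e27378733c393b3b39cbbca7807d57dda756c11047d92b5004b7c687198b3dd2c0929f6aedb6419f07b26de98c04c69fdd9243439e9d99bbafdbbf254cb3d02527736791ea3aebe006ea2ae162edf3d853bb4b999c9de92e376961b302a3a187c60372705e537af7d065aa6c0bce494fae2a3b342d6d3f55d91ae1186c2baf18c78131086c753bcf8c855709316ea1c26c0b648948c8142d9095512f5b8dca71367a2bad7ac16b4d2e030cdbf0a61689783b13be374cc1591557d6f240bc20b921d70a8ef93f12fd04130d4f08e3d4720e814426e9de97588990552a21574b99bd99f6370bb521c627f33c55a5035b8d37f6e74a769ecee083bfb0e8c38c29b83e18cc9cdff39cd293ba2f532eb5c3c847f378c25dfeaa471c712074489bb9133df86a5e6107ffb096c04889f61fbd57b00e4fb06b43ac3e0fb0527f3c186d45df100d9e085d8d2c036c8d32374e7185187f091b4305da29b298031666bca3053c31a6a0e781148896a1e3d4d46857661265cb867e2831dd02380fcdbb5f764b743cc64c465259e94d073a65aa7da93af260de767016f02c19601a709f055cfe3db90348e2187762642ad04e8b533445bafb26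0832bf3809634853a0ed53f2d30a4b75bc1e1e3ee20723319583d0dd112c36ff52b07973d9652b18beb80dedabe19fd5218d01869b8ac0742048d830af1c7d5969818805c60e12e9651b99e09d6848007b33ddbc0bbe5caf72235f470185e9094e055b630031b05564db73882a0507f6eabd542597403536c6c2ca3e13200e60ceb392d121fb017fb4fee054dcd0a0163608df4dbdc2f4025f8e64c100f1018055550421b4b3d3f005269f4ccff7c9ee01d6aa243adbaf8680203490849aab0ef0071dfbeca377e7ca0009c28d1f249832e012e121cd10df7130008b4dac18230eb60030fcd253f5cf89a0035dd108196cdb66005da84cd8494fb0c0397f5ed477e5d8200bdd82e46e642d6400ed662c9139f54a203782dace9d900000060c3af87a764fea009d5aebdeae2b1de00e738dcfd60bae1e02c6a8a081ba463d404aef8b629861fef00684f6edacff2bce014984cb0c) (nat_lit 8000))) i2) (pk61d (nat_lit 7) 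
    (nat_lit 0x305fbd76e5bb566c57ad56a53a54684f9d3664b95264478d16243850603f7cf5e3b74e5c376cd5a3364c582f5cb562b54a54274c95223448501f3c74e1b3464c172c54a13203868c178b05fbd76e5bb566c57ad56a53a54684f9d3664b95264478d162438505fbe7af1dba72d99b260ad3a54884e9c22240e2c382fdebb6ed59b15ead4a74a8d09d3664b95264478d161c282fddba70d5a3262b55234464905c382fddb96acd8af4a7ce9b324c78b121c17cf5db668cd9315e8d11c) i2))) (g1 i1) (g1 (Nat.succ i1)) List.nil) fun j => (pk61d (nat_lit 8) 
    (nat_lit 0xd6834d2000) j)) (nat_lit 0) (pk61d (nat_lit 48) 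
    (nat_lit 0x81d54f682f7f01057256e75a3b00223d7498005a44c318c4) i1) ((fun g1 : Nat → Nat => pk61l (fun i2 => (_root_.Prod.mk (pk61d (nat_lit 8) 
    (nat_lit 0x1978001) i2) (pk61d (nat_lit 2) 
    (nat_lit 0x75) i2))) (g1 i1) (g1 (Nat.succ i1)) List.nil) fun j => (pk61d (nat_lit 3) 
    (nat_lit 0x48c8) j)) ((fun g1 : Nat → Nat => pk61l (fun i2 => (_root_.Prod.mk (pk61d (nat_lit 18) 
    (nat_lit 0x870004400a70224060200007f051c014b841df) i2) (_root_.Prod.mk (pk61d (nat_lit 7) 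
    (nat_lit 0x62c2e1b298cbacaf) i2) (pk61d (nat_lit 2) 
    (nat_lit 0x2eaba) i2)))) (g1 i1) (g1 (Nat.succ i1)) List.nil) fun j => (pk61d (nat_lit 4) 
    (nat_lit 0x94210) j)))) (nat_lit 0) (nat_lit 4) List.nil) : List St)
    = ?xq9006 → (List St)) ?hq9006; (case hq9006 => (set_option maxRecDepth 1000000 in conv => lhs; reduce)); intro _; exact ?xq9006 : List St)

/-- steps -/
noncomputable def l4_0 : List St :=
  (by
  refine (?fq9007 : ((pk61l (fun i1 => (_root_.Cfsg.Agent.N2.Sp.St.fk (pk61d (nat_lit 7) 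
    (nat_lit 0x122fcd) i1) ((fun g1 : Nat → Nat => pk61l (fun i2 => (_root_.Prod.mk (pk61d (nat_lit 67) (Nat.add 
    (nat_lit 0x6aac3bc01c77efb28ddf9f2800270a347c9260cb804b848734437dc4c0022d36b0608c3ad800c3f3494fd73e26800d77442065b36d98025447b8237ee98700d0661e0586747f602ac8cd56177e467804029d714f42faad80de0b6b3a7640000014fb901fd2abd48402052ec77076a964402c6268d7a58bd2000a89903efc2513f300be53b80fe0d1ebc01282bc73f30540ec04dcdbb1241c9cd0002fb4ac8f5f2ff0101081e2c8c2ffa04001222be8a0541b6cc033af2b3373b57b7005f1c63512e99334003542a5322357c0801c7f7e5c200d07800213ffc370749bf8006b5b5abdbb1feec00a492cde110045fe00d263966280227f40152a1080cc84458002e337c0b246b32b0072a7b25d64c7cb60115f32f38d8e8b20035d2df4c07ce08800409301050f7399800476abbfbdc2041c01464679728f1194401cb63cd6fabd85d801c254c48acf99f900588f60abcbd942a00b8a892d3ee3231c0138575f5423ddce801649a7940ac20a5002faaf92a4b2fcca00824f6e5f79f1c7001a0c95cee24c2ee8037b36fe8ed744b7000d9143a9ef3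e7d2007a845641629a8f0029fe4b191400b1600181a212fa073a73014aa296dfc0891a200110305371e189c402c76bb8a5ae35e78020477ef7008e81b007148bfee5faca50021c23fcf96ddb16c00fb2204a2ba505f0089dfb0d6b8a024901bc16d674ec800000119b19bf87a591580564670e8ff688c1804d2aca2447a39a800b34e598d60cff2801670a835bca27d3001c9f2cda389f580002c92f4590807aa30063d14e909b35bce008e2057c9a5a7448025174232425abb680303c9ffbe4343e2007e087cfadb4f0860009b1ebefd7bd180011cb7a18e6025f7003317c01530fca350099bd82ba7fc1a3000e5635e0fd388fb401264b718ad94ecb8053c5bd1322fc1a200922a15235db93180055c3e44cbe887180270accd5f4b234700bbb35651cc77fa300a3e5c2a61da8b7a001bb305c7be4fba800f1e3f3df3ab6fc8014528254bd8eb860015bc98bb814996a00d8468e1afd812b00038f0f2f38541c2002e85ee8b3e46e1b000ab86215ff0175e00772416869df4a4000943cc2303001e38003aa8c4ec13fa460005cc11f05fc09fa003a6a51c9ca4eb9c00df8d890051949b0015ecd3b0ef65fa2015d8e2bb1eab4a2e03782dace9d9000000303a6fcc0e3d61c005096ca28b6c9b2900905a6201548ec1402ce30db1efd8b5d800979e692b03ff150037b2dacf4a12007000d6ccb7ed1376ce0095827cdd11cc67c0045376e90aed5b880016edec0c300451005bbee004a8933620043fd9ce48f5ae00016540832cb94a1e001273a07296d06170001dc8588856463a002730bf568f00ccc00a86369c551572a002f6ed56f5bb6e96)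 (Nat.shiftLeft 
    (nat_lit 0xad78ebc5ac6200001480b8cc1ee8f942de789cde1ccf0e4ecece72ef29e01f55f769d5b04411f64ad4012df1a1c662cf74b024a7dabb6d9067c1ec9b7a630131a7f76490d0e7a7666eebf6efc9532cf40949dcd9e47a8ebaf801ba8ab858bb7cf614eed2e667277a4b8dda586cc0a8e861f180dc9c1794debdf4196a9b02f39253eb8a8ecd0b5b4fd57646b8461b0aebc631e04c421b1d4ef3e32155c24c5ba8709b02d9225232050b6425544bd6e3729c4d9e8aeb5eb05ad34b80c336fc2985a25e0ec4ef8dd330564555f5bc902f082e4875c2a3be4fc4bf4104c353c238f51c83a05109ba77a5d62264154a8855d2e66f667d8dc2ed487189fccf156940d6e34dfdb9d29da7b3b820efec3a30e30a6e0f86332737fce734a4ee8bd4cbad70f211fcde30977faa91c71c481d1226ee44cf7e1a979841ffec25b012227d87ef55ec0393ec1ad0eb0f83ec149fcf061b5177c403678217634b00db234c8dd39c61461fc246d0c1768a6ca600c599af28c14f0c69a839e0452225a878f5351a15d9849972e19f8a0c77408e03f36ed7dd92dd0f31931194967a5341ce996a9f6a4ebc98379d9c05bc0b0658069c27c1573f8f6e40d238861dd8990ab413a2d4cd116ebec9820cafce0258d214e83b54fcb4c292dd6f07878fb881c8cc6560f437444b0dbfd4ac1e5cf6594ac62fae037b6af867f548634061a6e2b01d0812360c2bc71f565a606201718384ba5946e678275a12001eccf76f02ef972bdc88d7d1c0617a42538156d8c00c6c155936dce20a8141fdbaaf550965d00d4db1b0b28f84c8039833ace4b4487ec05fed3fb815373428058d8237d36f70bd0097e39930403c4060155541086d2cf4fc0149a7d333fdf27b8075aa890eb6ebe1a0080d24212)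 (nat_lit 8000))) i2) (pk61d (nat_lit 7) 
    (nat_lit 0xc17ef5db96ed59b15eb55a94e951a13e74d992e549911e345890e14180fdf3d78edd3970ddb3568cd93160bd72d58ad529509d325488d121407cf1d386cd19305cb15284c80e1a305e2c17ef5db96ed59b15eb55a94e951a13e74d992e549911e345890e0be7af1db96ccd9305c9d29d3844481c58705fbd76ddab362bd5a94e951a13e74d992e549911e34282f1dba72e1ab462b55224264905c382ed9a53e74d991e2c382f9db464c5523) i2))) (g1 i1) (g1 (Nat.succ i1)) List.nil) fun j => (pk61d (nat_lit 8) 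
    (nat_lit 0xc471401400) j)) (nat_lit 0) (pk61d (nat_lit 48) 
    (nat_lit 0xa8c880d43dbf0128b53095f800c3dd272baf005620da4b16) i1) ((fun g1 : Nat → Nat => pk61l (fun i2 => (_root_.Prod.mk (pk61d (nat_lit 2) 
    (nat_lit 0x6b) i2) (pk61d (nat_lit 2) 
    (nat_lit 0x75) i2))) (g1 i1) (g1 (Nat.succ i1)) List.nil) fun j => (pk61d (nat_lit 3) 
    (nat_lit 0x48c8) j)) ((fun g1 : Nat → Nat => pk61l (fun i2 => (_root_.Prod.mk (pk61d (nat_lit 42) 
    (nat_lit 0x21c00000000110000000029c00000008900000001808000000005560000009c8000000000027000009e4cbbd51bbc6599) i2) (_root_.Prod.mk (pk61d (nat_lit 7) 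
    (nat_lit 0x316170d94c65d64a08) i2) (pk61d (nat_lit 2) 
    (nat_lit 0xbaaea) i2)))) (g1 i1) (g1 (Nat.succ i1)) List.nil) fun j => (pk61d (nat_lit 4) 
    (nat_lit 0xa5320) j)))) (nat_lit 0) (nat_lit 4) List.nil) : List St)
    = ?xq9007 → (List St)) ?hq9007; (case hq9007 => (set_option maxRecDepth 1000000 in conv => lhs; reduce)); intro _; exact ?xq9007 : List St)

/-- steps -/
noncomputable def l5_0 : List St :=
  (by
  refine (?fq9008 : ((pk61l (fun i1 => (_root_.Cfsg.Agent.N2.Sp.St.fk (pk61d (nat_lit 7) 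
    (nat_lit 0x122fcd) i1) ((fun g1 : Nat → Nat => pk61l (fun i2 => (_root_.Prod.mk (pk61d (nat_lit 67) (Nat.add 
    (nat_lit 0x88d7d1c0617a42538156d8c00c6c155936dce20a8141fdbaaf550965d00d4db1b0b28f84c8039833ace4b4487ec05fed3fb815373428058d8237d36f70bd0097e39930403c4060155541086d2cf4fc0149a7d333fdf27b8075aa890eb6ebe1a0080d242126aac3bc01c77efb28ddf9f2800270a347c9260cb804b848734437dc4c0022d36b0608c3ad800c3f3494fd73e26800d77442065b36d9921c17a396c59fd7b38e00c620123469b6d7701ec7782eb73883cbd52eac59a1a33d6bc75e2d63100000743760764da30e37292b9ddcf1193ff15cabfcf0ec510a148fb387d0d34b73ba3ef6d668ca23a64c71d05494af521610dfe9d83e75e78df2a54e602c083a2803bd874c7454766787d4fa3d4613f2703397e8a9a1508ac9f07a11e59e1b3735d6923f07fa3649249cfc7db657fc6ea008c6cfaa1dfdd03ecf619e08c584017009d3677ee0dd0408bccbf267035bdfe1b496addc940e01147d2d11f569a4025e8e92fb6a3f208fb1e57f70313208101d3a119153ba538e357e46d3b82e65b543c831bc62117354b1b7513c20e9c570569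48520258a115b8c0dd18c287dd1d53972cc4f80105d334b556854e0f558111cc1c6b188013ad40879707db2415fad10e9c7252a08b6913465dabdf87a23a2a680710788318461b8dc87a006e7982a6521c0649736f41837502be788a9b6100907bf5dfbb4f25429d45fdb8d11c43653a57bebdb466a58e0a05598095e7b886d75b20eca400ca9e829e3bb5d80ac68bfe86ebcd992391a9b19808289ef163a7041a01b409e933525225e00c631b3baa2198ac0507a6c3d0acf1ba80de0b6b3a764000000ce1a4725e86b670029c4dd79a86a555c01d55035df0393768063da832025c31110090d1963d7d93d2800740c2bb696bfb58009fbf8bf84ae7020035aab28a9fd865a007f16c2a0c08151c0092207469c0636bc00c6385f65a68ca58021f917ec85ea5ea00838a5034faf9d1800da68e7f10573fec014ce0abad5bab50805ff85cf070a3746004c78c295ea9d2fa002c02cfe36e588700138c5d9262e3d1680cfbd256c7193173006f97ac25586f6e6006e7d247aa4a8c200182f72849674ba1002ad0e7fdc37b088000f8b76e14dcbbc4005f658b08fe3c86001321ce26f695056001f83920882076b20069cbec597c4f92000482e0ca854f92ec00dbee7ee9a84da280043d7c8921d7b1b01bc16d674ec8000000cdd380e513dc448024341073f6ebd690012cddbf88bc629400d6485d32262a6c80035a28c40f91da4c00f93555c28b3570800a08903022168d1000e147c61223c0cc004443d55ad0309300057a72d8cc65f8500166d3ca48fc855c0009c64599779dffc0027fa2ab01d3c48c00f62c6209e30bbb80941e300ef9c8458)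 (Nat.shiftLeft 
    (nat_lit 0xad78ebc5ac6200001480b8cc1ee8f942de789cde1ccf0e4ecece72ef29e01f55f769d5b04411f64ad4012df1a1c662cf74b024a7dabb6d9067c1ec9b7a630131a7f76490d0e7a7666eebf6efc9532cf40949dcd9e47a8ebaf801ba8ab858bb7cf614eed2e667277a4b8dda586cc0a8e861f180dc9c1794debdf4196a9b02f39253eb8a8ecd0b5b4fd57646b8461b0aebc631e04c421b1d4ef3e32155c24c5ba8709b02d9225232050b6425544bd6e3729c4d9e8aeb5eb05ad34b80c336fc2985a25e0ec4ef8dd330564555f5bc902f082e4875c2a3be4fc4bf4104c353c238f51c83a05109ba77a5d62264154a8855d2e66f667d8dc2ed487189fccf156940d6e34dfdb9d29da7b3b820efec3a30e30a6e0f86332737fce734a4ee8bd4cbad70f211fcde30977faa91c71c481d1226ee44cf7e1a979841ffec25b012227d87ef55ec0393ec1ad0eb0f83ec149fcf061b5177c403678217634b00db234c8dd39c61461fc246d0c1768a6ca600c599af28c14f0c69a839e0452225a878f5351a15d9849972e19f8a0c77408e03f36ed7dd92dd0f31931194967a5341ce996a9f6a4ebc98379d9c05bc0b0658069c27c1573f8f6e40d238861dd8990ab413a2d4cd116ebec9820cafce0258d214e83b54fcb4c292dd6f07878fb881c8cc6560f437444b0dbfd4ac1e5cf6594ac62fae037b6af867f548634061a6e2b01d0812360c2bc71f565a606201718384ba5946e678275a12001eccf76f02ef972bdc)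 (nat_lit 8000))) i2) (pk61d (nat_lit 7) 
    (nat_lit 0xc17ef5db96ed59b15eb55a94e951a13e74d992e549911e345890e14180fdf3d78edd3970ddb3568cd93160bd72d58ad529509d325488d121407cf1d386cd19305cb15284c80e1a305e2c17ef5db96ed59b15eb55a94e9519f3a6cc972a4478d1624382fdf3d78edcb666c98b05c9d29d38240e2c382fdebb6ed59b15ea53a54674d992e549911e34282fddba70d15213864905c382ed39f3a6cb931a0b462bcc86) i2))) (g1 i1) (g1 (Nat.succ i1)) List.nil) fun j => (pk61d (nat_lit 8) 
    (nat_lit 0xb865351000) j)) (nat_lit 0) (pk61d (nat_lit 48) 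
    (nat_lit 0xda6de2e9b5ea75e51bbbbac100ea200689980029e44c966b) i1) ((fun g1 : Nat → Nat => pk61l (fun i2 => (_root_.Prod.mk (pk61d (nat_lit 8) 
    (nat_lit 0x8e020205) i2) (pk61d (nat_lit 2) 
    (nat_lit 0x75) i2))) (g1 i1) (g1 (Nat.succ i1)) List.nil) fun j => (pk61d (nat_lit 3) 
    (nat_lit 0x48c8) j)) ((fun g1 : Nat → Nat => pk61l (fun i2 => (_root_.Prod.mk (pk61d (nat_lit 39) 
    (nat_lit 0x21c00000000880000000a7000000112000000180800000002708000018d2f00019ddefa000000003400000002e6be6af8b21) i2) (_root_.Prod.mk (pk61d (nat_lit 7) 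
    (nat_lit 0x18b0b86ca6bc65d66c88) i2) (pk61d (nat_lit 2) 
    (nat_lit 0x2eaafa) i2)))) (g1 i1) (g1 (Nat.succ i1)) List.nil) fun j => (pk61d (nat_lit 4) 
    (nat_lit 0xb6310) j)))) (nat_lit 0) (nat_lit 4) List.nil) : List St)
    = ?xq9008 → (List St)) ?hq9008; (case hq9008 => (set_option maxRecDepth 1000000 in conv => lhs; reduce)); intro _; exact ?xq9008 : List St)

/-- steps -/
noncomputable def l6_0 : List St :=
  (by
  refine (?fq9009 : ((pk61l (fun i1 => (_root_.Cfsg.Agent.N2.Sp.St.fk (nat_lit 0) (pk61l (fun i2 => (_root_.Prod.mk (pk61d (nat_lit 34) 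
    (nat_lit 0xeab9bc4007aa289c91bd967ef9fe69d8b89d7e906dec6e81fb728b958ec1c9db7fab7b533daae06c1cea96e3bae64c403bed8d28ec3820d5cb3367763254c5c3f655c26e418a425b58444ec6b1ae010d9828795261726f3597a1b282d5e14ef3696f4184295a3432a25613f13e25078bd3713b2a4fc74cf8bd8ed2ea56ecf4aeca85c9261412794600bd58d0f74f4ac43d9580550d4f36ec3b9952694db45e9db281a05a2c9a0bb31024c88507485a61dca1f1c473487a36f6981c4b8bab060de726b17c17c8b057f732fa14efb6060507d5ad412d2390604439788810208fec03cbd0b880ec0c5e002e3fe5a6098a2ee84245bc5c908fa9dda823b61ccb087f1da081f400eba07db4f8dc1e37743a0752fdcd418213d850489fa9640e35caeb0364b3edc0b22d177020d8798c07c462ba01a2365a003d81e7f01079d1680343e27200c00f25403096d8b009b749200199c2140085370ac01059e3a0049287fc0084ba89002e3ad6400318306002a6f2dc001c5bd80004739f4000ce3dd) i2) (pk61d (nat_lit 7) 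
    (nat_lit 0x3161c17ef5db96ed59b15eb55a94e951a13e74d992e549911e345890e14180fdf3d78edd3970ddb3568cd93160bd72d58ad529509d325488d121407cf1d386cd19305cb15284c911203c70d1824407) i2))) (nat_lit 0) (nat_lit 90) List.nil) (nat_lit 0) (nat_lit 1000000) List.nil List.nil)) (nat_lit 0) (nat_lit 1) List.nil) : List St)
    = ?xq9009 → (List St)) ?hq9009; (case hq9009 => (set_option maxRecDepth 1000000 in conv => lhs; reduce)); intro _; exact ?xq9009 : List St)

/-- steps -/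
noncomputable def l7_0 : List St :=
  (by
  refine (?fq9010 : ((pk61l (fun i1 => (_root_.Cfsg.Agent.N2.Sp.St.fk (nat_lit 0) (pk61l (fun i2 => (_root_.Prod.mk (pk61d (nat_lit 36) 
    (nat_lit 0x2edfd0c88a382bc58111e94797c4c52a317c73154837c6ffa11577627b8c0743dc29de743e0ebf67304c386663acbd32f5fdfa1c6e594e44cf951258db524c8bc97b64abd031bb4ae4e597a488bc0f39456f5cf9e4210075b83fde21e6b3fb4d9c5c3e122492e3d15348033bca8078a35eae224d35a67e108345d5456b32c598ce33323447b531d1e8c872ee01e5b12dfa30c222df8a3cda2d919220827da9450724dce8f7d1b4647e8f1a9a242a718ee2f80a165c72118153f3838f14dfa0f65134a12f4910b262b50103e992b20eeb4f1a00de5dde600dac6e5f90cbeec1ab0bc8dc6540b59f264709a5624000a157d8e9076db04bb06364131006281332d06529e49d06088604e05f90234f05425afb405a9f718204e0f7f5704b603ec503a1896bd02f39e5890290074180267b216c01e7dafa101119f07c0186dc7f900ebe203000dd8b6520080bf1d000b6dc58d00daac00d00a9baa5400749f71000799d7d0006ffd17a009c4b23b000397dad) i2) (pk61d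 (nat_lit 7) 
    (nat_lit 0x3160bf7aedcb76acd8af5aad4a74a8d09f3a6cc972a4c88f1a2c4870a0c07ef9ebc76e9cb86ed9ab466c98b05eb96ac56a94a84e992a446890a03e78e9c3668c982e58a94264880c) i2))) (nat_lit 0) (nat_lit 82) List.nil) (nat_lit 0) (nat_lit 100000000) List.nil List.nil)) (nat_lit 0) (nat_lit 1) List.nil) : List St)
    = ?xq9010 → (List St)) ?hq9010; (case hq9010 => (set_option maxRecDepth 1000000 in conv => lhs; reduce)); intro _; exact ?xq9010 : List St)

/-- steps -/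
noncomputable def l8_0 : List St :=
  (by
  refine (?fq9011 : ((pk61l (fun i1 => (_root_.Cfsg.Agent.N2.Sp.St.fk (nat_lit 0) (pk61l (fun i2 => (_root_.Prod.mk (pk61d (nat_lit 31) 
    (nat_lit 0x789725ad7fc828d15ca29e49a80abdd59fe8519b18a9f2c18bbc1945f444db8a367389004cf90d0715a8dd19017eaaf3f8a15844c3d6765aae4d5f7939f359d46a2207a9fb2ba016ced49941a31bf5b2d759889da01a0288410ad13ca138b3f7d3ed1d4e6723d45789730619b0a475b826ea9e22294281b0ee4a1fc0e18ae2e1b1094503cd2ce10b6e4df48a950e30488e059a42e1bf0082a9aa28d2a995b21266860229a0f2c2fc8ae20cc3c18b192405a80124446490f92ce88c1f6810cbe0b4606c44978330b6ab852f0dc50eb78a060b016618521fd9088c5346a) i2) (pk61d (nat_lit 7) 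
    (nat_lit 0x61c17ef5db96ed59b15eb55a94e951a13e74d992e5498f1a2c4870a0c07ef9ebc76e9cb76cd59b262c17ae56a94a34478e16) i2))) (nat_lit 0) (nat_lit 57) List.nil) (nat_lit 0) (nat_lit 100000000) List.nil List.nil)) (nat_lit 0) (nat_lit 1) List.nil) : List St)
    = ?xq9011 → (List St)) ?hq9011; (case hq9011 => (set_option maxRecDepth 1000000 in conv => lhs; reduce)); intro _; exact ?xq9011 : List St)

/-- steps -/
noncomputable def l9_0 : List St :=
  (by
  refine (?fq9012 : ((pk61l (fun i1 => (_root_.Cfsg.Agent.N2.Sp.St.fk (nat_lit 0) (pk61l (fun i2 => (_root_.Prod.mk (pk61d (nat_lit 20) 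
    (nat_lit 0x4e3fba9cde9b4382a2fa875d774ef05fad83405c5baab52a216b4c05bb3b513791ffe822948284d53399b4d4da310284dc96313c3247203bc36275742567071b162c8ab0b9ec024750090f3fc5a4176127ca93ff631c2ff0261f43a4c15ff80e9a01c546127a30083200e9a00efd681c8287c6) i2) (pk61d (nat_lit 7) 
    (nat_lit 0x3160bf7aedcb76acd8af5aad4a5467ce9b325ca931e345890a0c07cf5e3b74e5bb666bd72d4a90e17) i2))) (nat_lit 0) (nat_lit 46) List.nil) (nat_lit 0) (nat_lit 1000000) List.nil List.nil)) (nat_lit 0) (nat_lit 1) List.nil) : List St)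
    = ?xq9012 → (List St)) ?hq9012; (case hq9012 => (set_option maxRecDepth 1000000 in conv => lhs; reduce)); intro _; exact ?xq9012 : List St)

/-- steps -/
noncomputable def l11_0 : List St :=
  (by
  refine (?fq9013 : ((pk61l (fun i1 => (_root_.Cfsg.Agent.N2.Sp.St.fk (nat_lit 0) (pk61l (fun i2 => (_root_.Prod.mk (pk61d (nat_lit 51) 
    (nat_lit 0xc45861391ccbc06c7b6ce5180f23b4432512aaf37fc4b4523416063a7b6f16c8e8a70708985ea4dba646eb4c18d6c3e50a82a3a8f2783da0fcdba40ce3dbfff60dc7da4232956ea0bd6911e97e138705832f8dc1a4058a3c8a609841c55906f630c47b6ead4b6d5c670db0201c22aa35f0382d0d80f566aa7c2b57899f2755f465b47b3bbfd61d76959a88a9efd69024b97f908478f7ae4b5262b0e47ba87f9ac3dcf1c80dc8d64f4ca278ed5619f4162f35cc16a21f2c47b8f184e9122c1bcf6c81e99baa5) i2) (pk61d (nat_lit 7) 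
    (nat_lit 0x18b05fbd76e5bb566c56ab529d2a33e6cc951a2c278e5a2f5c9928d) i2))) (nat_lit 0) (nat_lit 31) List.nil) (nat_lit 0) (nat_lit 10000000000000000) List.nil (pk61l (fun i2 => (_root_.Prod.mk (pk61d (nat_lit 17) 
    (nat_lit 0x6c001f819a) i2) (_root_.Prod.mk (pk61d (nat_lit 6) 
    (nat_lit 0x30bd4) i2) (nat_lit 2)))) (nat_lit 0) (nat_lit 3) List.nil))) (nat_lit 0) (nat_lit 1) List.nil) : List St)
    = ?xq9013 → (List St)) ?hq9013; (case hq9013 => (set_option maxRecDepth 1000000 in conv => lhs; reduce)); intro _; exact ?xq9013 : List St)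

/-- steps -/
noncomputable def l12_0 : List St :=
  (by
  refine (?fq9014 : ((pk61l (fun i1 => (_root_.Cfsg.Agent.N2.Sp.St.fk (nat_lit 0) (pk61l (fun i2 => (_root_.Prod.mk (pk61d (nat_lit 51) 
    (nat_lit 0x971ea2e9d63980537ea3e75b357eb76400c2cbbb6989cc6dd2b0f38941ee195cb3106224d8079c5e4558f06476cd9119cb16874710ed5e1ef5d5462cb0af8424a8cf167de66855256d66151b17260ab66405c15a126469cc71ca586d07ff6b74c3bcacbf8e1119346f6a628c95a7a006966a1be38fe292325a215bd34e84bd8fb2f415b43619a0be86780f8c5613e304d8d54065f58ef0ecf64bf57459eed49499a03acaee60a4f24140f4054244e09aff39094dd32e7d0128b9e36dae3d02bd212e0fea5e4) i2) (pk61d (nat_lit 7) 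
    (nat_lit 0x18b05fbd76e5bb566c56ab529d2a33e6cc951a2c278e5a2f5c9928d) i2))) (nat_lit 0) (nat_lit 31) List.nil) (nat_lit 0) (nat_lit 10000000000000000) List.nil (pk61l (fun i2 => (_root_.Prod.mk (pk61d (nat_lit 17) 
    (nat_lit 0x54001928c9) i2) (_root_.Prod.mk (pk61d (nat_lit 6) 
    (nat_lit 0x30bd4) i2) (nat_lit 2)))) (nat_lit 0) (nat_lit 3) List.nil))) (nat_lit 0) (nat_lit 1) List.nil) : List St)
    = ?xq9014 → (List St)) ?hq9014; (case hq9014 => (set_option maxRecDepth 1000000 in conv => lhs; reduce)); intro _; exact ?xq9014 : List St)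

/-- steps -/
noncomputable def l13_0 : List St :=
  (by
  refine (?fq9015 : ((pk61l (fun i1 => (_root_.Cfsg.Agent.N2.Sp.St.fk (nat_lit 0) (pk61l (fun i2 => (_root_.Prod.mk (pk61d (nat_lit 38) 
    (nat_lit 0x3bf66c2055419cac397957b456a198b42725d1472e34ae7cea8b525f6611ea1a798c2ca5312e624acf05d56055b054349d637b52c4f5698fec5675b7619db6a3faa333406d99b054425848676053484a8c05fb003dd0e8d55d690f50619be63414702954d77d1bac942632affd0e9a148fd910515fd308485c81d385106d048c93a7b2fa6247eef1cbbc62bfb182e) i2) (pk61d (nat_lit 7) 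
    (nat_lit 0x315fbd76ddab362b54a74a8cf9d3664b932234584e5a325ea92a2) i2))) (nat_lit 0) (nat_lit 30) List.nil) (nat_lit 0) (nat_lit 1000000000000) List.nil (pk61l (fun i2 => (_root_.Prod.mk (nat_lit 13) (_root_.Prod.mk (nat_lit 20) (nat_lit 2)))) (nat_lit 0) (nat_lit 1) List.nil))) (nat_lit 0) (nat_lit 1) List.nil) : List St)
    = ?xq9015 → (List St)) ?hq9015; (case hq9015 => (set_option maxRecDepth 1000000 in conv => lhs; reduce)); intro _; exact ?xq9015 : List St)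

/-- steps -/
noncomputable def l14_0 : List St :=
  (by
  refine (?fq9016 : ((pk61l (fun i1 => (_root_.Cfsg.Agent.N2.Sp.St.fk (nat_lit 0) (pk61l (fun i2 => (_root_.Prod.mk (pk61d (nat_lit 51) 
    (nat_lit 0x10b52aaeec0f4acce630f26d2ba69a6c1b03308dc4431e0bfb053d558b051bb920ad16c81e9346c3e68adb83d26c8d04b0a5689b633dfcdf979b1161f2d0a42a524b495516fa42c367dd2a67a98173b0b2407e3d1c3e8e3235139fc65b79c12eb4a321382668dad6f128fc04180d54b99a92ff10380975cbece888b6383ce26ce82e2ad59a1a1e0577da3705f49fdcd6da2ef08231ef2eb300848bf692fe40b8a14ca02d34605a4eb486f16deaf4042294afe140b0cdb1bf900dc1e7b8d0337) i2) (pk61d (nat_lit 7) 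
    (nat_lit 0x315fbd76ddab362b54a74a8cf9d3664b932234584e5a325ea92a2) i2))) (nat_lit 0) (nat_lit 30) List.nil) (nat_lit 0) (nat_lit 10000000000000000) List.nil (pk61l (fun i2 => (_root_.Prod.mk (pk61d (nat_lit 17) 
    (nat_lit 0xc1d0c3) i2) (_root_.Prod.mk (pk61d (nat_lit 5) 
    (nat_lit 0x3d4) i2) (nat_lit 2)))) (nat_lit 0) (nat_lit 2) List.nil))) (nat_lit 0) (nat_lit 1) List.nil) : List St)
    = ?xq9016 → (List St)) ?hq9016; (case hq9016 => (set_option maxRecDepth 1000000 in conv => lhs; reduce)); intro _; exact ?xq9016 : List St)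

/-- steps -/
noncomputable def l15_0 : List St :=
  (by
  refine (?fq9017 : ((pk61l (fun i1 => (_root_.Cfsg.Agent.N2.Sp.St.fk (nat_lit 0) (pk61l (fun i2 => (_root_.Prod.mk (pk61d (nat_lit 51) 
    (nat_lit 0x119f3a9b5540e1529c0a51957780f659e5627b4bd8062048ee2d56e5295b770b0f3a894d617c45247a71c0a596d3ba86f8f2e1e3b32f09947de07d86177d598a109f75e3a45384a3eb5e5960208bbab8cf16a80e3483280c5af63d8cf6340d0269b735ef886180b6b656bd0fc0823d43e836e060469589e38204ba47b664482cab6b3008f95fa381f19f09d3b2236a0edc1e71043b5aa0eea147d4a920ad9880209ef5aeb54b04e1b04b4af6c919b4f8ee29bc9eba54565e5319608ad60f687) i2) (pk61d (nat_lit 7) 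
    (nat_lit 0x3160bf7aedbb566c57ad529d2a33e74d992a4c88f0a0be78bd325) i2))) (nat_lit 0) (nat_lit 30) List.nil) (nat_lit 0) (nat_lit 10000000000000000) List.nil (pk61l (fun i2 => (_root_.Prod.mk (pk61d (nat_lit 17) 
    (nat_lit 0x440091106c) i2) (_root_.Prod.mk (pk61d (nat_lit 6) 
    (nat_lit 0x2f794) i2) (nat_lit 2)))) (nat_lit 0) (nat_lit 3) List.nil))) (nat_lit 0) (nat_lit 1) List.nil) : List St)
    = ?xq9017 → (List St)) ?hq9017; (case hq9017 => (set_option maxRecDepth 1000000 in conv => lhs; reduce)); intro _; exact ?xq9017 : List St)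

/-- steps -/
noncomputable def l16_0 : List St :=
  (by
  refine (?fq9018 : ((pk61l (fun i1 => (_root_.Cfsg.Agent.N2.Sp.St.fk (nat_lit 0) (pk61l (fun i2 => (_root_.Prod.mk (pk61d (nat_lit 50) 
    (nat_lit 0x1018cfd7c33a130e04ecdd61b2daf20d4e86885ee5f87d71c3e7338cf148692a6cf4f376985ebed615d4953df1ba36939a1f83d5d92f39729292bfb078ec81993b9bbb5d364010af77a8c896be2d905c14d7efb5ed7ea525e557da6da5be2293d44ac68bc3c35836e077aafb9fabbc2b5836532a9002f613e0788276df1ecec8260396107ed1e545105e4b420c9358083888eca167680216c78c6234b220b4b3d106905cefcaae2f78747dd7487eafa116c7f973f12) i2) (pk61d (nat_lit 7) 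
    (nat_lit 0x62c17ef5db566c57ad529d2a33e74d992a4c88f0a0be78d57a5) i2))) (nat_lit 0) (nat_lit 29) List.nil) (nat_lit 0) (nat_lit 10000000000000000) List.nil (pk61l (fun i2 => (_root_.Prod.mk (pk61d (nat_lit 16) 
    (nat_lit 0x250084d616) i2) (_root_.Prod.mk (pk61d (nat_lit 6) 
    (nat_lit 0x2f794) i2) (nat_lit 2)))) (nat_lit 0) (nat_lit 3) List.nil))) (nat_lit 0) (nat_lit 1) List.nil) : List St)
    = ?xq9018 → (List St)) ?hq9018; (case hq9018 => (set_option maxRecDepth 1000000 in conv => lhs; reduce)); intro _; exact ?xq9018 : List St)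

/-- steps -/
noncomputable def l17_0 : List St :=
  (by
  refine (?fq9019 : ((pk61l (fun i1 => (_root_.Cfsg.Agent.N2.Sp.St.fk (pk61d (nat_lit 6) 
    (nat_lit 0x2e5ef) i1) ((fun g1 : Nat → Nat => pk61l (fun i2 => (_root_.Prod.mk (pk61d (nat_lit 59) 
    (nat_lit 0xd62774e20000004d2d2101b000000713876344000003716af0ef8000000d0acaa95000000b306adf8a000001af9f1eaca0000074c85d9060000005aea6e8060000004370476340000012909934ec000002a4ea4f6a40000015c5fe0af80000093832e295000000b1cc59290000001cf13a9c98000001c3f9e46b0000009b1a7179b00000131a62ee12000003518aa9ad000000327e48bb980000049a75fd7500000117b117206000003fae78c884383403ce9066060485cc662014a63202c029019bd1f25a07138d6a845440c4ce44275c94e84bb9f1f706fa9916ae85d29ad447626f64ffb741bc8054fb26598b0da301c4a9ec28b53190aceea3c7e5fe7033e0cb6bf5fbc701208323105d11790d979961772c09089cbcec263e6bc42e297aab8db7e8236126c9e79982024cb8cf45e80fe2e3ce32adbe3a3035cad5d00bfbe2c10d30c57b47d1d158599a1a1d87be058818e021cf70e87981fe2edf29581cce39287db1ff9c33fe51f0473851055c6d1452332a017045fe507bc68437a04d0367c04870c97c25ca4986188687dea748a301ec6eca273a8388008f0ebc937dbd8c0af18dbb24fb9282311b833776de62c3ea3b8777484c47312d66b4f3496746f70d3762a7036fd6740333aa61979e465b7ee0fc2e8d1eb0094c82a08eab5e6572b9c02491209d643f881199df72361c5671461c3f13c74bd02386f26fc10000)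 i2) (pk61d (nat_lit 7) 
    (nat_lit 0x3160bf76e5ab362bd6a94e9519b325499109eb45e970e0bf76dd9b15ead4a53e6cc972a4c88cf9e26200b05fbd6ed59b1568cf992e5467ce19962a4c082) i2))) (g1 i1) (g1 (Nat.succ i1)) List.nil) fun j => (pk61d (nat_lit 7) 
    (nat_lit 0x465c58080) j)) (nat_lit 0) (pk61d (nat_lit 60) 
    (nat_lit 0xe8d4a51000de0b6b3a7640000de0b6b3a7640000000000000000000) i1) ((fun g1 : Nat → Nat => pk61l (fun i2 => (_root_.Prod.mk (pk61d (nat_lit 3) 
    (nat_lit 0x509) i2) (pk61d (nat_lit 2) 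
    (nat_lit 0x59) i2))) (g1 i1) (g1 (Nat.succ i1)) List.nil) fun j => (pk61d (nat_lit 3) 
    (nat_lit 0x48d0) j)) ((fun g1 : Nat → Nat => pk61l (fun i2 => (_root_.Prod.mk (pk61d (nat_lit 22) 
    (nat_lit 0x702ac7bf278f) i2) (_root_.Prod.mk (pk61d (nat_lit 6) 
    (nat_lit 0x14b54) i2) (pk61d (nat_lit 2) 
    (nat_lit 0x2e) i2)))) (g1 i1) (g1 (Nat.succ i1)) List.nil) fun j => (pk61d (nat_lit 2) 
    (nat_lit 0x390) j)))) (nat_lit 0) (nat_lit 4) List.nil) : List St)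
    = ?xq9019 → (List St)) ?hq9019; (case hq9019 => (set_option maxRecDepth 1000000 in conv => lhs; reduce)); intro _; exact ?xq9019 : List St)

/-- steps -/
noncomputable def l18_0 : List St :=
  (by
  refine (?fq9020 : ((pk61l (fun i1 => (_root_.Cfsg.Agent.N2.Sp.St.fk (pk61d (nat_lit 6) 
    (nat_lit 0x79df2e5ef) i1) ((fun g1 : Nat → Nat => pk61l (fun i2 => (_root_.Prod.mk (pk61d (nat_lit 60) (Nat.add 
    (nat_lit 0x164bd00000000000bbc300000000000628d00000000001037300000000000309b00000000000c94e000000000000226000000000007bb000000000000b73200000000000332000000000001402600000000000dd510000000000058b1000000000006808000000000000e81000000000003ddd000020aeba5b9c900003f49b834eb600006ac45eb0cb900001d1b302239800002e194658b44000049404024a1000005dfabe2862f00002feee354734000036b4994a2a20000188f2f9212b000029a7ba7a7a700002afbf0ee95a00000ba65d7ee87000022b868a7a3200002f5c3e4dcdf00000188b54142b000019b52696f8e00000f648d4d0720000313996d2b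5d000007d047a47fe00007adba5a51c40000165fbdece8f00001d250373b5d00000581b32fae100000fee4a54dc30000006bba658ea0ace96d62b9d4c105af422cba2d2d7165783ab93dc579051028ef33c0e03129e1acbea0cce20de1a789c4b6fd401173352bde612b05aa7e5e98529330797c904f4654cc0682f3f09d5a17f0594188d0e318f20152ce337c429aa077ddaf5fed9e26061785fea5b11cf05e9074f948209a0c5cac859be89d30ea7d3d6e577afe01650f3650e05fe0b209b6c8bfe1e904bad85a7923f0400f9a61fcf815aa00e9b1114cbc4db244e5f549fd00ab00a2d77a280911f00a81710f2e93bb00e325176cb90e5092e7226141bfbe0e2ca20d17b3f9e0438eb28ff030df082642edce11d3e097f8d7e2265a150181e26de9a41ea07e4970b554a90f146aab99599cdad08fccdb1ff9a39e0ae2b01a71c5b64003ab5ddab8e502070d025de4f2b49006481d374c1f32083af17160bf79503eb1f31582cbb50de85bf61017912027be0d1c89921a07cfdf6fea99cc10e3379f4ba7350905b46983e3e39ed03ce703e9cdcc7100cd7d07e9a0c3c0d0e0abc005ef41031319fbaee5a05004c87de118ab8c032d43701d13a110d195e5dccbf85714cf1bfb3b92ac30384135baab7f6e02e4f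3a2ff6f68e074ceea9eef6b9103d288d2776c3d40c9d1bbc68fad4802bbbffb0f64a450c16fd5092fea940fd2fb240f5ff8b03c494bca9563070f0bba7178f397d0682585803e4ab615a4edeb274c57b0b2029a26d79dbf00b1095b1eeb0d0002bf54fc25801c0191d570d20c5200d393b6f7f78bb401b229cb8ed762327f6748c1d37ff616333a15be8738d00d2a172bcf5e84059b82139b236c017a49ff3bb65a5502d1d656484198a072a2282ab95afd10fd6af81c78e231dae29464404738175b5d3de1617471af870c08e0577103c2cdd4b7f4ab900578c8faac2e0600c35e9ccff4959050c00e267764230431662070cc3372ddcfaf0ad46562081139b2ccbc9b7af293e50ea7d42302386f26fc10000) (Nat.shiftLeft 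
    (nat_lit 0x25b90000000000060e10000000000010dc00000000000289c0000000000037820000000000045cb000000000006f0c00000000000cb350000000000) (nat_lit 8000))) i2) (pk61d (nat_lit 7) 
    (nat_lit 0x3160bf7aedcb566c57ad529d29f364438505a305cab15fbd76d59b15ea53a54674d992e549911613968c97a5c37aedab35ead4a74a7ce9b324468b0df305eb12a3c582edcb76acd8af5aad3a5366488f161c27abd5251a0f0e0bf76dd9b15ead29f325ca9319f3c6acd310057edd9b1567cc972a34360bd51c2c4c082) i2))) (g1 i1) (g1 (Nat.succ i1)) List.nil) fun j => (pk61d (nat_lit 8) 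
    (nat_lit 0x8e765c442a130100) j)) (nat_lit 0) (pk61d (nat_lit 60) 
    (nat_lit 0xf42400005af3107a4000de0b6b3a7640000de0b6b3a7640000de0b6b3a7640000de0b6b3a7640000000000000000000) i1) ((fun g1 : Nat → Nat => pk61l (fun i2 => (_root_.Prod.mk (pk61d (nat_lit 3) 
    (nat_lit 0x11549) i2) (pk61d (nat_lit 2) 
    (nat_lit 0x559) i2))) (g1 i1) (g1 (Nat.succ i1)) List.nil) fun j => (pk61d (nat_lit 3) 
    (nat_lit 0xdb58d0) j)) ((fun g1 : Nat → Nat => pk61l (fun i2 => (_root_.Prod.mk (pk61d (nat_lit 23) 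
    (nat_lit 0x600079406d5cee0ecc) i2) (_root_.Prod.mk (pk61d (nat_lit 5) 
    (nat_lit 0xf51b4) i2) (nat_lit 2)))) (g1 i1) (g1 (Nat.succ i1)) List.nil) fun j => (pk61d (nat_lit 3) 
    (nat_lit 0x912440) j)))) (nat_lit 0) (nat_lit 7) List.nil) : List St)
    = ?xq9020 → (List St)) ?hq9020; (case hq9020 => (set_option maxRecDepth 1000000 in conv => lhs; reduce)); intro _; exact ?xq9020 : List St)

/-- steps -/
noncomputable def l19_0 : List St :=
  (by
  refine (?fq9021 : ((pk61l (fun i1 => (_root_.Cfsg.Agent.N2.Sp.St.fk (pk61d (nat_lit 6) 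
    (nat_lit 0x3d569635096d77cb97) i1) ((fun g1 : Nat → Nat => pk61l (fun i2 => (_root_.Prod.mk (pk61d (nat_lit 64) (Nat.add 
    (nat_lit 0xaf2e83dd9687df0077dac160002d8d003d496572389154001b070110ff6f34004066f79360215500a541fb7e5aea690072370fd1535db20017502a3dd92a6d004986433d60acff00689113e8c960d8000105277f09bca50017d160513d848200b9229b873743f2004914e18ae547320017fae8b60090c600b356a71b1ca7ba00eea06eb66db9bb005a54c42e7c017c006f3dc2d8ad0c8700bbeb376426b3d200239585e4b7599600e40a3ce254b8c3002cc6308557a5a000713364d729f7c400eb1112561eaae0006fa109137f6926009c770f44b500f2007ea320cbb97f6a00258cfeb454e11c000c9d514a8b4bf30088c27e60c5de330049220f82d77b98008d70b929e566ff002624f3bc00da8b004e31453b4310220000dec734b7a516000df8376a123acf003d81a1bfe46a74005d8e0d8f1c471100110eb6195001d500141bc7020937db00847142278e7349003e8755aa718f1a011e72da5199950a003968a22f503d7800e8e3265c8a1b9f009c4c2c2a33c6450015ebab5c19688c003cabb9fd6802140060ae2df8d60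70a005c08e972a6171a00518e43d58c178900065601cdb3e051005a5619b6cd7c64004bf6b25ad034740039cae45eec970700a6f0a789bde32700b0d197dc4440e600105f21f85100ea0089709769c66ae000405410a45d2731000751b7cc3dc70701c4de126d21b1e200100cba2dd8781d001169914791d14b000599b832de5bec007d041fb9283bc800a8a616fc9606e5003d80ad01de47f8006105a11b932fce0076d17997c54de500137c85b1212c0800594826716998bf00f8b577d3e5f27800694998b5f5a2f500819ec6df01d6fb000707dff5a510f6004f622704f281c9006c1f70d9398b7b003bb6c0576c55a100aae6d12ee0eb3200283ccc982b7658005fca20643c9ba500a743ec8e24b1b2004a7438305ca509002395d747e285e4000e90c3ceca778d009ba2db3ee6dc280032dcaabf80cf9a00262c852dc7068400a240dc8c74fe1701008b17113c59c1002b532a864e45b80022c9d914d1d8570058d58228e38654002e279db91cc5b3009d1b0921437c0c001f447c0b1673f1009424627e30e0be0000343949e1dcf700c333f8d588fb3c002f2314e4411d3900b9454251972a2b00529aeeceebdc74010c448cef67bb7300894a46dec7e30f000795715653db6f00142b7c3148ef2a00a024cf2189ef41001359201f0eb03a0201da5645a585b100874a16f9bc5fa80046390dc38f36be00bee2023d1fcd0e0095e79f94f8d8a300516c5b5a442b170102411536896fd1014a649ff27f41a401a9555286e6b94a01965be1aca5074a007f62764a661d830005e4ebb03c34ae0047714a6f9183e20334951143f08d640de0b6b3a7640000)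 (Nat.shiftLeft (Nat.add 
    (nat_lit 0xb7ce625e173900024c2bfeb7b0bb0000be87877d7cac0002dcea324676230000ed65ff7a7ae60000e9a15d4d5d7400016ae92b832f6c0000c3283cb6cd860000b21128fb957700026454a4c4472e00016fef4424a6fb000230535790c0f30000d3f5cb6b16df0000c0b437964ecc00007f9f06a00a9f0001b837ba4053cf6a8dae0054601381501aba6d1ae95e32079c44c68f4e4bcf0842aecc528be0b501a0bfbc2d76cb9d298c3cf4906036703aabe81eff22398c0c311f1919a6126e33475e5817720e3409759126d614468d32449028078f5084120f248121f344e44132161e1c19dc7812e1ec88f34fc3de00d758542d63f09b18393de12db1d61b508efd78cc983bd91bf76c795aa76cac08c521361c8069fb2bfcbce72eaeecef0c318d1a22aa0a5e2d1989c5aeb80de30d7ba846896871d0272f5860c5999140bd991c7913c6c65137da10092376fd4124befeb78f15ca6d2b435380550d275a1eb096b8c4670d7c0456377414107eba4070b3423c85ed3c0a56ffba150b5e15358e4795449e353b1e9a4302f0ef80263fd81b1b45581e2b007bfb4dd84eae024ae360e66c02677200963b822f75ae9500050ae2b446291200f46269bed17987009d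35a39a2b86af00abc93eda3b9114015646eb970e70120007868dbe5774ba007b2da66f2764b500b3fb84234a794d00386e22c1ab343b009c59d9aedc1b8600364dd751da8c870098e9d63dd471330056fb858b8de3d500150e2f40b9ffa500b62c66f58a0b590082ba368f0fc43700115343072962f20060e38a22d62c3b954bf67986e1b68f259b0a63a137a4092896581aeb1737220a6742eb301a317940b59ea7da27452907a00806b3dce5745366c73cf6379f8c71769ad0ccbef6de19acbff42771e89e29feacddb8847d590c263f0e12461d594bdfa1195369cbd40f9a2639f0913e7a5127a72d52fd577717712010e100ce6300f444a36c8209a921c2ccf651076eea07b4238959524095014828a6e91de1940e2cc9c5529d3c1d1ac177dd9b6b124f8a04d31e5a494b19343e762ea729b67600a4cd28ba929b1100090394f97294a200d0cbc65b57fc6c006ea6bad8974fc80026d9a0e16e928400d5a45f713b8542009975af43178ede00b53adefc31eb2600075a35ab0829ff0048137f02e9cee30067335a5fa5b08d00021fcdd203d520006158b67dd6b2730005242c17ab79fe002da12bcbdc1e15007bfcbe5f09782b00273e02568eaa9c00fa61e1f940186f0069368068ef2097003ce38ab567cae70000b67c42cea460005ef97a67ba922f0026d5971df8bd5400b38d5a0473668d0087857696debbf8004c4ee2d53eb7130097165a2e1b5f40001360d8b41807e9005d501c751ad6dc00b8b5f9c3e2fcd9)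 (Nat.shiftLeft 
    (nat_lit 0x33bc25fd1742) (nat_lit 8000))) (nat_lit 8000))) i2) (pk61d (nat_lit 7) 
    (nat_lit 0x17ef5ab362ad4a7466cc972a13d5e5efdebb72ddab362bd6a74a8cf9d3613f3d7eedcb566c54a74674d992e13d68bcbe1c16ac56ab529d2a33e6cc96f9eb45e73160bd6ed59b15ead3a54674d952213c64b951c2f82fdebb72cd7a94a8cf9d365458505cb45ca92e0bd76d59b15eb54a53664b91161c280d19305eb8e62c17ae5ab362bd4a73e6cb9505db96ed192d58a8e8dc37aedab35ead4a74a7ce9b324468b0df305e951e2c176e5bb566c57ad569d29b223c58709eaf5494683c17eedbb362bd5a53e74c972a4c67cf19a6200afd9b1567cc972a34360a8b01) i2))) (g1 i1) (g1 (Nat.succ i1)) List.nil) fun j => (pk61d (nat_lit 8) 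
    (nat_lit 0xfbead7c5b29b856d543d240e00) j)) (nat_lit 0) (pk61d (nat_lit 67) 
    (nat_lit 0xad78ebc5ac620000003782dace9d90000006cc3e0e5cc373e08002386f26fc10000) (pk61d (nat_lit 2) 
    (nat_lit 0x3eeaa9) i1)) ((fun g1 : Nat → Nat => pk61l (fun i2 => (_root_.Prod.mk (pk61d (nat_lit 9) 
    (nat_lit 0x13c6002840080202008040405) i2) (nat_lit 1))) (g1 i1) (g1 (Nat.succ i1)) List.nil) fun j => (pk61d (nat_lit 4) 
    (nat_lit 0xbba9876543210) j)) ((fun g1 : Nat → Nat => pk61l (fun i2 => (_root_.Prod.mk (pk61d (nat_lit 30) 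
    (nat_lit 0x10c28000000c0002ff9c046aca20d1eddb002eb1a1c0de883000015a40002e344cce2d57006bbf8822cd8e10003dc84041d481) i2) (_root_.Prod.mk (pk61d (nat_lit 6) 
    (nat_lit 0xb1e51e51e51e514512354) i2) (pk61d (nat_lit 2) 
    (nat_lit 0xaaaaaba) i2)))) (g1 i1) (g1 (Nat.succ i1)) List.nil) fun j => (pk61d (nat_lit 4) 
    (nat_lit 0xeb97542222210) j)))) (nat_lit 0) (nat_lit 12) List.nil) : List St)
    = ?xq9021 → (List St)) ?hq9021; (case hq9021 => (set_option maxRecDepth 1000000 in conv => lhs; reduce)); intro _; exact ?xq9021 : List St)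

/-- steps -/
noncomputable def l19_1 : List St := [
  .fk 0 [(27605069355069, 13), (2291129337417, 28), (702636550387, 34), (6381694474399, 47), (1153938727321, 49),
      (1349304328330, 57), (4042950539672, 69), (667344881546, 70), (995183452611, 74), (2176476344555, 75),
      (3401290389293, 77), (5142152620962, 88), (4901224922300, 91), (4914483411550, 92), (10251854734424, 93),
      (1679661243733, 94), (3543294690730, 96)] 0 100000000000000 [] [(423, 20, 2), (279, 44, 2)]]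

/-- steps -/
noncomputable def l20_0 : List St :=
  (by
  refine (?fq9022 : ((pk61l (fun i1 => (_root_.Cfsg.Agent.N2.Sp.St.fk (pk61d (nat_lit 6) 
    (nat_lit 0x31636542d77cb97) i1) ((fun g1 : Nat → Nat => pk61l (fun i2 => (_root_.Prod.mk (pk61d (nat_lit 65) (Nat.add 
    (nat_lit 0x98edc26beb6d0211fc489eaa8d456fcfe00c1d44a413022eb60294f360efdd326b1002978182227d374598e118cd12a558031329c0d49afb2970c0591950d38699e87b74d7860502f54836cce61932ad8970001ad7f80b1186480576786f1a876297896d9a336e8805de41d81b638852bc02a4ca99774b0b4fcb00eaee461c661378b047435bcf9aa7ba040328d09dce5c81861fc8f0e675de052a0064d6f3a2b554bd800f889730b6ae81400c803c9b443c60e00a6d011e4165f7c000bf74eed411c75802e5f2a18f01195c00141407d553acc60047585f04dc7830005501d549d898f800194d71d07c1229800ffa8def98702120067af620516f393000745a6c694f3e3000463df0e7e0dbb000c3a465f16e1014002f130f4e498f8c002cdb2c84bc715e000a205fcb4ea71d8006e531aa7e5e6fe000ab16ea71669b4000c99e619fb2c98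800959b14830e6570009e3f94fc6242f2000fc43798b70cfd000fafcf09e07f8a000041554a28b953c00f28d49d3460a78003300674c6b1693006cc4c9ae020621000bfae76b0c51d70015e0de1fbb695cc009368c4cfb3aa8e0004adfd054d68cd800d476591b7748cc008f3d453543bc220033ceb20ee07fab001eb6a51db7a8808001c91ad1e0f040400966be7dd59217c0025c260d93cd106001919a8ae33ece5801ea29d6cae927bc010e0d79deb735b4000aabd05a247f00003730005c6a64818003dd7076867f7bc003e902d5338eac0015f733a572871310006946691803db904a80218324c4e9a44c55d8b077f483d42f0da9b7f94f7207162dfb60ab6b9d0e04eaa37a8dabb1a984a33836ba7fd028c090e13ecdd5634d128743c9b2a7295f686bb001e908dd79f0343df38e2e99cca00c445aa180f5c7a20071555cf665d97d05be51fd304897c3055b123d5641a04fa228b2909af43489110ff34f8874fa97c847c4d2c0bb4c58d43420a8c66fa8347e14ddb0a477ea532f0d244a52fb9bc47c00a275e01cf50ad5844ff3c7f586f7fbe0627d2b0dc65899a14d84ab927c74a4e0a07345a3fdda79c825559b85da96f0a4160669016371a2b02dfdec2b10000a4a0391eaaef3eb6a37c2e55f92cb0654a9e3a869b629c313dcd166eef0e484bd7b38ce36d0eacb5adc984e11ec031f5ac91c6d7d954fd9c2d6104451635fdd15eb6886fb039662146d3e4136239bc33ec12661ef3b1e8b8ce137c045dd6a59d25348a81111ce15d81da7e05e6a49fb4d2c0cbd63fe428f161a92a8000d914d30674ed380033d3ec351b16a8009b5cf77705f87c006e46f4f0c98a0b002d4c06674e78ee0018c11da9424efe800576a6678891980004709f8f02aed6a000a5cbba70cd675800921c6a4d0a80100549f31c86c9395e0de0b6b3a7640000)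 (Nat.shiftLeft 
    (nat_lit 0x3e58d8700facc4000438948e95e9044005e642505681084003f66cdeff80c64002fccbffaed2c0b804ebfa104b9f5e94006a3b401fdbd798000ee17546c22f85001fe83f3072859800189dc39a6eeff7800d9458ee59b3f34002d029430e0e3910025b5c8a08251540007810d2ff7a9afc0150d4c88adbaa600001d44798871023008fed48ef5b493c001d0ff0c307d4fc400095100908f28aa00bc05e9cecec2d6003bf7fab718f4a10020eaf7a94c4abbc021030956672129800057552b3276d37002ef965b3a5d0758022c1990ab8d263c0055a80ea1b5aeb40078dc6dc2bc1ca50014b2359b75f63a801d66a3692a8419000857d25c778c75a0000ca25ef8b5b7b000824b9ae8a5834802320bc27f06631400ca1d9322003b52000d621ce10ac4fe00245629fc0c2cd4003b3157b16a2c768011d57ebea261e400037aadb4c2aa6950038cce294905a3a0000a717a17046eb8013c8aecf4a12a2e00db6fc00112c10c00254e9a69c65679000a2e7d143b69628011569d8c675d276001386f38df86077001ff1f04fe102ab802ac9711b0e7410000842c838c555b86000486eee47e17a5000b5ab6a9b072118003ae847fb00ccbc003f5c961dac7262001ac583a2d5e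689000b065838e2b3e1800b0023d8d6c34200234e1ffac10d5d800333a3ddfed38d908f47dfeb1cce5e4831d7b772d2bcc3a46032464df12d3f1c1f2628e9c5b9442a0d9f9e558b6a6f8b8b231bbeeb4a7bc24436169d9a980f52849a9f0f01cdca5fc21b2d2caa69d9eb502d1db4b0abd790f44772085e1a2a67b60933ab608bb62a10027679044edc476403b6990815b9943b817ea5629da59e5340ab925f56ad1909a1bc601978eff423380c9af2fd4357e77c51ffd46d91b6a20e28387efcbf250acb16fd9425967c05a8814224e688d6519706c7718b2ca69cdda30ca3ea5783b161f0251ed1923f0ff5) (nat_lit 8000))) i2) (pk61d (nat_lit 7) 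
    (nat_lit 0xbf76e5ab362bd6a94e8cd992e12c398705ab15aad4a74a8cf9b325c17cf5a2f398b05eb566c57a74a8cf9d365488709e325ca8e17c57aedab362bd6a94e9519d3664b910e0305eb8e60bf7aedcb766bd4a33e6ca8b0a0b968b9525c582f5cb566c57a94e7cd97160bb72dda325ab151d1b8b0debb6acd7ab529d29f3a6cc911a2c37cc5825478aedcb76acd7ad569d29d364478b0e1407ae17aa1a0f15fbb62bd59f325ca8d0df354c5c802c17aedbb33e64b8cc0b01) i2))) (g1 i1) (g1 (Nat.succ i1)) List.nil) fun j => (pk61d (nat_lit 8) 
    (nat_lit 0xd0bfab947d684f371e0c00) j)) (nat_lit 0) (pk61d (nat_lit 67) 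
    (nat_lit 0x15af1d78b58c40000006f05b59d3b200000061ccd3156ee4a8b) (pk61d (nat_lit 2) 
    (nat_lit 0x56968) i1)) (pk61l (fun i2 => (_root_.Prod.mk (pk61d (nat_lit 8) 
    (nat_lit 0x20102459901014eea04) i2) (nat_lit 1))) (Nat.mul (nat_lit 1) i1) (Nat.mul (nat_lit 1) (Nat.succ i1)) List.nil) ((fun g1 : Nat → Nat => pk61l (fun i2 => (_root_.Prod.mk (pk61d (nat_lit 32) 
    (nat_lit 0x3ac8003946a600001091001e868805dafa05067aafe5a037967100296c81) i2) (_root_.Prod.mk (pk61d (nat_lit 5) 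
    (nat_lit 0xf53d4a5254) i2) (pk61d (nat_lit 2) 
    (nat_lit 0xaaae) i2)))) (g1 i1) (g1 (Nat.succ i1)) List.nil) fun j => (pk61d (nat_lit 4) 
    (nat_lit 0x86543111110) j)))) (nat_lit 0) (nat_lit 10) List.nil) : List St)
    = ?xq9022 → (List St)) ?hq9022; (case hq9022 => (set_option maxRecDepth 1000000 in conv => lhs; reduce)); intro _; exact ?xq9022 : List St)

/-- steps -/
noncomputable def l21_0 : List St :=
  (by
  refine (?fq9023 : ((pk61l (fun i1 => (_root_.Cfsg.Agent.N2.Sp.St.fk (pk61d (nat_lit 6) 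
    (nat_lit 0x58d42d77cb97) i1) ((fun g1 : Nat → Nat => pk61l (fun i2 => (_root_.Prod.mk (pk61d (nat_lit 67) (Nat.add 
    (nat_lit 0x747e0b602154d666a4a54f54036d7a08667e7caa00d59a018258e2db50afaa2a3d2eed44f203c9e7642106779ec15a693e12a441f22003682b09c33cd28802f82f16225d0ed700a1d3f6fb3c512d280473e630bce5e9d0806a74e7f59621b7b06488fe1c8285ced009b3f38d0cd9515a0086b614c2e29a24e00434f161eacec18603ca8a9a4fc042830067ce2954d92b338000efaf2c73f0e76501f411423e105774b02fbb68dbea29381601121a56b5bbf52580d8cdc51144645dd83800c18c57e04240018c0f0f9c157e2d801616c6c823d1e09000e35767a6554f7b82965868fd918bfb00013c7b07047794b8000ba27a4df22ac6c0027c2d46ffdab7600085e9b267d477d700025ba3cc2b48a7600247dddb6fef1fbc0019717fadb7cbbe8007f73905e88a4fe000a1a90b96f00fe600191fdaf58cb421c00287094c5a4976b000077b56ca1de8e30001fb3457a84645400123fd51f7f744f00012176a3210c2be80040e390e7391cde0004bef75fce77d18000a1ede072169cfc0006d75dd3b8c9f000012f706c81dd9020002e3d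7a3e621704000f2517857ddb6a40006b627c31a2c6b80010d83d28abd9af000e0538680b15188000a108b39ef682c40058c1bb6ee43f178002079aca7c271f30011a19c6a815cca0001666d20afaf7cd4000d88b856d2382a000480ac002460fa50006b85bb47b55b86000d5cd5ecbceb90c000058807d16f4af00033a21ce8332ed80003d78cba059384e00061f2d5c588bfdc0031a4a67c3e9ec08006cc188e6cde5d10001abb334ddf2e20001651affac321ff00004856d2727a6dd000242b833dfe867000233cee67c5597f00001505c0af8ba7380005b2fdd2aa6fc0800260a72b9e13ebb030eaf32dbe5f750e08208386f83ad32cc12b9bbb411f4c71d82694682a1f9a18b500dfe0343daef420e06d6f8b38a3b0d5d0026ec0f90226b30c03dfa8ca3ed01e68b01c9d9a5459e8b5e2012e1b1a64a013fc80710f0f55c4440ff807aefce5ad8a3de6029e852deb9da73060ca54050be74376b41529742a7613e6c9811008aafa76626ae01fea7fa5419765cc04627ae6eb32674f00b6a49068f843f930270fa6672d26f49b01d9f99f2215f75000b90942cdf6912c04009c5d5791908a6d8001e48a560ca469e001ed1c82b5baf82c0003edd8758ca122400272b13a936e49e8005e10535c7da09c0000b04b89ded11de001e34f300cf5fec80006153479c90d2c000a18fdad8905bf40021f7df5d80fa23a002de5f7bcfb50468002049c2d07fb31c8000a2c635be7cf870006d8f642f77b0f80008ce33e96ef93740546f2f7cf2b578c8097e2bdb0cef3b0e005e309713da587f608bc6eadb68091a340d82bc85f396479656bc75e2d63100000)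 (Nat.shiftLeft 
    (nat_lit 0xbfa40953e13370004907c26b49f88e800108f18d1cc59b700094d19b5ff4271e0019ea2833c94c794004731ca8042b9370001aa823fc1e67160003981f9310f43fe001cebe95cd9e9c7800227b3491fcf216000229c86a799fde1000b291c351662f24000d7a0d3cbb059c8002c613989027c418000b5cf573648e7800028c3897523097e000e66c19d454f2e8000e73d11baf0cd8000284870693eae3e00018fc91e45f0dde000699d323bdd3ce000001ceeb06943f0000091d59e0ea89f708ea0a316194f966c0b0da5c582f811c200813090e18a971cd021ff35426cb586300005a92d1409438c60bba2b1bf2f0fa530209b05e2f5e1d673816f3e66883fc590c018040cd53c6242980ab7775fb591a5bb403f4bbf52cc25ddf0144a7b9d25040a83066e6d154421e6c1204c758bc0f89b511c03c714393ea5a0cd0016a866de2db2810013aaa92d1) (nat_lit 8000))) i2) (pk61d (nat_lit 7) 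
    (nat_lit 0x176d59b15aad4a74a7cd992e44482f5e3464bd71cc582f5ab362bd3a5467ce9b2a1c278c972a385f05fbd76e5bb35ea519f365458505f3968b9525c582f5cb566bd4a73e6cb8b05db96ed192d58a8e8dc37aedab35ea53a53e74d992234586f98b04a8c501c576e5bb566bd6ab4e94e9b223c5870a02f1a0f160bb62ad4a73e5ca8d0da9e2e381626094b01) i2))) (g1 i1) (g1 (Nat.succ i1)) List.nil) fun j => (pk61d (nat_lit 8) 
    (nat_lit 0x9f88725c442c160500) j)) (nat_lit 0) (pk61d (nat_lit 67) 
    (nat_lit 0x15af1d78b58c40000006f05b59d3b2000000947d1d3d16e7698) (pk61d (nat_lit 2) 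
    (nat_lit 0x6964) i1)) ((fun g1 : Nat → Nat => pk61l (fun i2 => (_root_.Prod.mk (pk61d (nat_lit 10) 
    (nat_lit 0x12988000401110030be83) i2) (pk61d (nat_lit 2) 
    (nat_lit 0x15559) i2))) (g1 i1) (g1 (Nat.succ i1)) List.nil) fun j => (pk61d (nat_lit 4) 
    (nat_lit 0x987654320) j)) ((fun g1 : Nat → Nat => pk61l (fun i2 => (_root_.Prod.mk (pk61d (nat_lit 30) 
    (nat_lit 0x247e00a44ca9a94806f8f3c1b76ef1) i2) (_root_.Prod.mk (pk61d (nat_lit 5) 
    (nat_lit 0xa5254) i2) (pk61d (nat_lit 2) 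
    (nat_lit 0xae) i2)))) (g1 i1) (g1 (Nat.succ i1)) List.nil) fun j => (pk61d (nat_lit 3) 
    (nat_lit 0x48c9200) j)))) (nat_lit 0) (nat_lit 8) List.nil) : List St)
    = ?xq9023 → (List St)) ?hq9023; (case hq9023 => (set_option maxRecDepth 1000000 in conv => lhs; reduce)); intro _; exact ?xq9023 : List St)

/-- steps -/
noncomputable def l22_0 : List St :=
  (by
  refine (?fq9024 : ((pk61l (fun i1 => (_root_.Cfsg.Agent.N2.Sp.St.fk (pk61d (nat_lit 6) 
    (nat_lit 0x58d42d77cb97) i1) ((fun g1 : Nat → Nat => pk61l (fun i2 => (_root_.Prod.mk (pk61d (nat_lit 67) (Nat.add 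
    (nat_lit 0xd34bd5a09f6f5f61c29d3f7c03c129ff803fa5280131666d1fc714c4905f9502d6c8e4b69a045c630be9b8f9c3c03910e63d884656a000eeb1b9ef02fbea0121c871a2ece415801f2ea62d230875940332cab991aa2b4a80c63516f116543880a45f8c25588c9ddc036e8b58220d3e188179ae47560f124438107d9e1a584af63404efd2619e4da3cc0020366d5ccee2683404740840b1565d2c82c2dc19df3d3223f04d340177f9405d2601bd3d516f80a4dd402455be50fc34a6f81de7f399c67f7be4036da58af29b9c8f4007d9876898cf7bb80d61d29cfbf35ae7815b7b2a426515b520092292f6c9ec9642061ccf76368a205501a3dae3df17a4b18809e90421547fb6e500dc073457e385454012b6c0a14553e1901363a8cd90915912800988fba131c74ca00058f01da83e65540011d0a78ef7dbb680041792ecff655bd8000eaff834f77b020011417f4f29eede6000b7254c45774c40003ac2aaaa3b340d8004a6297e9aafc96000b77b840faeca0c00125a8fec2ddb660000544ccd43f140d80043d1d1d234c0e500050aa35234b3884000ed3159697e09cc0015fedd44bcc3318002479094297edd900028a449f27dcf900002eae0d0f83fcb8000834850a1aecda0003a519f1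8ecfeb7000162c86d9aefb4400000cfdfafbaf8bc003d5d15533eae1a80016bd86804c84b6001805fe99491292200080a9983b3fbd640006bbbf14eea5bd8007c59bf9f57a7ee0008369fcf03cbfd2000ed6f703a7d32f0001228db0fdbb4c380037ecf0c026b70f000119b6f8fe4bba40009992f2cd485a70000ca77ea262d8a90000fd1cefee0f457000d128bf199d1b74001bad2e1953f43e8000e0190493250100005e7be8d84a8a400003b19cddae9c4900006c376da67d5ad4008f444ff0b516ee8000895f6b181ba26000faa2b4186c18740521ee7b8cc90a3640de90fd6bb88928c0254228f5e3c8ca8003cb70e7dffaff22401676b7bf5614dc400d2a62a664c436ee80310cd26e0cb8064078a443851d811abc05a07fba64458e210001e46b4bf418b888134de560bbee8c050266e91b7795647140ca1fd96eea828ff8157bdf56af6e4eb8005380e9b3de6ec8401eb31f7a232d8d6603bab51aea94f699c0c4f1fb9018777ab002a2455610800e43040589e8c3df112b60299df36a38f81e4414f0fe276d2f6a358011ac5e0d2b8e0400015aa55044b4c432000ce9c1065a9916c001d76b89b45fbe50004697618abeb8050001f424469eafd0a0019d9cb0e679fbf0000cd1409f6a2f0d000b0549899ab158e0001fe313f019ff6600268193546f12ac400011ef9c3ea0f668000b707a4820733e000807b309e7e35980025748fe567a663006f05b59d3b2000056bc75e2d63100000)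 (Nat.shiftLeft 
    (nat_lit 0x1633f830cd1ca98008760ae482c12330001eb217fddcd6d200113de400fc58a04003009dc94038a8180083f97dd1419400000316a09a4870c000006a9a661d72d89c00359cc5242b0ca30003feb2811cada580004028ec7287606c0014b04763c77b6600018fb6cfba9434800052448412f8299000015106440250f900004b908d104a81c0001ab235a066acc60001aca6b861d68bc0004aac5cbca8f4f60002e51711e43a550000c3c75be54c9e80000035a1eb39a96b00010e56074bd02c410831dfb7dd7036fc149d778fc6b5e84100ed76b7f3a65764b03ec20b750376825a0ad95067dafed21801e41f7ecaa83968681534a8f0e1e3b4620165baf7e4) (nat_lit 8000))) i2) (pk61d (nat_lit 7) 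
    (nat_lit 0x2edab362b55a94e94f9b325c88905ebc68c97ae398b05eb562bd3a5467ce9b2a1c278c972a385f05ebb72dd9af528cf9b2a2c282f9cb45ca92e2c17ae5ab35ea539f362c176e5bb464b562a3a370debb6ed59af4e94f9d366488d161be62c128a038aedcb76acd7ad569d29b223c5870a0385e341e2bb56a4f972a4468b0daaa4a58101) i2))) (g1 i1) (g1 (Nat.succ i1)) List.nil) fun j => (pk61d (nat_lit 8) 
    (nat_lit 0x967f6a553e27110100) j)) (nat_lit 0) (pk61d (nat_lit 67) 
    (nat_lit 0x1bc16d674ec800015af1d78b58c400002b5e3af16b188000000de0b6b3a764000001bc16d674ec800015af1d78b58c40000004f26d87591b648b00000b2c85c3e02a2) i1) (pk61l (fun i2 => (_root_.Prod.mk (pk61d (nat_lit 11) 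
    (nat_lit 0x22683e8010021080279c) i2) (nat_lit 1))) (Nat.mul (nat_lit 1) i1) (Nat.mul (nat_lit 1) (Nat.succ i1)) List.nil) ((fun g1 : Nat → Nat => pk61l (fun i2 => (_root_.Prod.mk (pk61d (nat_lit 30) 
    (nat_lit 0x21c6152042b8427b486096001be2db) i2) (_root_.Prod.mk (pk61d (nat_lit 5) 
    (nat_lit 0xa5254) i2) (pk61d (nat_lit 2) 
    (nat_lit 0xae) i2)))) (g1 i1) (g1 (Nat.succ i1)) List.nil) fun j => (pk61d (nat_lit 3) 
    (nat_lit 0x48c9200) j)))) (nat_lit 0) (nat_lit 8) List.nil) : List St)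
    = ?xq9024 → (List St)) ?hq9024; (case hq9024 => (set_option maxRecDepth 1000000 in conv => lhs; reduce)); intro _; exact ?xq9024 : List St)

/-- steps -/
noncomputable def l23_0 : List St :=
  (by
  refine (?fq9025 : ((pk61l (fun i1 => (_root_.Cfsg.Agent.N2.Sp.St.fk (pk61d (nat_lit 6) 
    (nat_lit 0x3c36d76e) i1) ((fun g1 : Nat → Nat => pk61l (fun i2 => (_root_.Prod.mk (pk61d (nat_lit 69) 
    (nat_lit 0x1c5297d329e79d465910d87dd8e26383498a16892b7f9e6efe0f6570a51411872b9e184113f38b142ef106cc653ff7d79d796f7f5d1380518f59cc47b0e59111d82113b012026d63a2c593f2042887538a310394426d238d0bd1b51c99698e2c74f027a03908326c5838b7da631c3e019f0d2dd2a649c2a62a32699f229b5d2d7ff48ea7e87d7f5798d8b9a3a619448bce74e80673a05040b2aacdc6bf57c6f786d7811f00eead0fae53edfdf00c87c268977226850011311ed77472348a013165db5514d7218009314d6d9009a7ee80b90bbafa422acc54004b5acfbe82bb9b00137e35a9709567bf007e4783755050f4680324f4191436195780269b7a525074083402a69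0d9c8b6a99a900676ab3aac36b5ac000d8454990dbb6e600074dcb5c62ce7e92001695bd9192e7e9700680b107c277892c801226ecec41e304cc0065836a7a58a9b720087365b7af791d4400970572011b50797802f0377b51e8ed74401953c4509c21daf602dd77ea6b8ec0829006ae58609a4480178055a63934c5fa7fb404eb1a6fb9dc67e8400469cc6cb806ab33014bd7dececcd452f003708215803bd4f60046a020c5c3aaf7f201659eedcf38b286d00dc8825f7f68c35c80583d3db964ffe4bc00655276a5b5420d601460e49289ad316c0060f3f5f5593b76200474598f95d97118001a6fdd9f71c08f9e00af5998b6a57563a0030d9279dc801232000e06c2af3fb9450c009dca9be31ffc2c0011861068e0ebbb3a001aa6bf99d0a997880003e764a4d297e48041eb40063e5b12f4002a655aa85343ae901f8a8b25e50dd77600519913be550d180c0006b0837567754fa0232a4c47470901f7001b95e7da5b0b9ad804ea71aed78383f8001839a8fca531518400051f58b3cac35c4009c97656b2d47fa40019259314b136f274009e2d83ff36adcee002f73d4163becb7b01078a5d33ed6c44480945288fbdf0ce094016cfeda210cc9a7801dea926f3b40dddb0018eb7138d9d66028045106db6a2ff390000de243d58074e0bc001221b9403a75f5902c243622b5f8a1480186517ee7806afa58001bfe8907c57e9a0000b221b1dedc4f7f00011187bb8a5c4188000bc38aed40b6e2400065957f90e0cca00000232f150f4076600025887392e6ca9880006f3090661ed1cc0014dbcd394199df6000774769e44e6b97000010d6ebc3a5c3e00012a0d34875d456400121806c588dda2200de0b6b3a7640000)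 i2) (pk61d (nat_lit 7) 
    (nat_lit 0x186edcb76acd6ab4e94e9b223c380bc683c582f5ab15eb52a33e74d95221c178d972c54a0e62c17ae5ab35ea539f362c176e5bb464b562a3a370debb6ed59b15e9d29f3a6cc8d161be6cc58264a0715dab527cb95223436a94b02) i2))) (g1 i1) (g1 (Nat.succ i1)) List.nil) fun j => (pk61d (nat_lit 7) 
    (nat_lit 0x33d47a98700) j)) (nat_lit 0) (pk61d (nat_lit 74) 
    (nat_lit 0x21e19e0c9bab2400000015af1d78b58c400000056bc75e2d63100000015af1d78b58c400000000b0d69ead669a01b) i1) (pk61l (fun i2 => (_root_.Prod.mk (pk61d (nat_lit 13) 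
    (nat_lit 0x13b503b814c0ac004) i2) (nat_lit 1))) (Nat.mul (nat_lit 1) i1) (Nat.mul (nat_lit 1) (Nat.succ i1)) List.nil) ((fun g1 : Nat → Nat => pk61l (fun i2 => (_root_.Prod.mk (pk61d (nat_lit 32) 
    (nat_lit 0xf4e3ca6c01336ecf0316b83500046dc3) i2) (_root_.Prod.mk (pk61d (nat_lit 6) 
    (nat_lit 0x52c514) i2) (nat_lit 2)))) (g1 i1) (g1 (Nat.succ i1)) List.nil) fun j => (pk61d (nat_lit 3) 
    (nat_lit 0x23248) j)))) (nat_lit 0) (nat_lit 5) List.nil) : List St)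
    = ?xq9025 → (List St)) ?hq9025; (case hq9025 => (set_option maxRecDepth 1000000 in conv => lhs; reduce)); intro _; exact ?xq9025 : List St)

/-- steps -/
noncomputable def l24_0 : List St :=
  (by
  refine (?fq9026 : ((pk61l (fun i1 => (_root_.Cfsg.Agent.N2.Sp.St.fk (pk61d (nat_lit 6) 
    (nat_lit 0x76e) i1) ((fun g1 : Nat → Nat => pk61l (fun i2 => (_root_.Prod.mk (pk61d (nat_lit 63) 
    (nat_lit 0x95c78b8ffcd9b2f83c9e884160c141e5fff7d569146cc9248ed5f33dfb4302cd990607273e2fdb0f9bcaf14dece9c80d2bde93df115d6e37bbfd8d2f7387842b24e887c28576e83a060d6b11d8c09014ab3a4e996eab26574a75a1ef887b4ebd73f25cf650a60b2d7bdeb0496d492ddcefd7cdac33580c2d0573ab215ee4802266432421045032c9647feff23f90017f255caa38f5b16e7065811118f429653907060fd443805330734d805aa0001293912114ada80057f30e02760244009027dcdb972b50036d28783a17fac003086ceb728a0ce00186e515287d2b40082e4eefd1cf1c0de0b6b3a7640000) i2) (pk61d (nat_lit 7) 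
    (nat_lit 0x30debb6ecd7a73e74d911a2c37cd98b04c940e2c176d4f951a182) i2))) (g1 i1) (g1 (Nat.succ i1)) List.nil) fun j => (pk61d (nat_lit 5) 
    (nat_lit 0x7920) j)) (nat_lit 0) (pk61d (nat_lit 67) 
    (nat_lit 0x2b5e3af16b1880000003581501f2bb371f) i1) ((fun g1 : Nat → Nat => pk61l (fun i2 => (_root_.Prod.mk (pk61d (nat_lit 7) 
    (nat_lit 0x114104) i2) (pk61d (nat_lit 2) 
    (nat_lit 0x1d) i2))) (g1 i1) (g1 (Nat.succ i1)) List.nil) fun j => (pk61d (nat_lit 2) 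
    (nat_lit 0x38) j)) List.nil)) (nat_lit 0) (nat_lit 2) List.nil) : List St)
    = ?xq9026 → (List St)) ?hq9026; (case hq9026 => (set_option maxRecDepth 1000000 in conv => lhs; reduce)); intro _; exact ?xq9026 : List St)

/-- steps -/
noncomputable def l26_0 : List St :=
  (by
  refine (?fq9027 : ((pk61l (fun i1 => (_root_.Cfsg.Agent.N2.Sp.St.fk (pk61d (nat_lit 6) 
    (nat_lit 0x1df2e) i1) ((fun g1 : Nat → Nat => pk61l (fun i2 => (_root_.Prod.mk (pk61d (nat_lit 71) 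
    (nat_lit 0x11dc8e52b1be08bd000f8e25de7ecde0a20006574df5a6e889d8001cda22a5accad0d00069728b2e7254787000e5f8f8e892045d000159217a5b271eb02000d74cba1e43b6230002e54ccf25f3662a001c04c4730d90331f001db8583f4a79ad3c002a3deb43353767c400619cb24aa656642800514ad5fcaa51c6e00219dbd9df08b2ea200bb1fad40af1e6f8000d8ad3b859e7501d013cca1c28646acf4423e5bc0807f440a46c09d391884aee1763746e134cc0c92a1cfb383c27b646ad494c22e1e32f3f2df0827899a021a001dd5c756cb041ef0fdd5c3c23f47b831dcbb8a9a2a9c7b6113db10eb8734663c81eff970bb6e5129300029db9c56e62a56a888dd03fab006c3840d054f8df36385fabdf8d231c14f7d080eeb96ee2a0ef0b33f86785000de0b6b3a7640000) i2) (pk61d (nat_lit 7) 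
    (nat_lit 0x2ed9b15e9d2a3365c68b121b14c94681c586edcb766b4d910dfb81a24182) i2))) (g1 i1) (g1 (Nat.succ i1)) List.nil) fun j => (pk61d (nat_lit 6) 
    (nat_lit 0x890040) j)) (nat_lit 0) (pk61d (nat_lit 74) 
    (nat_lit 0x56bc75e2d63100000878678326eac9000000000000050221674250) i1) ((fun g1 : Nat → Nat => pk61l (fun i2 => (_root_.Prod.mk (pk61d (nat_lit 14) 
    (nat_lit 0x1ff997003c010) i2) (pk61d (nat_lit 2) 
    (nat_lit 0x5d) i2))) (g1 i1) (g1 (Nat.succ i1)) List.nil) fun j => (pk61d (nat_lit 3) 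
    (nat_lit 0x8d0) j)) ((fun g1 : Nat → Nat => pk61l (fun i2 => (_root_.Prod.mk (nat_lit 3556265602) (_root_.Prod.mk (nat_lit 18) (nat_lit 3)))) (g1 i1) (g1 (Nat.succ i1)) List.nil) fun j => (pk61d (nat_lit 1) 
    (nat_lit 0xc) j)))) (nat_lit 0) (nat_lit 3) List.nil) : List St)
    = ?xq9027 → (List St)) ?hq9027; (case hq9027 => (set_option maxRecDepth 1000000 in conv => lhs; reduce)); intro _; exact ?xq9027 : List St)

/-- the certificates -/
noncomputable def L : List (ℕ × ℕ × List St) := [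
  (11546172747968230, 7, l0_0),
  (8881671344590944, 8, l1_0),
  (6832054880454571, 8, l2_0),
  (5255426831118900, 9, l3_0),
  (4042636023937614, 10, l4_0),
  (3123799253601323, 11, l5_0),
  (101829689725315, 12, l6_0),
  (2760693499100, 35, l7_0),
  (88665808899, 115, l8_0),
  (3349092270, 361, l9_0),
  (1361045574, 1075, [.fk 0 [(2188296, 28), (400960, 33), (137140, 38), (98539, 46), (402492, 47), (749196, 50),
      (888575, 52), (1109200, 55), (845437, 56), (1951, 60), (811281, 61), (822574, 62), (1194588, 65), (1239904,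
      66), (413018, 67), (161473, 68), (113881, 69), (2145159, 70), (1054052, 72), (1372135, 73), (1034876, 74),
      (568983, 76), (926325, 77), (160165, 78), (1535157, 79), (2479817, 82), (2032748, 84), (1269686, 85), (1045165,
      86), (889226, 87), (950163, 88), (1896320, 89), (680546, 90), (2485241, 91), (497412, 92), (2129865, 93),
      (2412114, 94), (2735009, 95), (1538950, 96), (1438253, 98)] 0 10000000 [] []]),
  (1046958133, 1451, l11_0),
  (805805001, 1584, l12_0),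
  (619850000, 1729, l13_0),
  (565942607, 1886, l14_0),
  (484028926, 1945, l15_0),
  (372329942, 2049, l16_0),
  (286407646, 2236, l17_0),
  (238757038, 2440, l18_0),
  (183659259, 2593, l19_0 ++ l19_1),
  (141276352, 2829, l20_0),
  (108674116, 3088, l21_0),
  (100725626, 3370, l22_0),
  (77481250, 3457, l23_0),
  (59600960, 3772, l24_0),
  (45846891, 4117, [.fk 46 [(1000000000000000000, 2), (11327748535844021, 23), (5420054200542005, 37),
      (7326957768057924, 98)] 0 3942184506537615 [(7, 1), (5, 2), (5, 3)] []]),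
  (42493624, 4493, l26_0),
  (32687402, 4609, []),
  (26404619, 5030, [.fk 60 [(1000000000000000000, 3), (102875550699258004, 9), (81347287103475542, 37),
      (12081516522357413, 57), (6349909819466550, 72), (118339078579848408, 97), (82926047916878083, 98)] 0
      183091385731718532 [(13, 1)] [(24423979153, 8, 2)], .fk 29 [(1000000000000000000, 1), (47667762630818031, 13),
      (43252211912468222, 37), (51659677143258482, 38), (1980884761088781, 68), (8708491836878529, 70),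
      (1385227496401820, 79), (1294410249980403, 87), (2915005502767440, 98)] 0 201503741836247958 [(7, 1)]
      [(20506730339, 8, 2)]]),
  (20311244, 5401, [.fk 29 [(1000000000000000000, 1), (6795121623437710, 23), (23627423498072604, 37),
      (19436053520014009, 97)] 0 27212924708890229 [(7, 1)] [(5851642592, 8, 2)]]),
  (17926998, 5894, [.fk 29 [(1000000000000000000, 1)] 0 11044794002878 [(20, 1)] []]),
  (13789997, 6145, []),
  (10607689, 6706, []),
  (8159760, 7319, []),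
  (5311703, 7988, [.fk 45 [(24284244687483755074, 5), (2607840254931694593, 13), (566994496488245624, 57),
      (3182791759680887741, 59), (28408093549949718459, 98)] 0 100000000000000000000 [(1436, 1)] [(17356535382434, 8,
      2)]]),
  (4699455, 9217, [.fk 37 [(100000000000000000000, 2), (130718954248366013, 13), (337171905799356780, 98)] 0
      369913232116339898 [(733, 1), (352, 2)] []]),
  (3614964, 9601, []),
  (2780740, 10478, []),
  (2139030, 11435, []),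
  (1231934, 12481, []),
  (1147328, 15001, [.fk 13 [(100000000000000000000, 2), (130718954248366013, 13), (337171905799356780, 98)] 0
      1515164441411082199 [(711, 1), (456, 2)] [], .fk 22 [(100000000000000000000, 2), (101317122593718338, 97),
      (320837554880108072, 98)] 0 1521062369966139272 [(730, 1), (622, 2)] []]),
  (1105357, 15361, [.fk 22 [(1000000000000000000, 2)] 0 211696311689346 [(16, 1)] []]),
  (850273, 15553, []),
  (757470, 16974, []),
  (582668, 17641, []),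
  (466323, 19253, []),
  (89116, 20737, []),
  (36708, 36001, []),
  (5312, 48385, []),
  (1574, 92165, []),
  (1106, 138265, []),
  (163, 155537, []),
  (37, 294973, []),
  (26, 486990, []),
  (11, 549930, []),
  (3, 746370, []),
  (1, 1276274, [])]

theorem okz : okZ D = true := by decide +kernel

theorem ok : chk D R nu [] (List.range' 1 (D.n - 1)) O 183659258 0 15010024572358700 L = true :=
  chk_of (by decide +kernel)

variable {K : Type} [Group K] [Finite K] {T : TD K D} {A : Subgroup K}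

theorem res (H : Hy T R nu) (hb : ¬ Good A) (hA : A ≠ ⊤) : Res T A O 183659258 :=
  H.res hb (pos_nil A) (sup_all A) Nat.card_pos
    ((H.card_le (md := 276) (by decide +kernel) hA).trans (by decide +kernel)) ok

theorem sup (H : Hy T R nu) (hb : ¬ Good A) (hA : A ≠ ⊤) : Nat.card A ≤ 183659258 ∧ Sup T A S :=
  ⟨(res H hb hA).1, (res H hb hA).sup.mono (by decide +kernel)⟩

end Cfsg.Agent.N2.Sp.Co1
end

-- part: N2/Co2L/Inst
section
prune_inst 0x5060045000020000180584212002405a0004220043000000000e04068a366820802641ac8008101a1a084520310008120000900040000004000000011c00a0800250028308a90ca20009011082000000000000000000000000000000051004000000000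
set_option linter.all false
open scoped Cfsg.Agent.FastGrp

-- part: N2/Co2L/Defs
section
/-!
# N2 (S3519), the 2-local case of Co1 and Co2: definitions and boxes (helper26)

Everything happens in a group `G` (think `Co0`) with a faithful representation of degree 24.  See `notes/N2/co2l26.md`.
-/

set_option autoImplicit false

namespace Cfsg.Agent.N2.Co2L

open Cfsg Subgroup
open scoped symmDiff

/-- the space -/
def Vs : Type := GolayPt → ℂ

noncomputable instance instAcgVs : AddCommGroup Vs := inferInstanceAs (AddCommGroup (GolayPt → ℂ))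

noncomputable instance instModVs : Module ℂ Vs := inferInstanceAs (Module ℂ (GolayPt → ℂ))

instance instFinVs : Module.Finite ℂ Vs := inferInstanceAs (Module.Finite ℂ (GolayPt → ℂ))

theorem finrank_Vs : Module.finrank ℂ Vs = 24 :=
  (Module.finrank_fintype_fun_eq_card ℂ (η := GolayPt)).trans rfl

/-- the data: a representation, its character and the element `-1` -/
structure Lx (G : Type) [Group G] where
  ρ : G →* Module.End ℂ Vs
  tr : G → ℤ
  m : G

variable {G : Type} [Group G]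

namespace Lx

variable (L : Lx G)

/-- involutions with a `-1`-space of dimension 8 -/
def I8 (s : G) : Prop := s * s = 1 ∧ L.tr s = 8

/-- the `-1`-spaces meet in `0` -/
def Pp (s t : G) : Prop := L.I8 s ∧ L.I8 t ∧ s * t = t * s ∧ L.tr (s * t) = -8

/-- the `-1`-spaces meet in dimension 4 -/
def Al (s t : G) : Prop := L.I8 s ∧ L.I8 t ∧ s * t = t * s ∧ L.tr (s * t) = 8

/-- the elements which act as `± 1` on the `-1`-space of `s` -/
def O (s : G) : Subgroup G where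
  carrier := {g | g * s = s * g ∧ (L.ρ g * (1 - L.ρ s) = 1 - L.ρ s ∨ L.ρ g * (1 - L.ρ s) = -(1 - L.ρ s))}
  one_mem' := ⟨by simp, Or.inl (by simp)⟩
  mul_mem' := by
    rintro a b ⟨h1, h2⟩ ⟨h3, h4⟩
    refine ⟨by rw [mul_assoc, h3, ← mul_assoc, h1, mul_assoc], ?_⟩
    rw [map_mul, mul_assoc]
    rcases h2 with h2 | h2 <;> rcases h4 with h4 | h4 <;> rw [h4]
    · exact Or.inl h2
    · exact Or.inr (by rw [mul_neg, h2])
    · exact Or.inr h2
    · exact Or.inl (by rw [mul_neg, h2, neg_neg])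
  inv_mem' := by
    rintro a ⟨h1, h2⟩
    refine ⟨(show Commute a s from h1).inv_left.eq, ?_⟩
    have h3 : ∀ x, L.ρ a⁻¹ * (L.ρ a * x) = x := fun x => by rw [← mul_assoc, ← map_mul, inv_mul_cancel, map_one, one_mul]
    rcases h2 with h2 | h2
    · left
      conv_lhs => rw [← h2]
      exact h3 _
    · right
      have := h3 (1 - L.ρ s)
      rw [h2, mul_neg] at this
      exact neg_eq_iff_eq_neg.1 this

/-- the group generated by `m` and `D` -/
def U (D : Set G) : Subgroup G := closure (insert L.m D)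

/-- the sextet group of a pair -/
def W (s t : G) : Subgroup G := closure ({L.m, s, t} ∪ {y | L.Pp s y ∧ L.Pp t y})

/-- no element of trace `0` -/
def Pure (E : Subgroup G) : Prop := ∀ u ∈ E, L.tr u ≠ 0

/-- ordered pairs of type alpha in a set -/
def Prs (X : Set G) : Set (G × G) := {p | p.1 ∈ X ∧ p.2 ∈ X ∧ L.Al p.1 p.2}

end Lx

/-- the facts on the big group -/
structure Ok (L : Lx G) : Prop where
  trace : ∀ g, LinearMap.trace ℂ Vs (L.ρ g) = L.tr g
  inj : Function.Injective L.ρ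
  neg : L.ρ L.m = -1
  inv : ∀ g, g * g = 1 → g = 1 ∨ g = L.m ∨ L.tr g = 8 ∨ L.tr g = 0 ∨ L.tr g = -8
  pow : ∀ (g : G) (k : ℕ), k.Coprime (orderOf g) → L.tr (g ^ k) = L.tr g
  card : ∀ s, L.I8 s → Nat.card (L.O s) = 1024
  comm : ∀ s, L.I8 s → ∀ a ∈ L.O s, ∀ b ∈ L.O s, a * b = b * a ∨ a * b = b * a * (L.m * s)
  cent : ∀ s, L.I8 s → ∀ g, (∀ a ∈ L.O s, g * a = a * g) → g = 1 ∨ g = L.m ∨ g = s ∨ g = L.m * s

/-- the facts on `A ≤ H` (`H = Co0` or `Co2 × ⟨m⟩`, `A` the preimage of the maximal subgroup, `D0` the lifts of trace 8 of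
the 2-central involutions) -/
structure Cx (L : Lx G) (H A : Subgroup G) (D0 : Set G) : Prop where
  le : A ≤ H
  mA : L.m ∈ A
  d8 : ∀ s ∈ D0, L.I8 s
  dH : ∀ s ∈ D0, L.O s ≤ H
  dc : ∀ s ∈ D0, ∀ g ∈ H, g * s * g⁻¹ ∈ D0
  mx : ∀ E : Subgroup G, E ≤ H → IsPGroup 2 E → (∃ u ∈ E, u ≠ 1 ∧ u ≠ L.m) → (∀ a ∈ A, ∀ u ∈ E, a * u * a⁻¹ ∈ E) →
    ∀ g ∈ H, (∀ u ∈ E, g * u * g⁻¹ ∈ E) → g ∈ A
  syl : ∀ P : Subgroup G, P ≤ H → IsPGroup 2 P → ∃ s ∈ D0, ∀ x ∈ P, x * s = s * x
  big : ∀ s ∈ H, L.I8 s → Nat.card A < Nat.card ↥(H ⊓ centralizer {s})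
  big2 : ∀ s ∈ D0, 256 * Nat.card A < Nat.card ↥(H ⊓ centralizer {s})
  mode : ((∀ s, L.I8 s → s ∈ D0) ∧ Nat.card (L.Prs D0) * Nat.card A < 30 * Nat.card H) ∨
    ((∃ T0 : Subgroup G, L.m ∉ T0 ∧ (∀ h ∈ H, h ∈ T0 ∨ L.m * h ∈ T0) ∧ ∀ s ∈ D0, L.m * s ∈ T0) ∧
      (∀ s ∈ D0, ∀ t ∈ D0, ¬ L.Pp s t) ∧ Nat.card (L.Prs D0) * Nat.card A < 6 * Nat.card H)
  o1 : ∀ x ∈ A, (orderOf x).Prime → orderOf x = 2 ∨
    (orderOf x = 3 ∧ (L.tr x = -12 ∨ L.tr x = 6 ∨ L.tr x = -3 ∨ L.tr x = 0)) ∨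
    (orderOf x = 5 ∧ (L.tr x = -6 ∨ L.tr x = 4 ∨ L.tr x = -1)) ∨ (orderOf x = 7 ∧ L.tr x = -4)
  o9 : ∀ x ∈ A, orderOf x ≠ 9
  o2 : ∀ x ∈ A, (orderOf x).Prime → orderOf x ≠ 2 → ∀ j ∈ A, j * j = 1 → x * j = j * x → L.tr j ≠ 0
  o3 : ∀ x ∈ A, (orderOf x).Prime → orderOf x ≠ 2 → L.tr x ≠ -12 → ∀ q ∈ A, x * q = q * x → orderOf q ≠ 4
  o4 : ∀ x ∈ A, (orderOf x).Prime → orderOf x ≠ 2 → (L.tr x = 0 ∨ L.tr x = 4 ∨ L.tr x = -1) →
    ∀ s ∈ A, L.I8 s → x * s ≠ s * x
  o5 : ∀ q ∈ A, orderOf q = 4 → L.tr q ≤ 8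
  o6 : ∀ w ∈ A, ∀ a ∈ A, ∀ g ∈ A, orderOf w = 3 → L.tr w = 6 → L.I8 (a * (g * a * g⁻¹)) →
    w * (a * (g * a * g⁻¹)) = a * (g * a * g⁻¹) * w → L.tr (w * (a * (g * a * g⁻¹))) = 2 → 442368 < Nat.card A

/-- `Q = O₂(A)` -/
structure Core (A Q : Subgroup G) : Prop where
  le : Q ≤ A
  two : IsPGroup 2 Q
  nrm : ∀ a ∈ A, ∀ q ∈ Q, a * q * a⁻¹ ∈ Q
  max : ∀ K : Subgroup G, K ≤ A → (∀ a ∈ A, ∀ k ∈ K, a * k * a⁻¹ ∈ K) → ∀ X : Subgroup G, X ≤ K → IsPGroup 2 X →
    (∀ k ∈ K, ∀ x ∈ X, k * x * k⁻¹ ∈ X) → X ≤ Q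

/-- an invariant set of 2-central involutions in the centre of `Q` -/
structure Us (A Q : Subgroup G) (D0 D : Set G) : Prop where
  sub : D ⊆ D0
  ne : D.Nonempty
  cj : ∀ a ∈ A, ∀ s ∈ D, a * s * a⁻¹ ∈ D
  mem : ∀ s ∈ D, s ∈ Q
  cen : ∀ s ∈ D, ∀ q ∈ Q, q * s = s * q

/-- all the standing hypotheses -/
structure St (L : Lx G) (H A Q : Subgroup G) (D0 D : Set G) : Prop where
  ok : Ok L
  cx : Cx L H A D0
  co : Core A Q
  us : Us A Q D0 D

/-- the consequences of "not pure" -/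
structure Np (L : Lx G) (A Q : Subgroup G) (D : Set G) : Prop where
  ex : ∃ u ∈ L.U D, L.tr u = 0
  cen : ∀ x ∈ A, (∀ u ∈ L.U D, x * u = u * x) → x ∈ Q
  t3 : ∀ x ∈ A, orderOf x = 3 → L.tr x = 6 ∨ L.tr x = -3 ∨ L.tr x = 0
  t5 : ∀ x ∈ A, orderOf x = 5 → L.tr x = 4 ∨ L.tr x = -1
  pr : ∀ p : ℕ, p.Prime → p ∣ Nat.card A → p = 2 ∨ p = 3 ∨ p = 5

/-- two four-groups `{1, a, b, a b}`, `{1, c, d, c d}` in `E` and `⟨v, w⟩ ≅ 3²` acting on them -/
structure Ff (L : Lx G) (A E : Subgroup G) (v w a b c d : G) : Prop where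
  vA : v ∈ A
  wA : w ∈ A
  ov : orderOf v = 3
  ow : orderOf w = 3
  vw : v * w = w * v
  aE : a ∈ E
  bE : b ∈ E
  cE : c ∈ E
  dE : d ∈ E
  va : v * a * v⁻¹ = a
  vb : v * b * v⁻¹ = b
  vc : v * c * v⁻¹ = d
  vd : v * d * v⁻¹ = c * d
  wa : w * a * w⁻¹ = b
  wb : w * b * w⁻¹ = a * b
  wc : w * c * w⁻¹ = c
  wd : w * d * w⁻¹ = d
  ta : L.tr a = 8
  tc : L.tr c = 8
  tac : L.tr (a * c) = 8

/-! ### tools -/

/-- simultaneous diagonalisation: an elementary abelian 2-group is a binary code of length 24 -/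
def BoxDiag : Prop := ∀ (G : Type) [Group G] [Finite G] (L : Lx G), Ok L → ∀ E : Subgroup G, (∀ a ∈ E, a * a = 1) →
  ∃ S : G → Finset (Fin 24), (∀ a ∈ E, ∀ b ∈ E, S (a * b) = S a ∆ S b) ∧ ∀ a ∈ E, L.tr a = 24 - 2 * ((S a).card : ℤ)

/-- an element of prime order which acts without fixed points on `E` -/
def BoxFpf : Prop := ∀ (G : Type) [Group G] [Fintype G] (L : Lx G), Ok L → ∀ (E : Subgroup G) [DecidablePred (· ∈ E)] (x : G),
  (orderOf x).Prime → (∀ a ∈ E, ∀ b ∈ E, a * b = b * a) → (∀ a ∈ E, x * a * x⁻¹ ∈ E) →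
  (∀ a ∈ E, x * a = a * x → a = 1) → ∃ n k : ℕ, ∑ a ∈ Finset.univ.filter (· ∈ E), L.tr a = Nat.card E * k ∧
    (k : ℤ) + ((orderOf x : ℤ) - 1) * L.tr x = orderOf x * n ∧ (E ≠ ⊥ → k < 24)

/-- an idempotent which commutes with an element of order three -/
def BoxThree : Prop := ∀ (e x : Module.End ℂ Vs) (n τ : ℚ), e * e = e → e * x = x * e → x * x * x = 1 →
  LinearMap.trace ℂ Vs e = n → LinearMap.trace ℂ Vs (e * x) = τ → LinearMap.trace ℂ Vs (e * (x * x)) = τ →
  ∃ i j : ℕ, n = i + 2 * j ∧ τ = i - j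

/-! ### the boxes -/

/-- a statement under the standing hypotheses -/
def Un (P : ∀ (G : Type) [Group G], Lx G → (H A Q : Subgroup G) → (D0 D : Set G) → Prop) : Prop :=
  ∀ (G : Type) [Group G] [Finite G] (L : Lx G) (H A Q : Subgroup G) (D0 D : Set G), St L H A Q D0 D → P G L H A Q D0 D

/-- characteristic two -/
def BoxG0 : Prop := ∀ (G : Type) [Group G] [Finite G] (L : Lx G) (H A Q : Subgroup G) (D0 : Set G), Ok L → Cx L H A D0 →
  Core A Q → ∀ s ∈ D0, s ∈ Q → (∀ q ∈ Q, q * s = s * q) → ∀ x ∈ A, Odd (orderOf x) → (∀ q ∈ Q, x * q = q * x) → x = 1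

/-- perpendicular partners -/
def BoxR : Prop := Un fun _ _ L _ _ _ D0 D => ∀ s ∈ L.U D, s ∈ D0 → ∃ t ∈ L.U D, L.Pp s t

/-- the radical is empty -/
def BoxRad : Prop := Un fun _ _ L _ _ _ _ D => ∀ z ∈ L.U D, L.I8 z → ∃ y ∈ L.U D, L.I8 y ∧ y ≠ z ∧ ¬ L.Pp z y

/-- pure combinatorics: six tetrads -/
def BoxSix : Prop := ∀ (G : Type) [Group G] [Finite G] (L : Lx G), Ok L → ∀ E : Subgroup G, L.m ∈ E → (∀ a ∈ E, a * a = 1) →
  L.Pure E → (∀ z ∈ E, L.I8 z → ∃ y ∈ E, L.I8 y ∧ y ≠ z ∧ ¬ L.Pp z y) → ∀ s ∈ E, ∀ t ∈ E, L.Al s t → (∃ r ∈ E, L.Pp s r) →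
  E = L.W s t ∧ 30 ≤ Nat.card (L.Prs E)

/-- counting the conjugates of `U` -/
def BoxCnt : Prop := Un fun _ _ L H A _ D0 D => (∀ s ∈ L.U D, ∀ t ∈ L.U D, s ∈ D0 → L.Al s t → L.U D = L.W s t) →
  Nat.card (L.Prs (D0 ∩ L.U D)) * Nat.card H ≤ Nat.card (L.Prs D0) * Nat.card A

/-- the consequences of "not pure" -/
def BoxNp : Prop := Un fun _ _ L _ A Q _ D => (∃ u ∈ L.U D, L.tr u = 0) → Np L A Q D

/-- the prime 5 -/
def BoxC5 : Prop := Un fun _ _ L _ A Q D0 D => Np L A Q D → ∀ f ∈ A, orderOf f = 5 → ∃ D', Us A Q D0 D' ∧ L.Pure (L.U D')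

/-- the two four-groups -/
def BoxFf : Prop := Un fun G _ L _ A Q _ D => Np L A Q D → ∀ x ∈ A, ∀ y ∈ A, orderOf x = 3 → orderOf y = 3 → x * y = y * x →
  y ∉ zpowers x → ∃ v w a b c d : G, Ff L A (L.U D) v w a b c d ∧ v ∈ closure {x, y} ∧ w ∈ closure {x, y}

/-- the class `6e` occurs -/
def BoxE6 : Prop := Un fun G _ L _ A Q _ D => Np L A Q D → ∀ v w a b c d : G, Ff L A (L.U D) v w a b c d →
  442368 < Nat.card A

/-- the order of `Q` -/
def BoxQ : Prop := Un fun G _ L _ A Q _ D => Np L A Q D → ∀ v w a b c d : G, Ff L A (L.U D) v w a b c d →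
  Nat.card Q ≤ 1024 ∧ Nat.card ↥(Q ⊓ centralizer {v, w}) ≤ 4

/-- pure group theory: the order of a `{2, 3}`-group -/
def BoxHb : Prop := ∀ (G : Type) [Group G] [Finite G] (A Q E : Subgroup G) (m : G), Core A Q → m ∈ Q → m ≠ 1 →
  (∀ g, g * m = m * g) → E ≤ Q → (∀ a ∈ A, ∀ u ∈ E, a * u * a⁻¹ ∈ E) → (∀ x ∈ A, (∀ u ∈ E, x * u = u * x) → x ∈ Q) →
  (∀ p : ℕ, p.Prime → p ∣ Nat.card A → p = 2 ∨ p = 3) → (∀ x ∈ A, orderOf x ≠ 9) →
  (∀ x ∈ A, ∀ y ∈ A, orderOf x = 3 → orderOf y = 3 → x * y = y * x → y ∉ zpowers x →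
    Nat.card ↥(Q ⊓ centralizer {x, y}) ≤ 4) → Nat.card A ≤ 432 * Nat.card Q

/-- the main theorem in characteristic two -/
def BoxMain : Prop := ∀ (G : Type) [Group G] [Finite G] (L : Lx G) (H A Q : Subgroup G) (D0 : Set G), Ok L → Cx L H A D0 →
  Core A Q → (∃ u ∈ Q, u ≠ 1 ∧ u ≠ L.m) → (∀ x ∈ A, Odd (orderOf x) → (∀ q ∈ Q, x * q = q * x) → x = 1) → False

/-! ### first facts -/

theorem idem_zero {e : Module.End ℂ Vs} (he : e * e = e) (h : LinearMap.trace ℂ Vs e = 0) : e = 0 :=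
  (LinearMap.IsIdempotentElem.trace_eq_zero_iff he).1 h

theorem idem_rank {e : Module.End ℂ Vs} (he : e * e = e) :
    LinearMap.trace ℂ Vs e = (Module.finrank ℂ (LinearMap.range e) : ℕ) :=
  (LinearMap.IsIdempotentElem.isProj_range e he).trace

theorem idem_nat {e : Module.End ℂ Vs} (he : e * e = e) : ∃ n : ℕ, LinearMap.trace ℂ Vs e = n := ⟨_, idem_rank he⟩

variable {L : Lx G}

namespace Ok

variable (h : Ok L)
include h

theorem m_comm (g : G) : g * L.m = L.m * g := h.inj (by rw [map_mul, map_mul, h.neg, mul_neg, neg_mul, mul_one, one_mul])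

theorem m_sq : L.m * L.m = 1 := h.inj (by rw [map_mul, h.neg, map_one, neg_mul_neg, mul_one])

theorem tr_one : L.tr 1 = 24 := by
  have := h.trace 1
  rw [map_one, LinearMap.trace_one, finrank_Vs] at this
  exact_mod_cast this.symm

theorem tr_m_mul (g : G) : L.tr (L.m * g) = -L.tr g := by
  have := h.trace (L.m * g)
  rw [map_mul, h.neg, neg_mul, one_mul, map_neg, h.trace] at this
  exact_mod_cast this.symm

theorem tr_m : L.tr L.m = -24 := by
  have := h.tr_m_mul 1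
  rwa [mul_one, h.tr_one] at this

theorem m_ne : L.m ≠ 1 := fun k => by
  have := h.tr_m
  rw [k, h.tr_one] at this
  omega

theorem tr_comm (a b : G) : L.tr (a * b) = L.tr (b * a) := by
  have := h.trace (a * b)
  rw [map_mul, LinearMap.trace_mul_comm, ← map_mul, h.trace] at this
  exact_mod_cast this.symm

theorem tr_conj (g a : G) : L.tr (g * a * g⁻¹) = L.tr a := by
  rw [h.tr_comm, ← mul_assoc, inv_mul_cancel, one_mul]

theorem conj_m (g : G) : g * L.m * g⁻¹ = L.m := by rw [h.m_comm, mul_inv_cancel_right]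

theorem i8_conj {s : G} (hs : L.I8 s) (g : G) : L.I8 (g * s * g⁻¹) :=
  ⟨by rw [conj_mul, hs.1, mul_one, mul_inv_cancel], by rw [h.tr_conj, hs.2]⟩

theorem i8_ne {s : G} (hs : L.I8 s) : s ≠ 1 ∧ s ≠ L.m := by
  constructor <;> intro k <;> have := hs.2
  · rw [k, h.tr_one] at this; omega
  · rw [k, h.tr_m] at this; omega

theorem pp_conj {s t : G} (k : L.Pp s t) (g : G) : L.Pp (g * s * g⁻¹) (g * t * g⁻¹) :=
  ⟨h.i8_conj k.1 g, h.i8_conj k.2.1 g, by rw [conj_mul, conj_mul, k.2.2.1], by rw [conj_mul, h.tr_conj, k.2.2.2]⟩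

theorem al_conj {s t : G} (k : L.Al s t) (g : G) : L.Al (g * s * g⁻¹) (g * t * g⁻¹) :=
  ⟨h.i8_conj k.1 g, h.i8_conj k.2.1 g, by rw [conj_mul, conj_mul, k.2.2.1], by rw [conj_mul, h.tr_conj, k.2.2.2]⟩

theorem m_mem_O (s : G) : L.m ∈ L.O s := ⟨(h.m_comm s).symm, Or.inr (by rw [h.neg, neg_mul, one_mul])⟩

theorem two_O {s : G} (hs : L.I8 s) : IsPGroup 2 (L.O s) := IsPGroup.of_card (n := 10) (h.card s hs)

/-- a perpendicular partner acts trivially on the `-1`-space -/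
theorem pp_mul {s t : G} (k : L.Pp s t) : L.ρ t * (1 - L.ρ s) = 1 - L.ρ s := by
  obtain ⟨⟨h1, h2⟩, ⟨h3, h4⟩, h5, h6⟩ := k
  have e1 : L.ρ s * L.ρ s = 1 := by rw [← map_mul, h1, map_one]
  have e2 : L.ρ t * L.ρ t = 1 := by rw [← map_mul, h3, map_one]
  have e3 : L.ρ s * L.ρ t = L.ρ t * L.ρ s := by rw [← map_mul, h5, map_mul]
  have i1 : IsIdempotentElem ((1 / 2 : ℂ) • (1 - L.ρ s)) := by
    show _ * _ = _
    rw [smul_mul_smul_comm, sub_mul, one_mul, mul_sub, mul_one, e1]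
    module
  have i2 : IsIdempotentElem ((1 / 2 : ℂ) • (1 - L.ρ t)) := by
    show _ * _ = _
    rw [smul_mul_smul_comm, sub_mul, one_mul, mul_sub, mul_one, e2]
    module
  have c : Commute ((1 / 2 : ℂ) • (1 - L.ρ t)) ((1 / 2 : ℂ) • (1 - L.ρ s)) :=
    (((Commute.one_left _).sub_left ((Commute.one_right _).sub_right e3.symm)).smul_left _).smul_right _
  have i3 := idem_zero (IsIdempotentElem.mul_of_commute c i2 i1) (by
    rw [smul_mul_smul_comm, sub_mul, one_mul, mul_sub, mul_one, ← map_mul, ← h5, map_smul, map_sub, map_sub, map_sub,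
      ← map_one L.ρ, h.trace, h.trace, h.trace, h.trace, h.tr_one, h2, h4, h6]
    norm_num)
  rw [smul_mul_smul_comm, smul_eq_zero, sub_mul, one_mul, sub_eq_zero] at i3
  exact (i3.resolve_left (by norm_num)).symm

theorem pp_mem {s t : G} (k : L.Pp s t) : t ∈ L.O s := ⟨k.2.2.1.symm, Or.inl (h.pp_mul k)⟩

end Ok

theorem Lx.Pp.symm {s t : G} (k : L.Pp s t) : L.Pp t s := ⟨k.2.1, k.1, k.2.2.1.symm, k.2.2.1 ▸ k.2.2.2⟩

theorem Lx.Al.symm {s t : G} (k : L.Al s t) : L.Al t s := ⟨k.2.1, k.1, k.2.2.1.symm, k.2.2.1 ▸ k.2.2.2⟩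

theorem self_mem_O {s : G} (hs : s * s = 1) : s ∈ L.O s :=
  ⟨rfl, Or.inr (by rw [mul_sub, mul_one, ← map_mul, hs, map_one, neg_sub])⟩

theorem conj_mem_O {s a : G} (ha : a ∈ L.O s) (g : G) : g * a * g⁻¹ ∈ L.O (g * s * g⁻¹) := by
  have e : 1 - L.ρ (g * s * g⁻¹) = L.ρ g * (1 - L.ρ s) * L.ρ g⁻¹ := by
    rw [mul_sub, sub_mul, mul_one, ← map_mul, ← map_mul, ← map_mul, mul_inv_cancel, map_one]
  have e2 : L.ρ (g * a * g⁻¹) * (L.ρ g * (1 - L.ρ s) * L.ρ g⁻¹) = L.ρ g * (L.ρ a * (1 - L.ρ s)) * L.ρ g⁻¹ := by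
    rw [← mul_assoc, ← mul_assoc, ← map_mul, inv_mul_cancel_right, map_mul, mul_assoc (L.ρ g)]
  refine ⟨by rw [conj_mul, conj_mul, ha.1], ?_⟩
  rw [e, e2]
  exact ha.2.imp (fun k => by rw [k]) fun k => by rw [k, mul_neg, neg_mul]

/-- the centraliser of `s` normalises `O s` -/
theorem norm_O {s a g : G} (ha : a ∈ L.O s) (hg : g * s = s * g) : g * a * g⁻¹ ∈ L.O s := by
  have := conj_mem_O ha g
  rwa [hg, mul_inv_cancel_right] at this

theorem m_mem_U (D : Set G) : L.m ∈ L.U D := subset_closure (Set.mem_insert _ _)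

theorem mem_U {D : Set G} {s : G} (hs : s ∈ D) : s ∈ L.U D := subset_closure (Set.mem_insert_of_mem _ hs)

variable {H A Q : Subgroup G} {D0 D : Set G}

theorem Cx.mem_H (c : Cx L H A D0) {s : G} (hs : s ∈ D0) : s ∈ H := c.dH s hs (self_mem_O (c.d8 s hs).1)

/-- a normal 2-subgroup lies in `Q` -/
theorem Core.max' (c : Core A Q) {X : Subgroup G} (h1 : X ≤ A) (h2 : IsPGroup 2 X) (h3 : ∀ a ∈ A, ∀ x ∈ X, a * x * a⁻¹ ∈ X) :
    X ≤ Q := c.max A le_rfl (fun _ ha _ hk => A.mul_mem (A.mul_mem ha hk) (A.inv_mem ha)) X h1 h2 h3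

theorem two_zpowers {s : G} (hs : s * s = 1) : IsPGroup 2 (zpowers s) := by
  rintro ⟨_, k, rfl⟩
  refine ⟨1, Subtype.ext ?_⟩
  show (s ^ k) ^ 2 ^ 1 = 1
  rw [pow_one, ← zpow_natCast, ← zpow_mul, mul_comm, zpow_mul, zpow_natCast, pow_two, hs, one_zpow]

theorem m_mem_Q (o : Ok L) (c : Cx L H A D0) (k : Core A Q) : L.m ∈ Q :=
  k.max' (zpowers_le.2 c.mA) (two_zpowers o.m_sq) (by
    rintro a - _ ⟨n, rfl⟩
    exact ⟨n, by rw [← conj_zpow, o.conj_m]⟩) (mem_zpowers _)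

/-- `A` does not centralise an involution of trace 8 -/
theorem Cx.not_cent [Finite G] (o : Ok L) (c : Cx L H A D0) {s : G} (hH : s ∈ H) (hs : L.I8 s)
    (h : ∀ a ∈ A, a * s = s * a) : False := by
  have e : ∀ a : G, a * s = s * a → ∀ u ∈ zpowers s, a * u * a⁻¹ ∈ zpowers s := by
    rintro a ha _ ⟨n, rfl⟩
    exact ⟨n, by rw [← conj_zpow, ha, mul_inv_cancel_right]⟩
  refine absurd (c.big s hH hs) (not_lt.2 (card_le_of_le fun g hg => ?_))
  exact c.mx (zpowers s) (zpowers_le.2 hH) (two_zpowers hs.1) ⟨s, mem_zpowers s, o.i8_ne hs⟩ (fun a ha => e a (h a ha)) g hg.1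
    (e g (mem_centralizer_singleton_iff.1 hg.2))

namespace St

variable (h : St L H A Q D0 D)
include h

theorem m_Q : L.m ∈ Q := m_mem_Q h.ok h.cx h.co

theorem U_le : L.U D ≤ Q := (closure_le _).2 (Set.insert_subset h.m_Q h.us.mem)

theorem U_le_A : L.U D ≤ A := h.U_le.trans h.co.le

theorem U_le_H : L.U D ≤ H := h.U_le_A.trans h.cx.le

theorem U_cen {u q : G} (hu : u ∈ L.U D) (hq : q ∈ Q) : q * u = u * q := by
  have : L.U D ≤ centralizer {q} := (closure_le _).2 (Set.insert_subset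
    (mem_centralizer_singleton_iff.2 (h.ok.m_comm q).symm) fun s hs => mem_centralizer_singleton_iff.2 (h.us.cen s hs q hq).symm)
  exact (mem_centralizer_singleton_iff.1 (this hu)).symm

theorem U_comm {u v : G} (hu : u ∈ L.U D) (hv : v ∈ L.U D) : u * v = v * u := h.U_cen hv (h.U_le hu)

theorem U_sq {u : G} (hu : u ∈ L.U D) : u * u = 1 := by
  induction hu using closure_induction with
  | mem x hx => exact hx.elim (fun k => k ▸ h.ok.m_sq) fun k => (h.cx.d8 x (h.us.sub k)).1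
  | one => exact mul_one 1
  | mul x y hx hy ix iy => rw [mul_assoc, ← mul_assoc y, ← h.U_comm hx hy, mul_assoc, iy, mul_one, ix]
  | inv x _ ix => rw [← mul_inv_rev, ix, inv_one]

theorem U_two : IsPGroup 2 (L.U D) := h.co.two.to_le h.U_le

theorem U_conj {a u : G} (ha : a ∈ A) (hu : u ∈ L.U D) : a * u * a⁻¹ ∈ L.U D := by
  induction hu using closure_induction with
  | mem x hx => exact hx.elim (fun k => by rw [k, h.ok.conj_m]; exact m_mem_U D) fun k => mem_U (h.us.cj a ha x k)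
  | one => rw [mul_one, mul_inv_cancel]; exact one_mem _
  | mul x y _ _ ix iy => rw [← conj_mul]; exact mul_mem ix iy
  | inv x _ ix => rw [← conj_inv]; exact inv_mem ix

/-- `A` is the normaliser of `U` -/
theorem norm_U {g : G} (hg : g ∈ H) (hn : ∀ u ∈ L.U D, g * u * g⁻¹ ∈ L.U D) : g ∈ A := by
  obtain ⟨s, hs⟩ := h.us.ne
  exact h.cx.mx _ h.U_le_H h.U_two ⟨s, mem_U hs, h.ok.i8_ne (h.cx.d8 s (h.us.sub hs))⟩ (fun _ ha _ hu => h.U_conj ha hu) g hg hn

/-- `A` is the normaliser of `Q` -/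
theorem norm_Q {g : G} (hg : g ∈ H) (hn : ∀ u ∈ Q, g * u * g⁻¹ ∈ Q) : g ∈ A := by
  obtain ⟨s, hs⟩ := h.us.ne
  exact h.cx.mx _ (h.co.le.trans h.cx.le) h.co.two ⟨s, h.us.mem s hs, h.ok.i8_ne (h.cx.d8 s (h.us.sub hs))⟩ h.co.nrm g hg hn

/-- the traces on `U` -/
theorem U_tr {u : G} (hu : u ∈ L.U D) : u = 1 ∨ u = L.m ∨ L.tr u = 8 ∨ L.tr u = 0 ∨ L.tr u = -8 := h.ok.inv u (h.U_sq hu)

end St

end Cfsg.Agent.N2.Co2L
end

-- part: N2/Co2L/Inst
section
/-!
# N2 (S3519), the 2-local case of Co1 and Co2: the boxes of the instances (helper26)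
-/

set_option autoImplicit false

namespace Cfsg.Agent.N2.Co2L

open Cfsg Subgroup Cfsg.Agent.FP3 Cfsg.Agent.N2.Sp Cfsg.Agent.TAB.Eng Cfsg.Agent.TAB.Use Cfsg.Agent.TH.Spor

/-- the representation of `Co0` -/
noncomputable def rC : Co0 →* Module.End ℂ Vs := H419.LeechIrr.repC

/-- `H ≤ Co0` covers `K`; `P` = the 2-central involutions of `K` -/
structure Cov (L : Lx Co0) (H : Subgroup Co0) (D0 : Set Co0) {K : Type} [Group K] (π : H →* K) (P : K → Prop)
    (A : Subgroup K) : Prop where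
  surj : Function.Surjective π
  ker : ∀ h : H, π h = 1 ↔ h.1 = 1 ∨ h.1 = L.m
  cx : Cx L H ((A.comap π).map H.subtype) D0
  lift : ∀ e, P e → ∃ s : H, s.1 ∈ D0 ∧ π s = e

/-- the facts on `Co0` -/
def BoxOk : Prop := ∃ L : Lx Co0, L.ρ = rC ∧ Ok L

/-- the dictionary of `Co1` -/
def BoxDict1 : Prop := ∀ L : Lx Co0, L.ρ = rC → (∀ g, LinearMap.trace ℂ Vs (L.ρ g) = L.tr g) →
  ∀ (K : Type) [Group K] [Finite K] (e : K ≃* Spor.Co1) (T : TD K Sp.Co1.D), Hy T Sp.Co1.R Sp.Co1.nu → ∀ g : Co0,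
    L.tr g ^ 2 = 1 + Sp4.rw Sp.Co1.R 1 (T.ty (e.symm g)) + Sp4.rw Sp.Co1.R 2 (T.ty (e.symm g)) ∧
    L.tr (g * g) = 1 + Sp4.rw Sp.Co1.R 2 (T.ty (e.symm g)) - Sp4.rw Sp.Co1.R 1 (T.ty (e.symm g))

/-- the dictionary of `Co2` -/
def BoxDict2 : Prop := ∀ L : Lx Co0, L.ρ = rC → (∀ g, LinearMap.trace ℂ Vs (L.ρ g) = L.tr g) →
  ∀ (K : Type) [Group K] [Finite K] (e : K ≃* Spor.Co2) (T : TD K Sp.Co2.D), Hy T Sp.Co2.R Sp.Co2.nu → ∀ g : K,
    L.tr (inclusion (inf_le_left : Spor.Co2 ≤ Co0) (e g)) = 1 + Sp4.rw Sp.Co2.R 1 (T.ty g)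

/-- a statement on the bad subgroups of a family -/
def Bad (F : ∀ (K : Type) [Group K], Prop) (D : Dat) (R : Rows) (ν : List ℕ)
    (P : ∀ (K : Type) [Group K], TD K D → Subgroup K → Prop) : Prop :=
  ∀ (K : Type) [Group K] [Finite K] [IsSimpleGroup K], F K → ∀ T : TD K D, Hy T R ν → Unif T →
    ∀ (A : Subgroup K) (Γ : Subgroup (MulAut K)), MI A Γ → ¬ Good A → P K T A

/-- the cover -/
def PCov (D : Dat) (K : Type) [Group K] (T : TD K D) (A : Subgroup K) : Prop :=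
  ∀ L : Lx Co0, L.ρ = rC → Ok L → ∃ (H : Subgroup Co0) (D0 : Set Co0) (π : H →* K), Cov L H D0 π (fun e => T.ty e = 1) A

/-- the mixed case -/
def PMix (D : Dat) (K : Type) [Group K] (T : TD K D) (A : Subgroup K) : Prop :=
  pCore 2 A ≠ ⊥ → (∃ x ∈ A, (orderOf x).Prime ∧ orderOf x ≠ 2 ∧ ∀ q ∈ SB.Mon.core 2 A, x * q = q * x) →
    (∀ e ∈ SB.Mon.core 2 A, (∀ q ∈ SB.Mon.core 2 A, e * q = q * e) → T.ty e ≠ 1) → False

def BoxCov1 : Prop := Bad (fun K _ => Spor.IsoCo1 K) Sp.Co1.D Sp.Co1.R Sp.Co1.nu fun K _ T A => PCov _ K T A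

def BoxCov2 : Prop := Bad (fun K _ => Spor.IsoCo2 K) Sp.Co2.D Sp.Co2.R Sp.Co2.nu fun K _ T A => PCov _ K T A

/-- no pure `3a` subgroup of order nine -/
def BoxN33 : Prop := Bad (fun K _ => Spor.IsoCo1 K) Sp.Co1.D Sp.Co1.R Sp.Co1.nu fun K _ T _ =>
  ∀ Y : Subgroup K, Nat.card Y = 9 → ∃ y ∈ Y, y ≠ 1 ∧ T.ty y ≠ 4

def BoxMix1 : Prop := Bad (fun K _ => Spor.IsoCo1 K) Sp.Co1.D Sp.Co1.R Sp.Co1.nu fun K _ T A =>
  (∀ Y : Subgroup K, Nat.card Y = 9 → ∃ y ∈ Y, y ≠ 1 ∧ T.ty y ≠ 4) → PMix _ K T A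

def BoxMix2 : Prop := Bad (fun K _ => Spor.IsoCo2 K) Sp.Co2.D Sp.Co2.R Sp.Co2.nu fun K _ T A => PMix _ K T A

end Cfsg.Agent.N2.Co2L
end
end

-- part: N2/Cl/D4/Ex_mg
section
prune_inst 0x10000000000040000000000811100000000000000000400000000000000000000002000000000000000000040000000000000000000000000000000000000000000400000000010000000000000000000000000000000000000000000000000000
set_option linter.all false
open scoped Cfsg.Agent.FastGrp

-- part: N2/Cl/D4/Ex
section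
/-!
# N2 (S3519), `PΩ₈⁺(q)` : Singer elements of `GL₃(q)` and `GU₃(q)` (helper43)
-/

set_option autoImplicit false
set_option maxHeartbeats 400000
set_option linter.unusedSectionVars false

namespace Cfsg.Agent.N2C.D4

open QuadraticMap Module Cfsg.Agent.LieClassical.OrthCore Cfsg.Agent.ClassicalGeometry.Triality Cfsg.Agent.SB.D4
open Cfsg.Agent.H955 (res osum osum_apply nondeg_osum)
open Cfsg.Agent.N2C.FrO (exists_emb inj_emb odd_E2 E2_le_E)

namespace Ex

variable {F V X : Type} [Field F] [Fintype F] [AddCommGroup V] [Module F V] [Finite V] [AddCommGroup X] [Module F X]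
  [Finite X] {Q : QuadraticForm F V} {R : QuadraticForm F X}

/-- primitive primes -/
theorem exists_prime (F : Type) [Field F] [Fintype F] {n : ℕ} (hn : n = 3 ∨ (n = 6 ∧ Nat.card F ≠ 2)) :
    ∃ r : ℕ, r.Prime ∧ Odd r ∧ (r : F) ≠ 0 ∧ 3 ∣ orderOf (Nat.card F : ZMod r) ∧ ∀ m, r ∣ Nat.card F ^ m - 1 ↔ n ∣ m := by
  obtain ⟨r, h1, h2, h3, h4⟩ := Lib.Zsigmondy.exists_primitive (a := Nat.card F) (n := n) Finite.one_lt_card (by omega)
    (by omega) (by omega)
  have := Fact.mk h1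
  refine ⟨r, h1, h1.odd_of_ne_two ?_, ((isUnit_iff_not_dvd_char F r).2 fun h => h4 ?_).ne_zero,
    (show 3 ∣ n by omega).trans ((h2 _).1 ((Lib.Zsigmondy.dvd_pow_sub_one_iff Nat.card_pos _).2 dvd_rfl)), h2⟩
  · rintro rfl
    have := Nat.dvd_one.1 h3
    omega
  · rw [Nat.card_eq_fintype_card]
    exact (prime_dvd_char_iff_dvd_card r).1 h

/-- extension by the identity -/
theorem ext_of (hR : Nondeg R) {φ : X →ₗ[F] V} (hq : ∀ x, Q (φ x) = R x) {u : X ≃ₗ[F] X} (hu : u ∈ O R) :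
    ∃ a ∈ O Q, (∀ x, a (φ x) = φ (u x)) ∧ (∀ v, (∀ x, polar Q (φ x) v = 0) → a v = v) ∧ ∀ n, a ^ n = 1 ↔ u ^ n = 1 := by
  obtain ⟨g, rfl⟩ := exists_emb hR hq
  refine ⟨g.up u, g.up_O hu, g.up_φ u, fun v hv => ?_, fun n => ⟨fun h => LinearEquiv.ext fun x => inj_emb hR hq ?_,
    fun h => by rw [← map_pow, h, map_one]⟩⟩
  · rw [g.up_apply, hR (g.ψ v) fun y => by rw [polar_comm, ← g.b, hv], map_zero, sub_zero, map_zero, add_zero]
  · rw [← g.up_φ, map_pow, h]
    rfl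

/-- the action on the sum of a space and its dual -/
def du (F X : Type) [Field F] [AddCommGroup X] [Module F X] : (X ≃ₗ[F] X) →* ((Dual F X × X) ≃ₗ[F] (Dual F X × X)) where
  toFun g := g.symm.dualMap.prodCongr g
  map_one' := LinearEquiv.ext fun _ => rfl
  map_mul' _ _ := LinearEquiv.ext fun _ => rfl

theorem nondeg_du : Nondeg (QuadraticForm.dualProd F X) := fun x hx => by
  have h : ∀ y : Dual F X × X, x.1 y.2 + y.1 x.2 = 0 := fun y => by
    have h := hx y
    simp only [polar, QuadraticForm.dualProd_apply, Prod.fst_add, Prod.snd_add, LinearMap.add_apply, map_add] at h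
    linear_combination h
  exact Prod.ext (LinearMap.ext fun u => by simpa only [_root_.Prod.fst_zero, _root_.LinearMap.zero_apply, _root_.add_zero] using h (0, u))
    ((Module.forall_dual_apply_eq_zero_iff F _).1 fun θ => by simpa only [_root_.map_zero, _root_.zero_add] using h (θ, 0))

/-- two opposite totally singular subspaces -/
theorem ts_pair {U U' : Submodule F V} (hU : ∀ u ∈ U, Q u = 0) (hU' : ∀ u ∈ U', Q u = 0)
    (hn : ∀ u' ∈ U', (∀ u ∈ U, polar Q u' u = 0) → u' = 0) (hd : finrank F U' = finrank F U) (g : U ≃ₗ[F] U) :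
    ∃ a ∈ O Q, (∀ u ∈ U, a u ∈ U) ∧ (∀ u ∈ U', a u ∈ U') ∧
      (∀ v, (∀ u ∈ U, polar Q u v = 0) → (∀ u ∈ U', polar Q u v = 0) → a v = v) ∧ ∀ n, a ^ n = 1 ↔ g ^ n = 1 := by
  have : Module.Finite F V := Module.Finite.of_finite
  have : Finite (Dual F U) := Finite.of_injective _ DFunLike.coe_injective
  let b : U' →ₗ[F] Dual F U := U.subtype.dualMap ∘ₗ polarBilin Q ∘ₗ U'.subtype
  let β := b.linearEquivOfInjective ((injective_iff_map_eq_zero b).2 fun x hx => Subtype.ext (hn x x.2 fun u hu =>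
    LinearMap.congr_fun hx ⟨u, hu⟩)) (hd.trans Subspace.dual_finrank_eq.symm)
  obtain ⟨a, h1, h2, h3, h4⟩ := ext_of (Q := Q) nondeg_du (φ := (U'.subtype ∘ₗ β.symm.toLinearMap).coprod U.subtype)
    (fun x => by
      change Q ((β.symm x.1 : V) + x.2) = x.1 x.2
      rw [Q_add, hU' _ (β.symm x.1).2, hU _ x.2.2, zero_add, zero_add]
      exact LinearMap.congr_fun (β.apply_symm_apply x.1) x.2) (u := du F U g) fun x => congrArg x.1 (g.symm_apply_apply x.2)
  refine ⟨a, h1, fun u hu => ?_, fun u hu => ?_, fun v h5 h6 => h3 v fun x => ?_, fun n => (h4 n).trans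
    ⟨fun h => LinearEquiv.ext fun x => ?_, fun h => by rw [← map_pow, h, map_one]⟩⟩
  · have h5 : a ((β.symm 0 : V) + u) = (β.symm (g.symm.dualMap 0) : V) + g ⟨u, hu⟩ := h2 (0, ⟨u, hu⟩)
    rw [map_zero g.symm.dualMap, map_zero, ZeroMemClass.coe_zero, zero_add, zero_add] at h5
    exact h5 ▸ (g _).2
  · have h5 : a ((β.symm (β ⟨u, hu⟩) : V) + (0 : U)) = (β.symm _ : V) + g 0 := h2 (β ⟨u, hu⟩, 0)
    (simp only [map_zero] at h5; simp +singlePass only [β.symm_apply_apply] at h5; (conv at h5 => enter [@2, @6, @6]; rw [ZeroMemClass.coe_zero]); (conv at h5 => enter [@3, @6]; rw [ZeroMemClass.coe_zero]); (conv at h5 => enter [@2, @6]; rw [add_zero]); rewrite [add_zero] at h5)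
    exact h5 ▸ (β.symm _).2
  · change polar Q ((β.symm x.1 : V) + x.2) v = 0
    rw [polar_add_left, h6 _ (β.symm x.1).2, h5 _ x.2.2, add_zero]
  · rw [← map_pow] at h
    exact congrArg Prod.snd (LinearEquiv.congr_fun h (0, x))

theorem exists_ord (h3 : finrank F X = 3) {r : ℕ} (hr : r.Prime) (h : r ∣ Nat.card F ^ 3 - 1) :
    ∃ g : X ≃ₗ[F] X, orderOf g = r := by
  have := Fact.mk hr
  have : Module.Finite F X := Module.Finite.of_finite
  have := FrO.finL F X
  refine exists_prime_orderOf_dvd_card' r (h.trans ?_)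
  rw [← Nat.card_congr ((Matrix.GeneralLinearGroup.toLin' (finBasisOfFinrankEq F X h3)).trans
    (LinearMap.GeneralLinearGroup.generalLinearEquiv F X)).toEquiv, Matrix.card_GL_field, Nat.card_eq_fintype_card]
  exact Finset.dvd_prod_of_mem (fun i : Fin 3 => Fintype.card F ^ 3 - Fintype.card F ^ (i : ℕ)) (Finset.mem_univ 0)

/-- a Singer element of `GL₃(q)` -/
theorem ts_ord {U U' : Submodule F (V8 F)} (hU : ∀ u ∈ U, Q8 F u = 0) (hU' : ∀ u ∈ U', Q8 F u = 0)
    (hn : ∀ u' ∈ U', (∀ u ∈ U, polar (Q8 F) u' u = 0) → u' = 0) (hd : finrank F U = 3) (hd' : finrank F U' = 3)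
    {r : ℕ} (hr : r.Prime) (ho : Odd r) (h : r ∣ Nat.card F ^ 3 - 1) :
    ∃ a : E8 F, a ≠ 1 ∧ a ^ r = 1 ∧ Kp a U U ∧ Kp a U' U' ∧
      ∀ v, (∀ u ∈ U, polar (Q8 F) u v = 0) → (∀ u ∈ U', polar (Q8 F) u v = 0) → a.1 v = v := by
  obtain ⟨g, hg⟩ := exists_ord hd hr h
  obtain ⟨a, h1, h2, h3, h4, h5⟩ := ts_pair hU hU' hn (hd'.trans hd.symm) g
  have h6 := (h5 r).2 (hg ▸ pow_orderOf_eq_one g)
  refine ⟨⟨a, E2_le_E good8 (odd_E2 h1 ho h6)⟩, fun h7 => hr.ne_one ?_, Subtype.ext h6, h2, h3, h4⟩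
  rw [← hg, orderOf_eq_one_iff, ← pow_one g, ← h5, pow_one]
  exact congrArg Subtype.val h7

theorem finrank_hyp {U : Submodule F V} {e : V} (he : e ∈ U) (l : V →ₗ[F] F) (hl : l e ≠ 0) :
    1 + finrank F ↥(U ⊓ LinearMap.ker l) = finrank F U := by
  have : Module.Finite F V := Module.Finite.of_finite
  rw [← LinearMap.finrank_range_add_finrank_ker (l.domRestrict U), LinearMap.ker_domRestrict,
    ← Submodule.map_comap_subtype, Submodule.finrank_map_subtype_eq, LinearMap.range_eq_top.2 fun c =>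
      ⟨(c / l e) • ⟨e, he⟩, by rw [map_smul, LinearMap.domRestrict_apply, smul_eq_mul, div_mul_cancel₀ _ hl]⟩,
    finrank_top, finrank_self]

theorem sub_mem_hyp {U : Submodule F V} {e u : V} (he : e ∈ U) (hu : u ∈ U) (l : V →ₗ[F] F) (hl : l e ≠ 0) :
    u - (l u / l e) • e ∈ U ⊓ LinearMap.ker l :=
  ⟨sub_mem hu (U.smul_mem _ he), show l _ = 0 by rw [map_sub, map_smul, smul_eq_mul, div_mul_cancel₀ _ hl, sub_self]⟩

/-- both halves have half the dimension -/
theorem halves {W U U' : Submodule F V} (hW : Nd Q W) (hU : ∀ u ∈ U, Q u = 0) (hU' : ∀ u ∈ U', Q u = 0)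
    (hs : U ⊔ U' = W) {n : ℕ} (hn : finrank F W = 2 * n) : finrank F U = n ∧ finrank F U' = n := by
  have : Module.Finite F V := Module.Finite.of_finite
  have h1 := hW.two_mul_le (hs ▸ le_sup_left : U ≤ W) fun x hx y hy => polar_of_ts hU hx hy
  have h2 := hW.two_mul_le (hs ▸ le_sup_right : U' ≤ W) fun x hx y hy => polar_of_ts hU' hx hy
  have h3 := Submodule.finrank_add_le_finrank_add_finrank U U'
  rw [hs] at h3
  omega

theorem fix_of_kp {a b c : E8 F} (h : T3 a b c) {r : ℕ} (hr : r.Prime) (hb : b ^ r = 1) (hq : ¬ r ∣ Nat.card F ^ 1 - 1)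
    {e : V8 F} (he : Q8 F e = 0) (h0 : e ≠ 0) (ha : Kp a (LinearMap.range (pl e)) (LinearMap.range (pl e))) :
    b.1 e = e := by
  obtain ⟨l, hl⟩ := pl_line he h0 ((E_le_O b.2 e).trans he) (fun h1 => h0 (b.1.map_eq_zero_iff.1 h1)) fun t => by
    obtain ⟨t, rfl⟩ := c.1.surjective t
    exact h e t ▸ ha _ ⟨t, rfl⟩
  have h1 : ∀ n, (b ^ n).1 e = l ^ n • e := fun n => by
    induction n with
    | zero => rw [pow_zero, pow_zero, one_smul]; rfl
    | succ n ih => rw [pow_succ', e8_mul, ih, map_smul, hl, smul_smul, pow_succ]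
  have h2 : l ^ r = 1 := smul_left_injective F h0 (show l ^ r • e = (1 : F) • e by rw [← h1, hb, one_smul]; rfl)
  have h3 := pow_gcd_eq_one.2 ⟨h2, FiniteField.pow_card_sub_one_eq_one l fun h3 => by
    rw [h3, zero_pow hr.ne_zero] at h2
    exact zero_ne_one h2⟩
  rw [← Nat.card_eq_fintype_card, ← pow_one (Nat.card F), (hr.coprime_iff_not_dvd.2 hq).gcd_eq_one, pow_one] at h3
  rw [hl, h3, one_smul]

end Ex

open Ex in
/-- **a Singer element of `SL₃(q)`** -/
theorem boxEx3 : BoxEx3 := fun F _ _ e f y he hf hef hy => by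
  obtain ⟨r, hr, ho, h0, h3, hq⟩ := exists_prime F (n := 3) (.inl rfl)
  have t : ∀ e, Q8 F e = 0 → ∀ u ∈ LinearMap.range (pl e), Q8 F u = 0 := by
    rintro e he _ ⟨v, rfl⟩
    rw [pl_apply, norm_pm, he, zero_mul]
  have hs : LinearMap.range (pl e) ⊔ LinearMap.range (pl f) = ⊤ := eq_top_iff.2 fun v _ => by
    rw [← inv_smul_smul₀ hef v, ← pm_lin_right]
    exact Submodule.smul_mem _ _ (Submodule.add_mem_sup ⟨_, rfl⟩ ⟨_, rfl⟩)
  obtain ⟨d1, d2⟩ := halves (nd_top nondeg8') (t e he) (t f hf) hs (n := 4) ((finrank_top _ _).trans finrank8)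
  have k1 : polarBilin (Q8 F) (pm e y) (pm f y) ≠ 0 := by
    rw [polarBilin_apply_apply, polar_pm, pm_pm_right, polar_smul_right]
    exact mul_ne_zero hy hef
  have k2 : polarBilin (Q8 F) (pm f y) (pm e y) ≠ 0 := by rwa [polarBilin_apply_apply, polar_comm]
  have m1 : pm e y ∈ LinearMap.range (pl e) := ⟨y, rfl⟩
  have m2 : pm f y ∈ LinearMap.range (pl f) := ⟨y, rfl⟩
  have d3 := finrank_hyp m1 _ k2
  have d4 := finrank_hyp m2 _ k1
  obtain ⟨a, a1, a2, a3, a4, a5⟩ := ts_ord (U := LinearMap.range (pl e) ⊓ LinearMap.ker (polarBilin (Q8 F) (pm f y)))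
    (U' := LinearMap.range (pl f) ⊓ LinearMap.ker (polarBilin (Q8 F) (pm e y))) (fun u hu => t e he u hu.1)
    (fun u hu => t f hf u hu.1) (fun u hu h => nondeg8' u fun v => by
      obtain ⟨v, hv, w, hw, rfl⟩ := Submodule.mem_sup.1 (hs ▸ Submodule.mem_top : v ∈ _ ⊔ _)
      have h1 := h _ (sub_mem_hyp m1 hv _ k2)
      rw [polar_sub_right, polar_smul_right, polar_comm _ u (pm e y), show polar (Q8 F) (pm e y) u = 0 from hu.2,
        smul_zero, sub_zero] at h1
      rw [polar_add_right, h1, polar_of_ts (t f hf) hu.1 hw, add_zero]) (by omega) (by omega) hr ho ((hq 3).2 dvd_rfl)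
  have f1 : a.1 (pm e y) = pm e y := a5 _ (fun u hu => polar_of_ts (t e he) hu.1 m1) fun u hu => (polar_comm _ _ _).trans hu.2
  have f2 : a.1 (pm f y) = pm f y := a5 _ (fun u hu => (polar_comm _ _ _).trans hu.2) fun u hu => polar_of_ts (t f hf) hu.1 m2
  obtain ⟨b, c, h, b1, c1⟩ := exists_T3_odd ho a2
  have b2 : b.1 e = e := fix_of_kp h hr b1 (by rw [hq]; norm_num) he (fun h => hef (by rw [h, polar_zero_left]))
    fun u hu => by
      have h1 := (a3 _ (sub_mem_hyp m1 hu _ k2)).1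
      rw [map_sub, map_smul, f1] at h1
      exact (Submodule.sub_mem_iff_left _ (Submodule.smul_mem _ _ m1)).1 h1
  have b3 : b.1 f = f := fix_of_kp h hr b1 (by rw [hq]; norm_num) hf (fun h => hef (by rw [h, polar_zero_right]))
    fun u hu => by
      have h1 := (a4 _ (sub_mem_hyp m2 hu _ k1)).1
      rw [map_sub, map_smul, f2] at h1
      exact (Submodule.sub_mem_iff_left _ (Submodule.smul_mem _ _ m2)).1 h1
  refine ⟨a, b, c, h, ⟨a1, r, hr, h0, h3, a2⟩, ⟨fun h1 => ?_, r, hr, h0, h3, b1⟩, ⟨fun h1 => ?_, r, hr, h0, h3, c1⟩, b2, b3,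
    pl_injective (a := e + f) (by rwa [Q_add, he, hf, zero_add, zero_add]) ?_⟩
  · obtain ⟨_, d, -, h2, -⟩ := h.rot.sc (h1 ▸ Sc.one)
    exact a1 (odd_sc ho h2 a2)
  · obtain ⟨d, _, h2, -⟩ := h.rot.rot.sc (h1 ▸ Sc.one)
    exact a1 (odd_sc ho h2 a2)
  · rw [pl_apply, pl_apply, add_pm, add_pm, ← f1, ← f2, h e y, h f y, b2, b3]

namespace Ex

variable {F V X Y : Type} [Field F] [Fintype F] [AddCommGroup V] [Module F V] [Finite V] [AddCommGroup X] [Module F X]
  [AddCommGroup Y] [Module F Y] {Q : QuadraticForm F V} {W : Submodule F V} {J : V ≃ₗ[F] V} {t : F}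

/-- the norm form of `F[X] / (X² - t X + 1)` -/
def nf (t : F) : QuadraticForm F (F × F) := linMulLin (LinearMap.fst F F F) (LinearMap.fst F F F) +
  t • linMulLin (LinearMap.fst F F F) (LinearMap.snd F F F) + linMulLin (LinearMap.snd F F F) (LinearMap.snd F F F)

theorem nf_apply (t : F) (x : F × F) : nf t x = x.1 * x.1 + t * (x.1 * x.2) + x.2 * x.2 := rfl

theorem nondeg_nf (ht : t ^ 2 ≠ 4) : Nondeg (nf t) := fun x hx => by
  have h1 := hx (1, 0)
  have h2 := hx (0, 1)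
  simp only [polar, nf_apply, Prod.fst_add, Prod.snd_add] at h1 h2
  exact Prod.ext (mul_left_cancel₀ (sub_ne_zero.2 ht) (show _ * x.1 = _ * 0 by linear_combination t * h2 - 2 * h1))
    (mul_left_cancel₀ (sub_ne_zero.2 ht) (show _ * x.2 = _ * 0 by linear_combination t * h1 - 2 * h2))

variable (Q W J) in
/-- an isometric embedding into `W` which intertwines `j` and `J` -/
def Md (R : QuadraticForm F X) (j : X → X) (φ : X →ₗ[F] V) : Prop :=
  ∀ x, Q (φ x) = R x ∧ φ x ∈ W ∧ J (φ x) = φ (j x)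

/-- the rotation -/
def rot (t : F) (x : F × F) : F × F := (-x.2, x.1 + t * x.2)

variable (Q W J t) in
/-- the hypotheses -/
structure Jn : Prop where
  nd : Nd Q W
  o : J ∈ O Q
  inv : ∀ x ∈ W, J x ∈ W
  rel : ∀ x ∈ W, J (J x) = t • J x - x

theorem step (hQ : Nondeg Q) (h : Jn Q W J t) (ht : t ^ 2 ≠ 4) {n : ℕ} (hn : finrank F W = n + 2) :
    ∃ φ, Md Q W J (nf t) (rot t) φ ∧ ∃ W' ≤ W, Jn Q W' J t ∧ finrank F W' = n ∧ ∀ x, ∀ w ∈ W', polar Q (φ x) w = 0 := by
  have : Module.Finite F V := Module.Finite.of_finite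
  obtain ⟨⟨u, hu⟩, h1⟩ := H954.TSing.exists_val (H955.nondeg_res_iff.2 h.nd) (by omega) 1
  replace h1 : Q u = 1 := h1
  let φ : F × F →ₗ[F] V := (LinearMap.toSpanSingleton F V u).coprod (LinearMap.toSpanSingleton F V (J u))
  have h2 : ∀ x, φ x = x.1 • u + x.2 • J u := fun _ => rfl
  have h3 : Md Q W J (nf t) (rot t) φ := fun x => by
    refine ⟨?_, add_mem (W.smul_mem _ hu) (W.smul_mem _ (h.inv u hu)), ?_⟩
    · rw [h2, Q_add, QuadraticMap.map_smul, QuadraticMap.map_smul, polar_smul_left, polar_smul_right,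
        polar_rot h.o (h.rel u hu) ht, h.o u, h1, nf_apply]
      simp only [smul_eq_mul]
      ring
    · rw [h2, h2, map_add, map_smul, map_smul, h.rel u hu, rot]
      module
  have h4 : Nd Q (LinearMap.range φ) := by
    rintro _ ⟨x, rfl⟩ hx
    rw [nondeg_nf ht x fun y => (FrO.polar_emb (fun x => (h3 x).1) x y).symm.trans (hx _ ⟨y, rfl⟩), map_zero]
  have h5 : LinearMap.range φ ≤ W := by
    rintro _ ⟨x, rfl⟩
    exact (h3 x).2.1
  have h6 := h4.finrank_inf_prp hQ h5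
  rw [LinearMap.finrank_range_of_inj (inj_emb (nondeg_nf ht) fun x => (h3 x).1), finrank_prod, finrank_self] at h6
  refine ⟨φ, h3, W ⊓ prp Q (LinearMap.range φ), inf_le_left, ⟨h4.nd_inf_prp hQ h5 h.nd, h.o, fun x hx => ⟨h.inv x hx.1,
    prp_inv h.o ?_ hx.2⟩, fun x hx => h.rel x hx.1⟩, by omega, fun x w hw => (polar_comm _ _ _).trans (mem_prp.1 hw.2 _ ⟨x, rfl⟩)⟩
  rintro _ ⟨x, rfl⟩
  exact ⟨_, (h3 x).2.2.symm⟩

theorem Md.sum {R : QuadraticForm F X} {S : QuadraticForm F Y} {j : X → X} {k : Y → Y} {φ : X →ₗ[F] V} {ψ : Y →ₗ[F] V}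
    {W' : Submodule F V} (h : Md Q W J R j φ) (h' : Md Q W' J S k ψ) (hW : W' ≤ W) (ho : ∀ x, ∀ w ∈ W', polar Q (φ x) w = 0) :
    Md Q W J (osum R S) (Prod.map j k) (φ.coprod ψ) := fun x =>
  ⟨by rw [LinearMap.coprod_apply, Q_add, ho _ _ (h' _).2.1, add_zero, (h _).1, (h' _).1, osum_apply],
    add_mem (h _).2.1 (hW (h' _).2.1), by rw [LinearMap.coprod_apply, map_add, (h _).2.2, (h' _).2.2]; rfl⟩

theorem std (hQ : Nondeg Q) (h : Jn Q W J t) (ht : t ^ 2 ≠ 4) (hn : finrank F W = 6) :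
    ∃ φ, Md Q W J (osum (nf t) (osum (nf t) (nf t))) (Prod.map (rot t) (Prod.map (rot t) (rot t))) φ := by
  obtain ⟨_, a1, _, a2, a3, a4, a5⟩ := step hQ h ht (n := 4) hn
  obtain ⟨_, b1, _, b2, b3, b4, b5⟩ := step hQ a3 ht (n := 2) a4
  obtain ⟨_, c1, -⟩ := step hQ b3 ht (n := 0) b4
  exact ⟨_, a1.sum (b1.sum c1 b2 b5) a2 a5⟩

open Polynomial in
theorem exists_root {L : Type} [Field L] [Algebra F L] [Finite L] (hL : finrank F L = 2 * 3) (h : ∀ l : F, l * l ≠ t * l - 1) :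
    ∃ ζ : L, ζ * ζ = t • ζ - 1 ∧ ζ ^ (Fintype.card F ^ 3 + 1) = 1 := by
  have hd : (X ^ 2 - C t * X + 1 : F[X]).natDegree = 2 := by compute_degree!
  have hi : Irreducible (X ^ 2 - C t * X + 1 : F[X]) := irreducible_of_degree_le_three_of_not_isRoot (by rw [hd]; simp)
    fun l hl => h l (by simp only [_root_.Polynomial.IsRoot.def, _root_.Polynomial.eval_add, _root_.Polynomial.eval_sub, _root_.Polynomial.eval_pow, _root_.Polynomial.eval_X, _root_.Polynomial.eval_mul, _root_.Polynomial.eval_C, _root_.Polynomial.eval_one] at hl; linear_combination hl)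
  have := Fact.mk hi
  obtain ⟨f⟩ := FiniteField.nonempty_algHom_of_finrank_dvd (F := F) (K := AdjoinRoot (X ^ 2 - C t * X + 1 : F[X])) (L := L)
    (by rw [hL, (AdjoinRoot.powerBasis hi.ne_zero).finrank, AdjoinRoot.powerBasis_dim, hd]; norm_num)
  obtain ⟨ζ, h1⟩ : ∃ ζ : L, aeval ζ (X ^ 2 - C t * X + 1 : F[X]) = 0 :=
    ⟨f (AdjoinRoot.root _), by rw [aeval_algHom_apply, AdjoinRoot.aeval_eq, AdjoinRoot.mk_self, map_zero]⟩
  have h2 : ζ * ζ = t • ζ - 1 := by
    simp only [map_add, map_sub, map_mul, map_pow, aeval_X, aeval_C, map_one] at h1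
    rw [Algebra.smul_def]
    linear_combination h1
  have h3 := congrArg (FiniteField.frobeniusAlgHom F L) h2
  rw [map_mul, map_sub, map_smul, map_one, FiniteField.coe_frobeniusAlgHom] at h3
  have h4 : ζ ^ Fintype.card F - ζ ≠ 0 := fun h4 => by
    have h5 := hi.natDegree_dvd_of_dvd_X_pow_card_pow_sub_X (n := 1) ((hi.dvd_iff_aeval_eq_zero h1).1 (by
      rw [map_sub, map_pow, aeval_X, pow_one, Nat.card_eq_fintype_card, h4]))
    rw [hd] at h5
    omega
  rw [Algebra.smul_def] at h3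
  have h5 := h2
  rw [Algebra.smul_def] at h5
  have h6 : ζ ^ Fintype.card F + ζ - algebraMap F L t = 0 := mul_left_cancel₀ h4 (by linear_combination h3 - h5)
  obtain ⟨m, hm⟩ := Odd.nat_add_dvd_pow_add_pow (Fintype.card F) 1 (n := 3) (by decide)
  rw [one_pow] at hm
  exact ⟨ζ, h2, by rw [hm, pow_mul, pow_succ, show ζ ^ Fintype.card F * ζ = 1 by linear_combination ζ * h6 - h5, one_pow]⟩

/-- the Singer cycle of `GU₃(q)` -/
theorem nonsplit (hQ : Nondeg Q) (h : Jn Q W J t) (ht : t ^ 2 ≠ 4) (hn : finrank F W = 6) (hl : ∀ l : F, l * l ≠ t * l - 1) :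
    ∃ a ∈ O Q, orderOf a = Fintype.card F ^ 3 + 1 ∧ (∀ v ∈ prp Q W, a v = v) ∧ ∀ w ∈ W, a w ∈ W ∧ a (J w) = J (a w) := by
  have : Module.Finite F V := Module.Finite.of_finite
  obtain ⟨L, _, _, _, R, u, hR, ho, hu⟩ := H530.OZ.exists_torusM F three_ne_zero
  have : Module.Finite F L := Module.Finite.of_finite
  obtain ⟨ζ, z1, z2⟩ := exists_root hR.dim hl
  have : NeZero (Fintype.card F ^ 3 + 1) := ⟨Nat.succ_ne_zero _⟩
  obtain ⟨i, -, z3⟩ := (ho ▸ IsPrimitiveRoot.orderOf u).eq_pow_of_pow_eq_one z2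
  have u0 : u ≠ 0 := fun h0 => by
    have h1 := pow_orderOf_eq_one u
    rw [ho, h0, zero_pow (Nat.succ_ne_zero _)] at h1
    exact zero_ne_one h1
  have u1 : ∀ (n : ℕ) x, (H93.CJ.mulL F u u0 ^ n) x = u ^ n * x := fun n x => by
    induction n with
    | zero => rw [pow_zero, pow_zero, one_mul]; rfl
    | succ n ih => rw [pow_succ', LinearEquiv.mul_apply, ih, pow_succ', mul_assoc]; rfl
  have u2 : H93.CJ.mulL F u u0 ∈ O R := hu
  have hN := nondeg_osum (nondeg_nf ht) (nondeg_osum (nondeg_nf ht) (nondeg_nf ht))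
  obtain ⟨φ, p1⟩ := std hQ h ht hn
  obtain ⟨ψ, p2⟩ := std (W := ⊤) (J := H93.CJ.mulL F u u0 ^ i) hR.nondeg ⟨nd_top hR.nondeg, pow_mem u2 i, fun _ _ => trivial,
    fun x _ => by rw [u1, u1, z3, ← mul_assoc, z1, sub_mul, one_mul, smul_mul_assoc]⟩ ht ((finrank_top _ _).trans hR.dim)
  let e := ψ.linearEquivOfInjective (inj_emb hN fun x => (p2 x).1) (by rw [hR.dim]; simp)
  have e1 : ∀ x, e x = ψ x := fun _ => rfl
  have e2 : ∀ y, Q ((φ ∘ₗ e.symm.toLinearMap) y) = R y := fun y =>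
    (p1 _).1.trans ((p2 _).1.symm.trans (congrArg R (e.apply_symm_apply y)))
  have e3 : ∀ y, J ((φ ∘ₗ e.symm.toLinearMap) y) = (φ ∘ₗ e.symm.toLinearMap) (ζ * y) := fun y =>
    (p1 _).2.2.trans (congrArg φ (e.eq_symm_apply.2 (by rw [e1, ← (p2 _).2.2, ← e1, u1, z3]; simp)))
  have e4 : LinearMap.range (φ ∘ₗ e.symm.toLinearMap) = W := Submodule.eq_of_le_of_finrank_eq
    (by rintro _ ⟨y, rfl⟩; exact (p1 _).2.1) (by rw [LinearMap.finrank_range_of_inj (inj_emb hR.nondeg e2), hR.dim, hn])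
  obtain ⟨a, a1, a2, a3, a4⟩ := ext_of hR.nondeg e2 u2
  refine ⟨a, a1, ho ▸ orderOf_eq_orderOf_iff.2 fun n => (a4 n).trans ⟨fun k => ?_, fun k => LinearEquiv.ext fun x => ?_⟩,
    fun v hv => a3 v fun y => (polar_comm _ _ _).trans (mem_prp.1 hv _ (p1 _).2.1), fun w hw => ?_⟩
  · rw [← mul_one (u ^ n), ← u1, k]
    rfl
  · rw [u1, k, one_mul]
    rfl
  · obtain ⟨y, rfl⟩ := e4.ge hw
    refine ⟨a2 y ▸ (p1 _).2.1, ?_⟩
    rw [e3, a2, a2, e3]
    exact congrArg _ (mul_left_comm u ζ y)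

end Ex

open Ex in
/-- **a Singer element of `GL₃(q)` or `GU₃(q)`** -/
theorem boxEx6 : BoxEx6 := fun F _ _ W J t h6 hW hJ hi hr ht => by
  by_cases hl : ∃ l : F, l * l = t * l - 1
  · obtain ⟨l, hl⟩ := hl
    obtain ⟨r, hp, ho, h0, h3, hq⟩ := exists_prime F (n := 3) (.inl rfl)
    have h1 : l - (t - l) ≠ 0 := fun h => ht (by linear_combination (-4) * hl + (2 * l - t) * h)
    have h2 : ∀ c : F, c * c = t * c - 1 → ∀ u ∈ W ⊓ LinearMap.ker (J.toLinearMap - c • LinearMap.id), Q8 F u = 0 :=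
      fun c hc u hu => by
        have h2 := hJ u
        rw [show J u = c • u from sub_eq_zero.1 hu.2, QuadraticMap.map_smul, smul_eq_mul] at h2
        by_contra h4
        have h5 := mul_right_cancel₀ h4 (h2.trans (one_mul _).symm)
        exact ht (by linear_combination (-(t * c + 2)) * hc + (t * c + 2 - t ^ 2) * h5)
    have h4 : (t - l) * (t - l) = t * (t - l) - 1 := by linear_combination hl
    have h5 : ∀ c d : F, c + d = t → c * d = 1 → ∀ w ∈ W, J w - d • w ∈ W ⊓ LinearMap.ker (J.toLinearMap - c • LinearMap.id) :=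
      fun c d k1 k2 w hw => ⟨sub_mem (hi w hw) (W.smul_mem _ hw), show J _ - c • _ = 0 by
        rw [map_sub, map_smul, hr w hw, LinearMap.id_apply, smul_sub, smul_smul, k2, ← k1]
        module⟩
    have hs : W ⊓ LinearMap.ker (J.toLinearMap - l • LinearMap.id) ⊔
        W ⊓ LinearMap.ker (J.toLinearMap - (t - l) • LinearMap.id) = W :=
      le_antisymm (sup_le inf_le_left inf_le_left) fun w hw => by
        rw [← inv_smul_smul₀ h1 w, show (l - (t - l)) • w = (J w - (t - l) • w) - (J w - l • w) by module]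
        exact Submodule.smul_mem _ _ (sub_mem (Submodule.mem_sup_left (h5 _ _ (by ring) (by linear_combination -hl) w hw))
          (Submodule.mem_sup_right (h5 _ _ (by ring) (by linear_combination -hl) w hw)))
    obtain ⟨d1, d2⟩ := halves hW (h2 l hl) (h2 _ h4) hs (n := 3) h6
    obtain ⟨a, a1, a2, a3, a4, a5⟩ := ts_ord (h2 l hl) (h2 _ h4) (fun u hu h => hW u hu.1 fun v hv => by
      obtain ⟨v, hv', w, hw, rfl⟩ := Submodule.mem_sup.1 (hs.ge hv)
      rw [polar_add_right, h v hv', polar_of_ts (h2 _ h4) hu hw, add_zero]) d1 d2 hp ho ((hq 3).2 dvd_rfl)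
    refine ⟨a, .inl ⟨a1, r, hp, h0, h3, a2⟩, fun v hv => a5 v (fun u hu => (polar_comm _ _ _).trans (mem_prp.1 hv u hu.1))
      fun u hu => (polar_comm _ _ _).trans (mem_prp.1 hv u hu.1), fun x hx => ?_⟩
    obtain ⟨v, hv, w, hw, rfl⟩ := Submodule.mem_sup.1 (hs.ge hx)
    rw [map_add, map_add, map_add, map_add, show J v = l • v from sub_eq_zero.1 hv.2,
      show J w = (t - l) • w from sub_eq_zero.1 hw.2, show J (a.1 v) = l • a.1 v from sub_eq_zero.1 (a3 v hv).2,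
      show J (a.1 w) = (t - l) • a.1 w from sub_eq_zero.1 (a4 w hw).2, map_smul, map_smul]
  obtain ⟨a, a1, a2, a3, a4⟩ := nonsplit nondeg8' ⟨hW, hJ, hi, hr⟩ ht h6 fun l h => hl ⟨l, h⟩
  have a5 : ∀ n, (∀ v ∈ prp (Q8 F) W, (a ^ n) v = v) ∧ ∀ w ∈ W, (a ^ n) (J w) = J ((a ^ n) w) := fun n =>
    ⟨fun v hv => pow_fix (a3 v hv) n, fun w hw => by
      induction n with
      | zero => rfl
      | succ n ih => rw [pow_succ', LinearEquiv.mul_apply, ih, (a4 _ (pow_inv (fun w hw => (a4 w hw).1) n w hw)).2]; rfl⟩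
  rw [← Nat.card_eq_fintype_card] at a2
  by_cases h2 : Nat.card F = 2
  · rw [h2] at a2
    have h9 : a ^ 9 = 1 := orderOf_dvd_iff_pow_eq_one.1 a2.dvd
    exact ⟨⟨a, E2_le_E good8 (odd_E2 a1 (by decide) h9)⟩, .inr ⟨h2, Subtype.ext h9, fun h =>
      pow_ne_one_of_lt_orderOf three_ne_zero (by rw [a2]; norm_num) (congrArg Subtype.val h)⟩, a3, fun w hw => (a4 w hw).2⟩
  obtain ⟨r, hp, ho, h0, h3, hq⟩ := exists_prime F (n := 6) (.inr ⟨rfl, h2⟩)
  obtain ⟨m, hm⟩ : r ∣ orderOf a := by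
    have h1 := (hq 6).2 dvd_rfl
    rw [show 6 = 3 * 2 from rfl, pow_mul, ← one_pow 2, Nat.sq_sub_sq] at h1
    exact a2 ▸ (hp.dvd_mul.1 h1).resolve_right (by rw [hq]; norm_num)
  have h7 : (a ^ m) ^ r = 1 := by rw [← pow_mul', ← hm, pow_orderOf_eq_one]
  have h8 : m ≠ 0 := by
    rintro rfl
    omega
  exact ⟨⟨a ^ m, E2_le_E good8 (odd_E2 (pow_mem a1 m) ho h7)⟩, .inl ⟨fun h => pow_ne_one_of_lt_orderOf h8
    (hm ▸ lt_mul_of_one_lt_left (Nat.pos_of_ne_zero h8) hp.one_lt) (congrArg Subtype.val h), r, hp, h0, h3,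
      Subtype.ext h7⟩, a5 m⟩

end Cfsg.Agent.N2C.D4
end

-- part: N2/Cl/D4/Fix
section
/-!
# N2 (S3519), `PΩ₈⁺(q)` with triality: fixed vectors (helper47)

**`boxFix`** : the fixed space of the perfect lift is a hyperbolic plane, a non-singular point or a singular point.
-/

set_option autoImplicit false
set_option linter.unusedSectionVars false

namespace Cfsg.Agent.N2C.D4

open QuadraticMap Module Cfsg.Agent.LieClassical.QuadForms Cfsg.Agent.LieClassical.OrthCore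
  Cfsg.Agent.LieClassical.OrthTrans Cfsg.Agent.ClassicalGeometry.OrthSemi Cfsg.Agent.ClassicalGeometry.OrthAut1
  Cfsg.Agent.ClassicalGeometry.TrialityOct Cfsg.Agent.ClassicalGeometry.Triality
  Cfsg.Agent.H989.OutOrth.Basic Cfsg.Agent.H989.OutOrth.Tri Cfsg.Agent.SB.D4

namespace Fix

variable {F : Type} [Field F] [Fintype F]

/-- the fixed vectors -/
def FL (L : Subgroup (E8 F)) : Submodule F (V8 F) where
  carrier := {v | ∀ a ∈ L, a.1 v = v}
  add_mem' hx hy a ha := by rw [map_add, hx a ha, hy a ha]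
  zero_mem' a _ := map_zero _
  smul_mem' c _ hx a ha := by rw [map_smul, hx a ha]

theorem gmap_FL (M : Gam (Q8 F)) (L : Subgroup (E8 F)) : gmap M⁻¹ (FL L) = FL (cL M L) := by
  ext v
  rw [mem_gmap, inv_inv]
  refine ⟨fun h b hb => M.1.injective ?_, fun h a ha => ?_⟩
  · rw [← conjE_apply]
    exact h _ hb
  · rw [← conjE_conjE_inv M a, conjE_apply, h _ (by rwa [mem_cL, conjE_conjE_inv])]

theorem pm_mem {L₁ L₂ L₃ : Subgroup (E8 F)} (h : ∀ a ∈ L₁, ∃ b ∈ L₂, ∃ c ∈ L₃, T3 a b c) {x y : V8 F} (hx : x ∈ FL L₂)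
    (hy : y ∈ FL L₃) : pm x y ∈ FL L₁ := fun a ha => by
  obtain ⟨b, hb, c, hc, t⟩ := h a ha
  rw [t, hx b hb, hy c hc]

theorem sc_siegel {e w : V8 F} (he : Q8 F e = 0) (hw : polar (Q8 F) e w = 0) (h0 : e ≠ 0) {d : F}
    (h : Sc ⟨siegel (Q8 F) e w he hw, siegel_mem_E he hw⟩ d) : ∃ c : F, w = c • e := by
  have h1 : ∀ x, siegel (Q8 F) e w he hw x = d • x := h
  have h2 := h1 e
  rw [siegel_apply, polar_self_of_sing he, polar_comm, hw, mul_zero, zero_smul, zero_smul, add_zero, sub_zero, sub_zero] at h2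
  obtain rfl : 1 = d := smul_left_injective F h0 ((one_smul F e).trans h2)
  obtain ⟨x, hx⟩ := nondeg8'.exists_polar_eq h0 1
  have h3 := h1 x
  rw [siegel_apply, hx] at h3
  exact ⟨polar (Q8 F) w x + Q8 F w, by linear_combination (norm := module) h3⟩

section cen

variable {L : Subgroup (E8 F)} (hc : ∀ g : E8 F, (∀ l ∈ L, l * g = g * l) → ∃ d, Sc g d)
include hc

theorem sing {e w : V8 F} (he : e ∈ FL L) (hw : w ∈ FL L) (h1 : Q8 F e = 0) (h0 : e ≠ 0) (h2 : polar (Q8 F) e w = 0) :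
    ∃ c : F, w = c • e := by
  obtain ⟨d, hd⟩ := hc ⟨siegel (Q8 F) e w h1 h2, siegel_mem_E h1 h2⟩ fun l hl => e8_ext fun x => by
    have h3 := polar_map (E_le_O l.2) e x
    have h4 := polar_map (E_le_O l.2) w x
    rw [he l hl] at h3
    rw [hw l hl] at h4
    change l.1 (siegel (Q8 F) e w h1 h2 x) = siegel (Q8 F) e w h1 h2 (l.1 x)
    simp only [siegel_apply, siegel_apply, h3, h4, map_sub, map_sub, map_add, map_smul, map_smul, map_smul, he l hl, hw l hl]
  exact sc_siegel h1 h2 h0 hd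

theorem rot {u v : V8 F} (hu : u ∈ FL L) (hv : v ∈ FL L) (h0 : Q8 F u ≠ 0) (h1 : Q8 F u = Q8 F v) : ∃ c : F, v = c • u := by
  have h0' : Q8 F v ≠ 0 := h1 ▸ h0
  have key : ∀ l ∈ L, ∀ w ∈ FL L, ∀ (k : Q8 F w ≠ 0) (x : V8 F), l.1 (refl (Q8 F) w k x) = refl (Q8 F) w k (l.1 x) := by
    intro l hl w hw k x
    have h3 := polar_map (E_le_O l.2) w x
    rw [hw l hl] at h3
    rw [refl_apply, refl_apply, h3, map_sub, map_smul, hw l hl]
  obtain ⟨d, hd⟩ := hc ⟨_, good8.refl_mul_refl_mem h0 h0' h1⟩ fun l hl => e8_ext fun x => by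
    change l.1 (refl (Q8 F) v h0' (refl (Q8 F) u h0 x)) = refl (Q8 F) v h0' (refl (Q8 F) u h0 (l.1 x))
    rw [key l hl v hv, key l hl u hu]
  have h2 : ∀ x, refl (Q8 F) v h0' (refl (Q8 F) u h0 x) = d • x := hd
  obtain ⟨z, hz0, hz⟩ := exists_perp_ne (Q := Q8 F) ![u, v] (by rw [finrank8]; omega)
  have h3 := h2 z
  rw [refl_apply h0, show polar (Q8 F) u z = 0 from hz 0, mul_zero, zero_smul, sub_zero, refl_apply,
    show polar (Q8 F) v z = 0 from hz 1, mul_zero, zero_smul, sub_zero] at h3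
  obtain rfl : 1 = d := smul_left_injective F hz0 ((one_smul F z).trans h3)
  obtain ⟨x, hx⟩ := nondeg8'.exists_polar_eq (x := v) (fun e => h0' (by rw [e, map_zero])) (Q8 F v)
  have h4 := congrArg (refl (Q8 F) v h0') (h2 x)
  rw [← LinearEquiv.mul_apply, refl_mul_self, one_smul, LinearEquiv.coe_one, id, refl_apply, refl_apply, hx,
    inv_mul_cancel₀ h0', one_smul] at h4
  exact ⟨_, (sub_right_injective h4).symm⟩

theorem aniso (ha : ∀ w ∈ FL L, Q8 F w = 0 → w = 0) {u : V8 F} (hu : u ∈ FL L) (h0 : u ≠ 0) :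
    ∀ w ∈ FL L, ∃ c : F, w = c • u := by
  have h1 : Q8 F u ≠ 0 := fun e => h0 (ha u hu e)
  have key : ∀ w ∈ FL L, polar (Q8 F) w u ≠ 0 → ∃ c : F, w = c • u := by
    intro w hw h2
    have h3 : Q8 F w ≠ 0 := fun e => h2 (by rw [ha w hw e, polar_zero_left])
    obtain ⟨c, h4⟩ := rot hc hu (v := refl (Q8 F) w h3 u) (by
      rw [refl_apply]
      exact sub_mem hu ((FL L).smul_mem _ hw)) h1 (refl_mem_O h3 u).symm
    rw [refl_apply] at h4
    have h5 : (Q8 F w)⁻¹ * polar (Q8 F) w u ≠ 0 := mul_ne_zero (inv_ne_zero h3) h2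
    refine ⟨((Q8 F w)⁻¹ * polar (Q8 F) w u)⁻¹ * (1 - c), ?_⟩
    rw [mul_smul, eq_inv_smul_iff₀ h5]
    linear_combination (norm := module) -h4
  intro w hw
  by_cases h2 : polar (Q8 F) w u = 0
  swap
  · exact key w hw h2
  by_cases h3 : (2 : F) = 0
  · obtain ⟨s, hs⟩ := FiniteField.isSquare_of_char_two
      (CharP.ringChar_of_prime_eq_zero Nat.prime_two (by exact_mod_cast h3)) (Q8 F w * (Q8 F u)⁻¹)
    refine ⟨-s, eq_neg_of_add_eq_zero_left (ha _ (add_mem hw ((FL L).smul_mem s hu)) ?_) |>.trans (neg_smul s u).symm⟩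
    rw [Q_add, QuadraticMap.map_smul, polar_smul_right, h2, ← hs, smul_zero, add_zero, smul_eq_mul, inv_mul_cancel_right₀ h1,
      ← two_mul, h3, zero_mul]
  · obtain ⟨c, h4⟩ := key (w + u) (add_mem hw hu) (by
      rw [polar_add_left, h2, zero_add, polar_self']
      exact mul_ne_zero h3 h1)
    exact ⟨c - 1, by linear_combination (norm := module) h4⟩

theorem hyp {e f : V8 F} (he : e ∈ FL L) (hf : f ∈ FL L) (h1 : Q8 F e = 0) (h2 : polar (Q8 F) e f ≠ 0) :
    ∀ w ∈ FL L, ∃ c d : F, w = c • e + d • f := by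
  intro w hw
  obtain ⟨c, h3⟩ := sing hc he (sub_mem hw ((FL L).smul_mem (polar (Q8 F) e w * (polar (Q8 F) e f)⁻¹) hf)) h1
    (fun k => h2 (by rw [k, polar_zero_left])) (by rw [polar_sub_right, polar_smul_right, smul_eq_mul, inv_mul_cancel_right₀ h2, sub_self])
  exact ⟨c, _, sub_eq_iff_eq_add.1 h3⟩

end cen

/-! ### points -/

theorem kp_iff {W : Submodule F (V8 F)} {v : V8 F} (hv : v ∈ W) (h : ∀ w ∈ W, ∃ c : F, w = c • v) {a : E8 F} :
    Kp a W W ↔ Fp a v := by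
  refine ⟨fun k => h _ (k v hv), fun ⟨l, hl⟩ w hw => ?_⟩
  obtain ⟨c, rfl⟩ := h w hw
  rw [map_smul, hl]
  exact W.smul_mem _ (W.smul_mem _ hv)

theorem line_gmap (M : Gam (Q8 F)) {W : Submodule F (V8 F)} {v : V8 F} (h : ∀ w ∈ W, ∃ c : F, w = c • v) :
    ∀ w ∈ gmap M W, ∃ c : F, w = c • M.1 v := by
  intro w hw
  obtain ⟨σ, hσ⟩ := gam_smul M
  obtain ⟨c, hc⟩ := h _ hw
  exact ⟨σ c, by rw [← hσ, ← hc, gam_apply_inv]⟩

theorem step {a b c : E8 F} (t : T3 a b c) {U₁ U₂ : Submodule F (V8 F)} (hd : finrank F U₁ = finrank F U₂) {y : V8 F}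
    (hy : Q8 F y ≠ 0) (h : ∀ x ∈ U₂, pm x y ∈ U₁) (hb : ∀ x ∈ U₂, b.1 x = x) (hc : c.1 y = y) : ∀ x ∈ U₁, a.1 x = x := by
  have h1 : U₂.map (pr y) = U₁ := Submodule.eq_of_le_of_finrank_eq (by
    rintro _ ⟨x, hx, rfl⟩
    exact h x hx) (by rw [hd]; exact (Submodule.equivMapOfInjective _ (pr_injective hy) U₂).finrank_eq.symm)
  rw [← h1]
  rintro _ ⟨x, hx, rfl⟩
  rw [pr_apply, t, hb x hx, hc]

/-- the unipotent radical of the stabiliser of a point -/
def UR (v : V8 F) : Subgroup (E8 F) where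
  carrier := {s | s.1 v = v ∧ ∀ x, polar (Q8 F) v x = 0 → ∃ c : F, s.1 x = x + c • v}
  mul_mem' := by
    rintro a b ⟨ha, ha'⟩ ⟨hb, hb'⟩
    refine ⟨by rw [e8_mul, hb, ha], fun x hx => ?_⟩
    obtain ⟨c, hc⟩ := ha' x hx
    obtain ⟨d, hd⟩ := hb' x hx
    exact ⟨c + d, by rw [e8_mul, hd, map_add, map_smul, hc, ha, add_smul, add_assoc]⟩
  one_mem' := ⟨rfl, fun x _ => ⟨0, by rw [zero_smul, add_zero]; rfl⟩⟩
  inv_mem' := by
    rintro a ⟨ha, ha'⟩
    refine ⟨a.1.symm_apply_eq.2 ha.symm, fun x hx => ?_⟩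
    obtain ⟨c, hc⟩ := ha' x hx
    exact ⟨-c, a.1.symm_apply_eq.2 (by rw [map_add, map_smul, hc, ha, neg_smul, add_neg_cancel_right])⟩

theorem UR_conj (M : Gam (Q8 F)) {v v' : V8 F} {l : F} (h : M.1 v = l • v') (h0 : v ≠ 0) {s : E8 F} (hs : s ∈ UR v) :
    conjE (Q8 F) M s ∈ UR v' := by
  have hl : l ≠ 0 := by
    rintro rfl
    exact gam_ne M h0 (by rw [h, zero_smul])
  obtain ⟨σ, c, hM⟩ := M.2
  refine ⟨smul_right_injective _ hl ?_, fun x hx => ?_⟩
  · change l • _ = l • _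
    rw [← map_smul, ← h, conjE_apply, hs.1]
  · obtain ⟨x, rfl⟩ := M.1.surjective x
    have h1 := hM.polar v x
    rw [h, polar_smul_left, hx, smul_zero, eq_comm, mul_eq_zero, or_iff_right hM.ne, map_eq_zero] at h1
    obtain ⟨d, hd⟩ := hs.2 x h1
    exact ⟨σ d * l, by rw [conjE_apply, hd, add_of_mem M.2, hM.smul, h, smul_smul]⟩

theorem UR_pgroup (v : V8 F) : IsPGroup (ringChar F) (UR v) := by
  rintro ⟨s, hs, hs'⟩
  have hp : (ringChar F).Prime := CharP.char_is_prime F _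
  have := Fact.mk hp
  have : Nontrivial (V8 F) := ⟨_, _, e8_ne⟩
  have : CharP (Module.End F (V8 F)) (ringChar F) := charP_of_injective_algebraMap' F _
  let ρ := LinearEquiv.automorphismGroup.toLinearMapMonoidHom (R := F) (M := V8 F)
  have h1 : (ρ s.1 - 1) ^ 3 = 0 := LinearMap.ext fun x => by
    obtain ⟨c, hc⟩ := hs' (s.1 x - x) (by
      have h2 := polar_map (E_le_O s.2) v x
      rw [hs] at h2
      rw [polar_sub_right, h2, sub_self])
    have h3 : ∀ y, (ρ s.1 - 1) y = s.1 y - y := fun _ => rfl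
    rw [pow_three, Module.End.mul_apply, Module.End.mul_apply, h3, h3, h3, hc, add_sub_cancel_left, map_smul, hs, sub_self]
    rfl
  have h2 : ρ s.1 ^ ringChar F ^ 2 = 1 := by
    have h3 := Nat.pow_le_pow_left hp.two_le 2
    rw [← sub_add_cancel (ρ s.1) 1, add_pow_char_pow_of_commute _ _ (Commute.one_right _),
      pow_eq_zero_of_le (by omega) h1, one_pow, zero_add]
  rw [← map_pow] at h2
  exact ⟨2, Subtype.ext (e8_ext fun x => LinearMap.congr_fun h2 x)⟩

theorem fp_left {a b c : E8 F} (t : T3 a b c) {u v : V8 F} (ha : a ∈ UR u) (hv : Q8 F v = 0) (h0 : v ≠ 0) (h : pm u v = 0) :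
    Fp b v := by
  obtain ⟨z, hz⟩ := nondeg8'.exists_polar_eq h0 1
  have h1 := pm_lin_right v z u
  rw [h, pm_zero, add_zero, hz, one_smul] at h1
  refine pl_line hv h0 ((mem_O.1 (E_le_O b.2) v).trans hv) (b.1.map_ne_zero_iff.2 h0) fun x => ?_
  obtain ⟨x, rfl⟩ := c.1.surjective x
  obtain ⟨k, hk⟩ := ha.2 (pm v x) (by rw [← polar_pm, h, polar_zero_left])
  exact ⟨x + k • pm u z, by rw [← t, hk, pm_add, pm_smul, h1]⟩

theorem fp_right {a b c : E8 F} (t : T3 a b c) {u v : V8 F} (ha : a ∈ UR u) (hv : Q8 F v = 0) (h0 : v ≠ 0) (h : pm v u = 0) :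
    Fp c v := by
  obtain ⟨z, hz⟩ := nondeg8'.exists_polar_eq h0 1
  have h1 := pm_lin_left v z u
  rw [h, zero_pm, zero_add, hz, one_smul] at h1
  refine pr_line hv h0 ((mem_O.1 (E_le_O c.2) v).trans hv) (c.1.map_ne_zero_iff.2 h0) fun x => ?_
  obtain ⟨x, rfl⟩ := b.1.surjective x
  obtain ⟨k, hk⟩ := ha.2 (pm x v) (by rw [polar_comm, polar_pm, h, polar_zero_right])
  exact ⟨x + k • pm z u, by rw [← t, hk, add_pm, smul_pm, h1]⟩

theorem two_zero {x y z : V8 F} {c : F} (h : pm x y = c • z) (hc : c ≠ 0) (hx : Q8 F x = 0) (hy : Q8 F y = 0) :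
    pm z x = 0 ∧ pm y z = 0 := by
  have h1 := pm_pm_left x y
  have h2 := pm_pm_right y x
  rw [h, smul_pm, hx, zero_smul] at h1
  rw [h, pm_smul, hy, zero_smul] at h2
  exact ⟨(smul_eq_zero.1 h1).resolve_left hc, (smul_eq_zero.1 h2).resolve_left hc⟩

section cx

variable {A : Subgroup (G8 F)} {Γ : Subgroup (MulAut (G8 F))} {M₁ M₂ : Gam (Q8 F)}

/-- three singular points -/
theorem par (h : Cx A Γ M₁ M₂) {v : V8 F} (hv : Q8 F v = 0) (h0 : v ≠ 0)
    (hA : ∀ a b c : E8 F, T3 a b c → ((a : G8 F) ∈ A ↔ Fp a v ∧ Fp b (M₁⁻¹.1 v) ∧ Fp c (M₂⁻¹.1 v)))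
    (h2 : ∃ c : F, pm (M₂⁻¹.1 v) v = c • M₁⁻¹.1 v) (h3 : ∃ c : F, pm v (M₁⁻¹.1 v) = c • M₂⁻¹.1 v) : False := by
  have q2 := gam_sing M₁⁻¹ hv
  have q3 := gam_sing M₂⁻¹ hv
  have n2 := gam_ne M₁⁻¹ h0
  have n3 := gam_ne M₂⁻¹ h0
  have fp : ∀ {u : V8 F} {s : E8 F}, s ∈ UR u → Fp s u := fun hs => ⟨1, hs.1.trans (one_smul F _).symm⟩
  have hle : ∀ s ∈ UR v, (s : G8 F) ∈ A := by
    intro s hs
    obtain ⟨c₂, h2⟩ := h2
    obtain ⟨c₃, h3⟩ := h3
    by_cases k3 : c₃ = 0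
    · rw [k3, zero_smul] at h3
      by_cases k2 : c₂ = 0
      · rw [k2, zero_smul] at h2
        obtain ⟨b, c, t⟩ := exists_T3 s
        exact (hA s b c t).2 ⟨fp hs, fp_left t hs q2 n2 h3, fp_right t hs q3 n3 h2⟩
      · have k := UR_conj M₁⁻¹ (one_smul F _).symm h0 hs
        obtain ⟨a, c, t⟩ := exists_T3₁ (conjE (Q8 F) M₁⁻¹ s)
        rw [← conjE_conjE_inv M₁ s, ← h.sym1 h.invA t]
        exact (hA _ _ _ t).2 ⟨fp_right t.rot k hv h0 h3, fp k, fp_left t.rot k q3 n3 (two_zero h2 k2 q3 hv).1⟩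
    · have k := UR_conj M₂⁻¹ (one_smul F _).symm h0 hs
      obtain ⟨a, b, t⟩ := exists_T3₂ (conjE (Q8 F) M₂⁻¹ s)
      obtain ⟨k1, k2⟩ := two_zero h3 k3 hv q2
      rw [← conjE_conjE_inv M₂ s, ← h.sym2 h.invA t]
      exact (hA _ _ _ t).2 ⟨fp_left t.rot.rot k hv h0 k1, fp_right t.rot.rot k q2 n2 k2, fp k⟩
  have hP := h.np ((UR v).map (QuotientGroup.mk' _)) (by
    rintro _ ⟨s, hs, rfl⟩
    exact hle s hs) (by
    rintro a ha _ ⟨s, hs, rfl⟩
    obtain ⟨a, rfl⟩ := QuotientGroup.mk_surjective a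
    obtain ⟨b, c, t⟩ := exists_T3 a
    obtain ⟨l, hl⟩ := ((hA a b c t).1 ha).1
    exact ⟨conjE (Q8 F) (og a) s, UR_conj (og a) hl h0 hs, rfl⟩) ((UR_pgroup v).map _)
  obtain ⟨f, hf⟩ := exists_hyp nondeg8' hv h0
  obtain ⟨z, z0, -, z1, z2⟩ := (good8 (F := F)).perp v f hf
  have h4 : (⟨siegel (Q8 F) v z hv z1, siegel_mem_E hv z1⟩ : E8 F) ∈ UR v := by
    refine ⟨?_, fun x hx => ⟨-polar (Q8 F) z x, ?_⟩⟩
    · change siegel (Q8 F) v z hv z1 v = v
      rw [siegel_apply, polar_self_of_sing hv, polar_comm, z1, mul_zero, zero_smul, zero_smul, add_zero, sub_zero, sub_zero]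
    · change siegel (Q8 F) v z hv z1 x = _
      rw [siegel_apply, hx, mul_zero, zero_smul, zero_smul, add_zero, sub_zero, neg_smul, sub_eq_add_neg]
  obtain ⟨d, hd⟩ := mk_eq_one_iff.1 (Subgroup.mem_bot.1 (hP.le ⟨_, h4, rfl⟩))
  obtain ⟨c, rfl⟩ := sc_siegel hv z1 h0 hd
  rw [polar_smul_right, hf.pair', smul_eq_mul, mul_one] at z2
  exact z0 (by rw [z2, zero_smul])

end cx

end Fix

open Fix in
/-- **[Fix]** -/
theorem boxFix : BoxFix := by
  intro lm F _ _ A Γ M₁ M₂ N 𝓣 h hn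
  rw [NoFix] at hn
  push Not at hn
  obtain ⟨v, hv, hv0⟩ := hn
  replace hv : v ∈ FL (lf N) := hv
  have hW : ∀ M ∈ LL Γ, ∀ v ∈ FL (lf N), M.1 v ∈ FL (lf N) := fun M hM v hv a ha => by
    rw [← conjE_conjE_inv M a, conjE_apply, hv _ (h.conj_lf (inv_mem hM) ha)]
  have hA := fun a b c => h.toCx.core_S (U := FL (lf N)) (a := a) (b := b) (c := c)
    ((Submodule.ne_bot_iff _).2 ⟨v, hv, hv0⟩) (fun e => h.ne (eq_bot_iff.2 fun n hn => by
      obtain ⟨a, ha, rfl⟩ := lf_onto h.perfN hn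
      rw [show a = 1 from e8_ext fun x => (e.ge Submodule.mem_top : x ∈ FL (lf N)) a ha]
      exact one_mem _)) hW
  have p1 : ∀ x ∈ gmap M₁⁻¹ (FL (lf N)), ∀ y ∈ gmap M₂⁻¹ (FL (lf N)), pm x y ∈ FL (lf N) := by
    rw [gmap_FL, gmap_FL]
    exact fun x hx y hy => pm_mem (fun _ => h.tri) hx hy
  have p2 : ∀ x ∈ gmap M₂⁻¹ (FL (lf N)), ∀ y ∈ FL (lf N), pm x y ∈ gmap M₁⁻¹ (FL (lf N)) := by
    rw [gmap_FL, gmap_FL]
    refine fun x hx y hy => pm_mem (fun _ hb => ?_) hx hy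
    obtain ⟨a, ha, c, hc, t⟩ := h.tri₁ hb
    exact ⟨c, hc, a, ha, t.rot⟩
  have p3 : ∀ x ∈ FL (lf N), ∀ y ∈ gmap M₁⁻¹ (FL (lf N)), pm x y ∈ gmap M₂⁻¹ (FL (lf N)) := by
    rw [gmap_FL, gmap_FL]
    refine fun x hx y hy => pm_mem (fun _ hc => ?_) hx hy
    obtain ⟨a, ha, b, hb, t⟩ := h.tri₂ hc
    exact ⟨a, ha, b, hb, t.rot.rot⟩
  have line : ∀ u ∈ FL (lf N), u ≠ 0 → (∀ w ∈ FL (lf N), ∃ c : F, w = c • u) → FP3.Good A := by
    intro u hu hu0 hl
    have m1 := (apply_mem_gmap (M := M₁⁻¹)).2 hu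
    have m2 := (apply_mem_gmap (M := M₂⁻¹)).2 hu
    have hA' : ∀ a b c : E8 F, T3 a b c → ((a : G8 F) ∈ A ↔ Fp a u ∧ Fp b (M₁⁻¹.1 u) ∧ Fp c (M₂⁻¹.1 u)) := fun a b c t => by
      rw [hA a b c t, kp_iff hu hl, kp_iff m1 (line_gmap _ hl), kp_iff m2 (line_gmap _ hl)]
    by_cases hq : Q8 F u = 0
    · exact (par h.toCx hq hu0 hA' (line_gmap _ hl _ (p2 _ m2 _ hu)) (line_gmap _ hl _ (p3 _ hu _ m1))).elim
    refine lm.g2 lm.ex3 F A _ _ (Q_ne M₁⁻¹ hq) (Q_ne M₂⁻¹ hq) fun a b c t => (hA' a b c t).trans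
      ⟨fun k => k.2, fun k => ⟨?_, k⟩⟩
    obtain ⟨⟨l, k1⟩, l', k2⟩ := k
    obtain ⟨d, hd⟩ := hl _ (p1 _ m1 _ m2)
    have d0 : d ≠ 0 := by
      rintro rfl
      have h1 := norm_pm (M₁⁻¹.1 u) (M₂⁻¹.1 u)
      rw [hd, zero_smul, map_zero] at h1
      exact mul_ne_zero (Q_ne M₁⁻¹ hq) (Q_ne M₂⁻¹ hq) h1.symm
    have h1 := t (M₁⁻¹.1 u) (M₂⁻¹.1 u)
    rw [k1, k2, smul_pm, pm_smul, hd, map_smul, smul_comm l', smul_comm l] at h1
    exact ⟨l * l', by rw [mul_smul]; exact smul_right_injective _ d0 h1⟩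
  by_cases ha : ∀ w ∈ FL (lf N), Q8 F w = 0 → w = 0
  · exact line v hv hv0 (aniso (fun _ => h.sc_of_comm') ha hv hv0)
  push Not at ha
  obtain ⟨e, he, he1, he0⟩ := ha
  by_cases hb : ∀ w ∈ FL (lf N), polar (Q8 F) e w = 0
  · exact line e he he0 fun w hw => sing (fun _ => h.sc_of_comm') he hw he1 he0 (hb w hw)
  push Not at hb
  obtain ⟨g, hg, hg1⟩ := hb
  obtain ⟨f, hf, hf1, hef⟩ : ∃ f ∈ FL (lf N), Q8 F f = 0 ∧ polar (Q8 F) e f ≠ 0 :=
    ⟨g + (-(Q8 F g * (polar (Q8 F) e g)⁻¹)) • e, add_mem hg ((FL _).smul_mem _ he), by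
      rw [Q_add, QuadraticMap.map_smul, polar_smul_right, polar_comm _ g e, he1, smul_zero, add_zero, smul_eq_mul, neg_mul,
        inv_mul_cancel_right₀ hg1, add_neg_cancel], by
      rwa [polar_add_right, polar_smul_right, polar_self_of_sing he1, smul_zero, add_zero]⟩
  have h2 : finrank F (FL (lf N)) = 2 := by
    have h3 : FL (lf N) = Submodule.span F (Set.range ![e, f]) := by
      refine le_antisymm (fun w hw => ?_) (Submodule.span_le.2 ?_)
      · obtain ⟨c, d, rfl⟩ := hyp (fun _ => h.sc_of_comm') he hf he1 hef w hw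
        exact add_mem (Submodule.smul_mem _ _ (Submodule.subset_span ⟨0, rfl⟩))
          (Submodule.smul_mem _ _ (Submodule.subset_span ⟨1, rfl⟩))
      · rintro _ ⟨i, rfl⟩
        fin_cases i
        exacts [he, hf]
    rw [h3, finrank_span_eq_card (LinearIndependent.pair_iff.2 fun s t k => ?_), Fintype.card_fin]
    have k1 := congrArg (polar (Q8 F) e) k
    rw [polar_add_right, polar_smul_right, polar_smul_right, polar_self_of_sing he1, smul_zero, zero_add,
      polar_zero_right, smul_eq_zero, or_iff_left hef] at k1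
    rw [k1, zero_smul, add_zero, smul_eq_zero, or_iff_left he0] at k
    exact ⟨k, k1⟩
  have hq : Q8 F (e + f) ≠ 0 := by rwa [Q_add, he1, hf1, zero_add, zero_add]
  have hef' : polar (Q8 F) (M₁⁻¹.1 e) (M₁⁻¹.1 f) ≠ 0 := by
    obtain ⟨σ, c, hM⟩ := M₁⁻¹.2
    rw [hM.polar]
    exact mul_ne_zero hM.ne ((map_ne_zero σ).2 hef)
  obtain ⟨a, b, c, t, ra, -, -, k1, k2, k3⟩ := lm.ex3 F _ _ _ (gam_sing M₁⁻¹ he1) (gam_sing M₁⁻¹ hf1) hef' (Q_ne M₂⁻¹ hq)
  have m1 := (apply_mem_gmap (M := M₁⁻¹)).2 (add_mem he hf)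
  have fb : ∀ x ∈ gmap M₁⁻¹ (FL (lf N)), b.1 x = x := by
    have m2 := (apply_mem_gmap (M := M₁⁻¹)).2 he
    have m3 := (apply_mem_gmap (M := M₁⁻¹)).2 hf
    rw [gmap_FL] at m2 m3 ⊢
    intro x hx
    obtain ⟨c, d, rfl⟩ := hyp (fun _ => h.sc_of_comm M₁) m2 m3 (gam_sing M₁⁻¹ he1) hef' x hx
    rw [map_add, map_smul, map_smul, k1, k2]
  have fa := step t (finrank_gmap _ _).symm (Q_ne M₂⁻¹ hq) (fun x hx => p1 x hx _ (apply_mem_gmap.2 (add_mem he hf))) fb k3
  have fc := step t.rot.rot (finrank_gmap _ _) (Q_ne M₁⁻¹ hq) (fun x hx => p3 x hx _ m1) fa (fb _ m1)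
  exact h.toCx.good_12 h2 hW ((hA a b c t).2 ⟨fun x hx => (fa x hx).symm ▸ hx, fun x hx => (fb x hx).symm ▸ hx,
    fun x hx => (fc x hx).symm ▸ hx⟩) (Or.inl ra)

end Cfsg.Agent.N2C.D4
end

-- part: N2/Cl/FrO/Free
section
/-!
# N2 (S3519), orthogonal groups: stabilisers of frames in `Ω`, without `Ctx` (helper76)

`good_two'` (two blocks), `good_even_fr` (isometric blocks of even dimension), `good_lines` (orthogonal bases).
-/

set_option autoImplicit false
set_option linter.unusedSectionVars false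

namespace Cfsg.Agent.N2C.FrO

open Module QuadraticMap Cfsg.Agent.N2C.Cyc
open Cfsg.Agent.LieClassical.OrthCore
open Cfsg.Agent.LieClassical.OrthFinite (good_of_finite)
open Cfsg.Agent.H955 (res perp)
open Cfsg.Agent.H182.Sign (Sg)
open Cfsg.Agent.N2C.FixO (St Ex im im_eq)

variable {K V X κ : Type} [Field K] [Fintype K] [AddCommGroup V] [Module K V] [Finite V] [AddCommGroup X] [Module K X]
  [Finite X] [Fintype κ] {Q : QuadraticForm K V} {R : QuadraticForm K X} {B : Subgroup (E Q)} {W : κ → Submodule K V}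

/-- **two blocks** -/
theorem good_two' (hQ : Nondeg Q) (h7 : 7 ≤ finrank K V) {W : Submodule K V} (n : Nondeg (_root_.Cfsg.Agent.H955.res Q W)) (h0 : W ≠ ⊥)
    (h1 : perp Q W ≠ ⊥) (hB : ∀ g, g ∈ B ↔ St Q W g) : FP3.Good B :=
  (em (Ex Q W)).elim (good_ex hQ h7 h0 hB) (FixO.good_two hQ h7 n h0 h1 hB)

/-- the stabiliser of the frame is the monomial group -/
theorem good_fr (hR : Nondeg R) (h7 : 7 ≤ finrank K V) (ψ : ∀ i, X ≃ₗ[K] W i) (hq : ∀ i x, Q (ψ i x) = R x)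
    (ho : ∀ i k, i ≠ k → ∀ v ∈ W i, ∀ w ∈ W k, polar Q v w = 0) (hs : iSup W = ⊤)
    (hB : ∀ g : E Q, g ∈ B ↔ ∀ i, ∃ k, im g (W i) = W k)
    (hG : 7 ≤ Fintype.card κ * finrank K X → GT R (Fintype.card κ)) : FP3.Good B := by
  classical
  have : Module.Finite K X := Module.Finite.of_finite
  have h0 : ∀ (ι : Type) [Fintype ι] [DecidableEq ι] (d : ι ≃ κ), ∃ Φ : (ι → X) ≃ₗ[K] V, (∀ v, Q (Φ v) = pq ι R v) ∧
      ∀ i x, Φ (Pi.single i x) = ψ (d i) x := fun ι _ _ d => by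
    let Φ : (ι → X) →ₗ[K] V := LinearMap.lsum K (fun _ => X) K fun i => (W (d i)).subtype ∘ₗ (ψ (d i)).toLinearMap
    have h0 : ∀ v, Φ v = ∑ i, (ψ (d i) (v i) : V) := fun v => LinearMap.sum_apply _ _ v
    have h2 : ∀ v, Q (Φ v) = pq ι R v := fun v => by
      rw [pi_apply, h0, Q_sum _ _ fun i j hij => ho _ _ (d.injective.ne hij) _ (ψ _ _).2 _ (ψ _ _).2]
      exact Finset.sum_congr rfl fun i _ => hq _ _
    have h3 : ∀ i x, Φ (Pi.single i x) = ψ (d i) x := fun i x => LinearMap.lsum_piSingle K (fun _ => X) K _ i x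
    refine ⟨LinearEquiv.ofBijective Φ ⟨inj_emb (nondeg_pq hR) h2, LinearMap.range_eq_top.1 (top_unique (hs.ge.trans
      (iSup_le fun k w hw => ?_)))⟩, h2, h3⟩
    obtain ⟨i, rfl⟩ := d.surjective k
    exact ⟨_, (h3 i ((ψ _).symm ⟨w, hw⟩)).trans (congrArg Subtype.val ((ψ _).apply_symm_apply _))⟩
  obtain ⟨Φ, h1, -⟩ := h0 κ (Equiv.refl κ)
  have hQ := H955.nondeg_of_equiv Φ h1 (nondeg_pq hR)
  have h8 : 7 ≤ Fintype.card κ * finrank K X := by rwa [← finrank_pq, Φ.finrank_eq]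
  have : Nontrivial X := Module.nontrivial_of_finrank_pos (R := K) (Nat.pos_of_ne_zero fun k => by rw [k] at h8; omega)
  obtain ⟨ι, _, _, hι, hG⟩ := hG h8
  obtain ⟨d⟩ : Nonempty (ι ≃ κ) := ⟨Fintype.equivOfCardEq hι⟩
  obtain ⟨Φ, h2, h3⟩ := h0 ι d
  have h4 : ∀ v, pq ι R (Φ.symm v) = Q v := fun v => by rw [← h2, Φ.apply_symm_apply]
  obtain ⟨π, h5⟩ : ∃ π : E (pq ι R) →* E Q, ∀ g v, (π g).1 (Φ v) = Φ (g.1 v) :=
    ⟨((Emb.eqv Φ h2).up.comp (E _).subtype).codRestrict (E Q) fun g =>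
      E2_le_E (good_of_finite hQ (by omega)) (Emb.up_E2 _ (E_le_E2 g.2)), fun g => Emb.eqv_up Φ h2 g.1⟩
  have h6 : Function.Surjective π := fun g => ⟨⟨(Emb.eqv Φ.symm h4).up g, E2_le_E (good_of_finite (nondeg_pq hR)
    (by rw [finrank_pq, hι]; omega)) (Emb.up_E2 _ (E_le_E2 g.2))⟩, Subtype.ext (LinearEquiv.ext fun v => by
      obtain ⟨w, rfl⟩ := Φ.symm.symm.surjective v
      rw [LinearEquiv.symm_symm, h5, ← Φ.symm_apply_apply w, Emb.eqv_up, Φ.apply_symm_apply, Φ.apply_symm_apply])⟩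
  have := finL K (ι → X)
  have := finL K V
  refine (N2.good_comap π h6 _).1 ((congrArg FP3.Good ?_).mp hG)
  refine Subgroup.ext fun g => ⟨?_, fun hg => mem_Wr (g := g.1) (E_le_O g.2) fun i => ?_⟩
  · rintro ⟨σ, a, -, hg⟩
    refine (hB _).2 fun k => ?_
    obtain ⟨i, rfl⟩ := d.surjective k
    refine ⟨d (σ i), im_eq (fun w hw => ?_) ((ψ _).finrank_eq.symm.trans (ψ _).finrank_eq).le⟩
    obtain ⟨x, hx⟩ := (ψ _).surjective ⟨w, hw⟩
    rw [show w = ψ _ x from congrArg Subtype.val hx.symm, ← h3, h5, show g.1 = _ from hg, mon_single, h3]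
    exact (ψ _ _).2
  · obtain ⟨k, hk⟩ := (hB _).1 hg (d i)
    obtain ⟨j, rfl⟩ := d.surjective k
    refine ⟨j, fun x => ?_⟩
    obtain ⟨y, hy⟩ := (ψ _).surjective ⟨_, hk.le ⟨_, (ψ _ x).2, rfl⟩⟩
    exact ⟨y, Φ.injective (by rw [← h5, h3, h3, hy]; rfl)⟩

/-- **isometric blocks of even dimension** -/
theorem good_even_fr (h7 : 7 ≤ finrank K V) {j : ℕ} {ε : ℤ} (hW : ∀ i, Sg (_root_.Cfsg.Agent.H955.res Q (W i)) j ε)
    (ho : ∀ i k, i ≠ k → ∀ v ∈ W i, ∀ w ∈ W k, polar Q v w = 0) (hs : iSup W = ⊤) (h3 : 3 ≤ Fintype.card κ) (hj : j ≠ 0)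
    (hx : ε = 1 → j = 1 → 3 < Fintype.card K) (hB : ∀ g : E Q, g ∈ B ↔ ∀ i, ∃ k, im g (W i) = W k) : FP3.Good B := by
  obtain ⟨i⟩ : Nonempty κ := Fintype.card_pos_iff.1 (by omega)
  obtain ⟨X, _, _, _, R, hR, hG⟩ : Mo K j ε := by
    rcases (hW i).eps with rfl | rfl
    exacts [mo_plus hj (hx rfl), mo_minus hj]
  choose ψ hψ using fun i => hR.exists_equiv (hW i)
  exact good_fr hR.nondeg h7 ψ hψ ho hs hB fun h8 => hG _ h3 (hR.dim ▸ h8)

end Cfsg.Agent.N2C.FrO
end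

-- part: N2/Cl/D4/GN3
section
/-!
# N2 (S3519), `PΩ₈⁺(q)`: the normaliser of the torus `(q² + 1)²` (helper94)

`Pr r W a` : `a` has prime order `r`, acts irreducibly on the `4`-space `W` and trivially on `W^⊥`.
-/

set_option autoImplicit false
set_option linter.unusedSectionVars false

namespace Cfsg.Agent.N2C.D4

open QuadraticMap Module Cfsg.Agent.LieClassical.QuadForms Cfsg.Agent.LieClassical.OrthCore
  Cfsg.Agent.LieClassical.OrthTrans Cfsg.Agent.ClassicalGeometry.OrthSemi Cfsg.Agent.ClassicalGeometry.OrthAut1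
  Cfsg.Agent.ClassicalGeometry.TrialityOct Cfsg.Agent.ClassicalGeometry.Triality
  Cfsg.Agent.H989.OutOrth.Basic Cfsg.Agent.H989.OutOrth.Tri Cfsg.Agent.SB.D4
open Subgroup (zpowers normalizer)

namespace GN3

section grp

variable {G : Type} [Group G] {r : ℕ} {a s x : G}

theorem comm_of (hr : r.Prime) (ha : a ^ r = 1) (hs : s ^ r = 1) {k : ℕ} (h : s * a * s⁻¹ = a ^ k) : s * a = a * s := by
  have := Fact.mk hr
  have h1 : ∀ n : ℕ, s ^ n * a * (s ^ n)⁻¹ = a ^ k ^ n := fun n => by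
    induction n with
    | zero => simp
    | succ n ih => rw [pow_succ' k, pow_mul, ← h, conj_pow, ← ih, pow_succ' s]; group
  have h2 := h1 r
  have h3 : k ^ r ≡ k [MOD r] := (ZMod.natCast_eq_natCast_iff _ _ _).1 (by rw [Nat.cast_pow, ZMod.pow_card])
  rw [hs, one_mul, inv_one, mul_one, pow_eq_pow_of_modEq h3 ha, ← h] at h2
  exact mul_inv_eq_iff_eq_mul.1 h2.symm

theorem zp_eq [Finite G] (hr : r.Prime) (ha : a ^ r = 1) (ha1 : a ≠ 1) (hx : x ^ r = 1) (hx1 : x ≠ 1)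
    (h : x ∈ zpowers a) : zpowers x = zpowers a := by
  have := Fact.mk hr
  exact Subgroup.eq_of_le_of_card_ge (Subgroup.zpowers_le.2 h) (by
    rw [Nat.card_zpowers, Nat.card_zpowers, orderOf_eq_prime ha ha1, orderOf_eq_prime hx hx1])

theorem card_two [Finite G] (H : Subgroup G) (h : ∀ a b, a ∉ H → b ∉ H → b * a ∈ H) : Nat.card G ≤ 2 * Nat.card H := by
  rw [← H.index_mul_card]
  refine Nat.mul_le_mul_right _ (Nat.le_of_dvd two_pos (Subgroup.index_dvd_two_iff.2 ?_))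
  by_cases h1 : ∀ a, a ∈ H
  · exact ⟨1, fun b => Or.inr (h1 b)⟩
  · push Not at h1
    obtain ⟨a, ha⟩ := h1
    exact ⟨a, fun b => (em (b ∈ H)).symm.imp_left (h a b ha)⟩

theorem sup_ind {b : G} (h : a * b = b * a) (ha : a ^ r = 1) (hb : b ^ r = 1) :
    (∀ x ∈ zpowers a ⊔ zpowers b, ∀ y ∈ zpowers a ⊔ zpowers b, x * y = y * x) ∧
      ∀ x ∈ zpowers a ⊔ zpowers b, x ^ r = 1 := by
  have e : zpowers a ⊔ zpowers b = Subgroup.closure {a, b} := by
    rw [Subgroup.zpowers_eq_closure, Subgroup.zpowers_eq_closure, ← Subgroup.closure_union]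
    rfl
  have hc : IsMulCommutative (Subgroup.closure ({a, b} : Set G)) := Subgroup.isMulCommutative_closure (by
    rintro x (rfl | rfl) y (rfl | rfl)
    exacts [rfl, h, h.symm, rfl])
  rw [e]
  refine ⟨fun x hx y hy => congrArg Subtype.val (hc.1.1 ⟨x, hx⟩ ⟨y, hy⟩), fun x hx => ?_⟩
  induction hx using Subgroup.closure_induction with
  | mem x hx =>
    rcases hx with rfl | rfl
    exacts [ha, hb]
  | one => exact one_pow r
  | mul x y hx hy h2 h3 =>
    rw [(show Commute x y from congrArg Subtype.val (hc.1.1 ⟨x, hx⟩ ⟨y, hy⟩)).mul_pow, h2, h3, one_mul]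
  | inv x _ h2 => rw [inv_pow, h2, inv_one]

theorem num {q c b o e : ℕ} (h1 : c * 4 ≤ 2 * q ^ 6) (h2 : b ≤ 2 * (q ^ 5 * q ^ 5)) (h3 : 5 * q ^ 28 ≤ 4 * o)
    (h4 : o ≤ 4 * e) : c ^ 3 * b ≤ e := by
  have h5 := Nat.mul_le_mul (Nat.pow_le_pow_left h1 3) h2
  have h6 : (c * 4) ^ 3 * b = 64 * (c ^ 3 * b) := by ring
  have h7 : (2 * q ^ 6) ^ 3 * (2 * (q ^ 5 * q ^ 5)) = 16 * q ^ 28 := by ring
  omega

end grp

variable {F : Type} [Field F] [Fintype F] {r : ℕ} {U W : Submodule F (V8 F)} {a b g s t x : E8 F}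

theorem dim8 (U : Submodule F (V8 F)) : finrank F U + finrank F (prp (Q8 F) U) = 8 :=
  (finrank_prp nondeg8' U).trans finrank8

/-- the stabiliser of a subspace -/
def St (W : Submodule F (V8 F)) : Subgroup (E8 F) where
  carrier := {g | Kp g W W}
  mul_mem' := fun ha hb v hv => ha _ (hb v hv)
  one_mem' := fun _ hv => hv
  inv_mem' := fun {g} h v hv => by
    obtain ⟨w, hw, rfl⟩ := exists_pre h hv
    exact (g.1.symm_apply_apply w).symm ▸ hw

theorem kp_inv (h : Kp t W U) : Kp t⁻¹ (prp (Q8 F) U) (prp (Q8 F) W) := fun v hv => mem_prp.2 fun w hw => by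
  rw [← polar_map (E_le_O t.2)]
  exact (congrArg (polar (Q8 F) · _) (t.1.apply_symm_apply v)).trans (mem_prp.1 hv _ (h w hw))

theorem kp_prp (h : g ∈ St W) : g ∈ St (prp (Q8 F) W) := fun _ hv => prp_inv (E_le_O g.2) h hv

theorem ext2 (hW : Nd (Q8 F) W) (h : ∀ w ∈ W, g.1 w = t.1 w) (h' : ∀ w ∈ prp (Q8 F) W, g.1 w = t.1 w) : g = t := by
  refine Subtype.ext (LinearEquiv.ext fun v => ?_)
  obtain ⟨y, hy, z, hz, rfl⟩ := Submodule.mem_sup.1 ((hW.sup_prp nondeg8').ge (Submodule.mem_top (x := v)))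
  rw [map_add, map_add, h y hy, h' z hz]

/-- the numbers -/
structure Nu (F : Type) [Field F] (r : ℕ) : Prop where
  prime : r.Prime
  char : (r : F) ≠ 0
  ord : orderOf (Nat.card F : ZMod r) = 4

theorem Nu.five (h : Nu F r) : 5 ≤ r := by
  have := Fact.mk h.prime
  have h1 := ZMod.orderOf_dvd_card_sub_one (card_ne_zero_zmod h.prime h.char)
  have h2 := h.prime.two_le
  rw [h.ord] at h1
  omega

theorem Nu.odd (h : Nu F r) : Odd r := h.prime.odd_of_ne_two (by have := h.five; omega)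

theorem Nu.le (h : Nu F r) : r ≤ Nat.card F ^ 2 + 1 := by
  have := Fact.mk h.prime
  have h1 := pow_orderOf_eq_one (Nat.card F : ZMod r)
  rw [h.ord, show 4 = 2 * 2 from rfl, pow_mul, sq_eq_one_iff] at h1
  have h2 := h1.resolve_left (pow_ne_one_of_lt_orderOf two_ne_zero (by rw [h.ord]; omega))
  refine Nat.le_of_dvd (Nat.succ_pos _) ((ZMod.natCast_eq_zero_iff _ _).1 ?_)
  rw [Nat.cast_succ, Nat.cast_pow, h2, neg_add_cancel]

/-- an element of order `r` on `W` -/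
structure Pr (r : ℕ) (W : Submodule F (V8 F)) (a : E8 F) : Prop where
  nu : Nu F r
  dim : finrank F W = 4
  nd : Nd (Q8 F) W
  ne : a ≠ 1
  pow : a ^ r = 1
  fix : ∀ v ∈ prp (Q8 F) W, a.1 v = v

theorem st_of_fix (h : ∀ v ∈ prp (Q8 F) W, a.1 v = v) : a ∈ St W :=
  prp_prp nondeg8' W ▸ kp_prp fun v hv => (h v hv).symm ▸ hv

namespace Pr

variable (h : Pr r W a)
include h

theorem st : a ∈ St W := st_of_fix h.fix

theorem dim' : finrank F (prp (Q8 F) W) = 4 := by
  have h1 := dim8 W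
  have h2 := h.dim
  omega

theorem eq_one (hx : x ^ r = 1) (hf : ∀ v ∈ prp (Q8 F) W, x.1 v = v) {w : V8 F} (hw : w ∈ W) (h0 : w ≠ 0)
    (h1 : x.1 w = w) : x = 1 := by
  obtain ⟨m, h2, h3⟩ := order_dvd_one h.nu.prime h.nu.char (x := x.1) (congrArg Subtype.val hx) (st_of_fix hf)
  have h4 : finrank F ↥(W ⊓ Fx (zpowers x.1)) ≠ 0 := fun e =>
    h0 ((Submodule.finrank_eq_zero.1 e).le ⟨hw, mem_Fx_zpowers.2 h1⟩)
  rw [h.nu.ord] at h3
  have h5 := h.dim
  have h6 := Submodule.eq_of_le_of_finrank_le (inf_le_left : W ⊓ Fx (zpowers x.1) ≤ W) (by omega)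
  exact ext2 h.nd (fun v hv => mem_Fx_zpowers.1 (h6.ge hv).2) hf

theorem fpf (v : V8 F) (hv : v ∈ W) (h1 : a.1 v = v) : v = 0 :=
  by_contra fun h0 => h.ne (h.eq_one h.pow h.fix hv h0 h1)

theorem irr (hU : Kp a U U) {w : V8 F} (hw : w ∈ W) (h0 : w ≠ 0) (h1 : w ∈ U) : W ≤ U := by
  obtain ⟨m, h2, h3⟩ := order_dvd_one h.nu.prime h.nu.char (x := a.1) (congrArg Subtype.val h.pow) (U := W ⊓ U)
    fun v hv => ⟨h.st v hv.1, hU v hv.2⟩
  have h4 : W ⊓ U ⊓ Fx (zpowers a.1) = ⊥ := eq_bot_iff.2 fun v hv => h.fpf v hv.1.1 (mem_Fx_zpowers.1 hv.2)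
  have h5 : finrank F ↥(W ⊓ U) ≠ 0 := fun e => h0 ((Submodule.finrank_eq_zero.1 e).le ⟨hw, h1⟩)
  rw [h4, finrank_bot] at h2
  rw [h.nu.ord] at h3
  have h6 := h.dim
  exact (Submodule.eq_of_le_of_finrank_le (inf_le_left : W ⊓ U ≤ W) (by omega)).ge.trans inf_le_right

theorem sub_mem (v : V8 F) : a.1 v - v ∈ W := (prp_prp nondeg8' W).le (mem_prp.2 fun y hy => by
  rw [polar_sub_left, ← polar_map (E_le_O a.2) v y, h.fix y hy, sub_self])

theorem dich (hU : finrank F U = 4) (hk : t⁻¹ * a * t ∈ St U) : Kp t U W ∨ Kp t U (prp (Q8 F) W) := by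
  have h1 : Kp a (U.map t.1.toLinearMap) (U.map t.1.toLinearMap) := by
    rintro _ ⟨u, hu, rfl⟩
    exact ⟨_, hk u hu, t.1.apply_symm_apply _⟩
  by_cases h2 : ∃ w ∈ W, w ≠ 0 ∧ w ∈ U.map t.1.toLinearMap
  · obtain ⟨w, hw, h0, h3⟩ := h2
    have h4 := Submodule.eq_of_le_of_finrank_le (h.irr h1 hw h0 h3) (by rw [LinearEquiv.finrank_map_eq, hU, h.dim])
    exact Or.inl fun u hu => h4.ge ⟨u, hu, rfl⟩
  · push Not at h2
    refine Or.inr fun u hu => ?_
    have h3 : a.1 (t.1 u) = t.1 u := sub_eq_zero.1 (by_contra fun h0 =>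
      h2 _ (h.sub_mem _) h0 (Submodule.sub_mem _ (h1 _ ⟨u, hu, rfl⟩) ⟨u, hu, rfl⟩))
    obtain ⟨y, hy, z, hz, e⟩ := Submodule.mem_sup.1 ((h.nd.sup_prp nondeg8').ge (Submodule.mem_top (x := t.1 u)))
    rw [← e, map_add, h.fix z hz, add_left_inj] at h3
    rwa [← e, h.fpf y hy h3, zero_add]

theorem conj (hU : finrank F U = 4) (hN : Nd (Q8 F) U) (hk : Kp t W U) : Pr r U (t * a * t⁻¹) where
  nu := h.nu
  dim := hU
  nd := hN
  ne e := h.ne (by simpa only [_root_.conj_eq_one_iff] using e)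
  pow := by rw [conj_pow, h.pow, mul_one, mul_inv_cancel]
  fix v hv := (congrArg t.1 (h.fix _ (kp_inv hk v hv))).trans (t.1.apply_symm_apply v)

theorem mem_zp (h' : Pr r W b) (hc : a * b = b * a) : b ∈ zpowers a := by
  obtain ⟨i, w, hw, h0, h1⟩ := cyc h.nu.prime h.nu.char (a := a.1) (b := b.1) (congrArg Subtype.val hc)
    (congrArg Subtype.val h.pow) (congrArg Subtype.val h'.pow) (U := W)
    (fun e => by have := h.dim; rw [e, finrank_bot] at this; omega) h.st h'.st h.fpf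
  have h2 := h.eq_one (x := a ^ i * b) (by
    rw [((show Commute a b from hc).pow_left i).mul_pow, ← pow_mul, mul_comm i, pow_mul, h.pow, h'.pow, one_pow, one_mul])
    (fun v hv => (congrArg (a.1 ^ i) (h'.fix v hv)).trans (pow_fix (h.fix v hv) i)) hw h0 h1
  exact eq_inv_of_mul_eq_one_right (h2 :) ▸ inv_mem (pow_mem (Subgroup.mem_zpowers a) i)

variable {R : Subgroup (E8 F)} (hR : ∀ x ∈ R, ∀ y ∈ R, x * y = y * x) (ha : a ∈ R)
include hR ha

theorem norm_mem (hg : g ∈ normalizer (R : Set (E8 F))) (hk : g ∈ St W) : g * a * g⁻¹ ∈ zpowers a :=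
  h.mem_zp (h.conj h.dim h.nd hk) (hR _ ha _ ((Subgroup.mem_normalizer_iff.1 hg a).1 ha))

theorem zp (hs : s ∈ normalizer (R : Set (E8 F))) (h' : Pr r W s) : zpowers s = zpowers a := by
  have := finite_E8 (F := F)
  obtain ⟨k, hk⟩ := (mem_powers_iff_mem_zpowers.2 (h.norm_mem hR ha hs h'.st))
  exact zp_eq h.nu.prime h.pow h.ne h'.pow h'.ne (h.mem_zp h' (comm_of h.nu.prime h.pow h'.pow hk.symm).symm)

end Pr

theorem exists_norm (hN : Nd (Q8 F) W) (h4 : finrank F W = 4) :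
    ∃ v ∈ W, v ≠ 0 ∧ Nat.card {w : W // Q8 F w = Q8 F v} ≤ Nat.card F ^ 3 := by
  classical
  have := Fintype.ofFinite W
  obtain ⟨c, hc⟩ := Fintype.exists_card_fiber_le_of_card_le_mul (fun w : W => (Q8 F w :)) (n := Nat.card F ^ 3) (by
    rw [card_eq_pow_finrank (K := F), h4, Nat.card_eq_fintype_card, ← pow_succ'])
  obtain ⟨e, he, h0, h1⟩ := LieClassical.OrthFinite.exists_sing_mem (Q := Q8 F) W (by omega)
  obtain ⟨f, hf, h2⟩ := hN.exists_one he h0
  refine ⟨f + (c - Q8 F f) • e, add_mem hf (W.smul_mem _ he), fun k => ?_, ?_⟩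
  · have h3 := congrArg (polar (Q8 F) e) k
    rw [polar_add_right, polar_smul_right, polar_self', h1, h2, polar_zero_right] at h3
    simp at h3
  · rw [Q_add, QuadraticMap.map_smul, polar_smul_right, polar_comm, h1, h2, smul_zero, add_zero, smul_eq_mul, mul_one,
      add_sub_cancel, Nat.card_eq_fintype_card, Fintype.card_subtype]
    exact hc

theorem Pr.side (h : Pr r W a) (B : Subgroup (E8 F)) (h1 : B ≤ St W) (h2 : ∀ g ∈ B, g * a * g⁻¹ ∈ zpowers a) :
    ∃ (X : Type) (_ : Finite X) (f : B → X), Nat.card X ≤ Nat.card F ^ 5 ∧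
      ∀ g g', f g = f g' → ∀ w ∈ W, g.1.1 w = g'.1.1 w := by
  have := finite_E8 (F := F)
  have := Fact.mk h.nu.prime
  obtain ⟨v, hv, h0, h3⟩ := exists_norm h.nd h.dim
  refine ⟨{y : zpowers a // y ≠ 1} × {w : W // Q8 F w = Q8 F v}, inferInstance, fun g =>
    (⟨⟨_, h2 g g.2⟩, fun e => h.ne (by simpa only [_root_.OneMemClass.coe_one, _root_.conj_eq_one_iff] using congrArg Subtype.val e)⟩,
      ⟨⟨_, h1 g.2 v hv⟩, mem_O.1 (E_le_O g.1.2) v⟩), ?_, fun g g' e w hw => ?_⟩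
  · have h4 := Finite.card_subtype_lt (p := fun y : zpowers a => y ≠ 1) (x := 1) (not_not.2 rfl)
    have h5 := h.nu.le
    rw [Nat.card_zpowers, orderOf_eq_prime h.pow h.ne] at h4
    rw [Nat.card_prod, show 5 = 2 + 3 from rfl, pow_add]
    exact Nat.mul_le_mul (by omega) h3
  · have e1 : g.1 * a * g.1⁻¹ = g'.1 * a * g'.1⁻¹ := congrArg (·.1.1.1) e
    have e2 : g.1.1 v = g'.1.1 v := congrArg (·.2.1.1) e
    have e3 : ∀ k : E8 F, ∀ y, k.1 (a.1 y) = (k * a * k⁻¹).1 (k.1 y) := fun k y =>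
      congrArg (fun z => k.1 (a.1 z)) (k.1.symm_apply_apply y).symm
    exact h.irr (U := LinearMap.eqLocus g.1.1.toLinearMap g'.1.1.toLinearMap)
      (fun y (hy : g.1.1 y = g'.1.1 y) => (e3 _ y).trans (by rw [e1, hy]; exact (e3 _ y).symm)) hv h0 e2 hw

/-- restriction -/
noncomputable def rs (W : Submodule F (V8 F)) (g : St W) : O (H955.res (Q8 F) W) :=
  ⟨LinearEquiv.ofInjectiveEndo (g.1.1.toLinearMap.restrict g.2) fun _ _ e =>
    Subtype.ext (g.1.1.injective (congrArg Subtype.val e)), fun w => mem_O.1 (E_le_O g.1.2) w.1⟩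

section main

variable (h : Pr r W a) (h' : Pr r (prp (Q8 F) W) b)
include h h'

theorem comm : a * b = b * a := ext2 h.nd
  (fun w hw => (congrArg a.1 (h'.fix w (le_prp_prp W hw))).trans (h'.fix _ (le_prp_prp W (h.st w hw))).symm)
  fun w hw => (h.fix _ (h'.st w hw)).trans (congrArg b.1 (h.fix w hw)).symm

theorem R_le : zpowers a ⊔ zpowers b ≤ St W :=
  sup_le (Subgroup.zpowers_le.2 h.st) (Subgroup.zpowers_le.2 fun w hw => (h'.fix w (le_prp_prp W hw)).symm ▸ hw)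

theorem dichN (hg : g ∈ normalizer (↑(zpowers a ⊔ zpowers b) : Set (E8 F))) : Kp g W W ∨ Kp g W (prp (Q8 F) W) :=
  h.dich h.dim (R_le h h' (by
    simpa only [_root_.inv_inv] using (Subgroup.mem_normalizer_iff.1 (inv_mem hg) a).1 (Subgroup.mem_sup_left (Subgroup.mem_zpowers a))))

theorem mul_st (hg : Kp g W (prp (Q8 F) W)) (ht : Kp t W (prp (Q8 F) W)) : g * t ∈ St W := fun w hw => by
  have h1 := gam_prp (og g) hg (h.dim'.trans h.dim.symm).le (ht w hw)
  rwa [prp_prp nondeg8'] at h1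

theorem card_N : Nat.card (normalizer (↑(zpowers a ⊔ zpowers b) : Set (E8 F))) ≤
    2 * (Nat.card F ^ 5 * Nat.card F ^ 5) := by
  have := finite_E8 (F := F)
  have hR := (sup_ind (comm h h') h.pow h'.pow).1
  generalize hN : normalizer (↑(zpowers a ⊔ zpowers b) : Set (E8 F)) = N
  refine (card_two ((St W).subgroupOf N) fun x y hx hy => mul_st h h'
    ((dichN h h' (hN.ge y.2)).resolve_left hy) ((dichN h h' (hN.ge x.2)).resolve_left hx)).trans
    (Nat.mul_le_mul_left _ ?_)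
  obtain ⟨X, _, f, k1, k2⟩ := h.side (St W ⊓ N) inf_le_left fun g hg =>
    h.norm_mem hR (Subgroup.mem_sup_left (Subgroup.mem_zpowers a)) (hN.ge hg.2) hg.1
  obtain ⟨Y, _, f', k3, k4⟩ := h'.side (St W ⊓ N) (fun g hg => kp_prp hg.1) fun g hg =>
    h'.norm_mem hR (Subgroup.mem_sup_right (Subgroup.mem_zpowers b)) (hN.ge hg.2) (kp_prp hg.1)
  refine le_trans (Nat.card_le_card_of_injective
    (fun g => (f ⟨g.1.1, g.2, g.1.2⟩, f' ⟨g.1.1, g.2, g.1.2⟩)) fun x y e => Subtype.ext (Subtype.ext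
      (ext2 h.nd (k2 _ _ (congrArg Prod.fst e)) (k4 _ _ (congrArg Prod.snd e))))) ?_
  rw [Nat.card_prod]
  exact Nat.mul_le_mul k1 k3

theorem fixed (ht : t⁻¹ * a * t ∈ normalizer (↑(zpowers a ⊔ zpowers b) : Set (E8 F))) :
    ∃ c, Pr r (prp (Q8 F) W) c ∧
      (zpowers a ⊔ zpowers b).map (MulAut.conj t).toMonoidHom = zpowers a ⊔ zpowers c := by
  have hR := (sup_ind (comm h h') h.pow h'.pow).1
  have h1 : t⁻¹ * a * t ∈ St W := by
    obtain ⟨n, hn⟩ := h.nu.odd.add_one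
    have h2 : (t⁻¹ * a * t) * (t⁻¹ * a * t) ∈ St W :=
      (dichN h h' ht).elim (fun k => mul_mem (s := St W) k k) fun k => mul_st h h' k k
    have h3 := pow_mem h2 n
    rwa [← pow_two, ← pow_mul, two_mul, ← hn, pow_succ, show (t⁻¹ * a * t) ^ r = 1 by
      simpa only [h.pow, _root_.inv_inv, _root_.mul_one, _root_.inv_mul_cancel] using conj_pow (i := r) (a := t⁻¹) (b := a), one_mul] at h3
  have h2 : ∀ c, zpowers (t⁻¹ * a * t⁻¹⁻¹) = zpowers c → (zpowers c).map (MulAut.conj t).toMonoidHom = zpowers a :=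
    fun c e => by
      rw [← e, MonoidHom.map_zpowers]
      simp only [mul_assoc, _root_.MulEquiv.toMonoidHom_eq_coe, _root_.inv_inv, _root_.MonoidHom.coe_coe, _root_.MulAut.conj_apply, _root_.mul_inv_cancel_left, _root_.mul_inv_cancel, _root_.mul_one]
  rw [← inv_inv t] at ht
  rw [inv_inv t⁻¹] at ht
  rcases h.dich h.dim h1 with k | k
  · refine ⟨_, h'.conj h'.dim h'.nd (kp_prp k), ?_⟩
    rw [Subgroup.map_sup, h2 a (h.zp hR (Subgroup.mem_sup_left (Subgroup.mem_zpowers a)) ht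
      (h.conj h.dim h.nd ((St W).inv_mem k))), MonoidHom.map_zpowers]
    rfl
  · refine ⟨_, h.conj h'.dim h'.nd k, ?_⟩
    rw [Subgroup.map_sup, h2 b (h'.zp hR (Subgroup.mem_sup_right (Subgroup.mem_zpowers b)) ht
      (h.conj h'.dim h'.nd fun v hv => kp_inv k v (le_prp_prp W hv))), MonoidHom.map_zpowers, sup_comm]
    rfl

theorem fx_le : FP3.fx (normalizer (↑(zpowers a ⊔ zpowers b) : Set (E8 F))) a * 4 ≤ 2 * Nat.card F ^ 6 := by
  have := finite_E8 (F := F)
  have := Fact.mk h.nu.prime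
  have : Finite (prp (Q8 F) W ≃ₗ[F] prp (Q8 F) W) :=
    Finite.of_injective (fun g : prp (Q8 F) W ≃ₗ[F] prp (Q8 F) W => (g : _ → _)) DFunLike.coe_injective
  have h5 := h.nu.five
  generalize hN : normalizer (↑(zpowers a ⊔ zpowers b) : Set (E8 F)) = N
  have k := fun x : MulAction.fixedBy (E8 F ⧸ N) a =>
    fixed h h' (t := x.1.out) (hN.ge ((N2.smul_mk_iff N a _).1 (by rw [QuotientGroup.out_eq']; exact x.2)))
  choose c hc hc' using k
  have h1 := Cyc.card_O_le (H955.nondeg_res_iff.2 h'.nd) (by rw [h'.dim]; omega)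
  rw [h'.dim, ← Nat.card_eq_fintype_card] at h1
  refine le_trans ?_ h1
  have h2 : ∀ x (i : Fin 4), c x ^ (i.1 + 1) ≠ 1 := fun x i =>
    pow_ne_one_of_lt_orderOf i.1.succ_ne_zero (by rw [orderOf_eq_prime (hc x).pow (hc x).ne]; omega)
  have h3 : ∀ x (i : Fin 4), zpowers (c x ^ (i.1 + 1)) = zpowers (c x) := fun x i =>
    zp_eq h.nu.prime (hc x).pow (hc x).ne (by rw [← pow_mul, mul_comm, pow_mul, (hc x).pow, one_pow]) (h2 x i)
      (pow_mem (Subgroup.mem_zpowers _) _)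
  have h4 := Nat.card_le_card_of_injective (fun y : MulAction.fixedBy (E8 F ⧸ N) a × Fin 4 =>
    rs _ ⟨c y.1 ^ (y.2.1 + 1), pow_mem (hc y.1).st _⟩) fun x y e => ?_
  · rwa [Nat.card_prod, Nat.card_eq_fintype_card (α := Fin 4), Fintype.card_fin] at h4
  have e1 : c x.1 ^ (x.2.1 + 1) = c y.1 ^ (y.2.1 + 1) := ext2 h.nd
    (fun w hw => (pow_fix ((hc _).fix w (le_prp_prp W hw)) _).trans (pow_fix ((hc _).fix w (le_prp_prp W hw)) _).symm)
    fun w hw => congrArg (fun z : O (H955.res (Q8 F) (prp (Q8 F) W)) => (z.1 ⟨w, hw⟩).1) e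
  have e2 : x.1 = y.1 := Subtype.ext (by
    have e3 := hc' x.1
    rw [← h3 _ x.2, e1, h3, ← hc'] at e3
    rw [← QuotientGroup.out_eq' x.1.1, ← QuotientGroup.out_eq' y.1.1, QuotientGroup.eq]
    refine hN.le (Subgroup.mem_normalizer_iff.2 fun z => ?_)
    have e4 := SetLike.ext_iff.1 e3 (y.1.1.out * z * y.1.1.out⁻¹)
    rw [Subgroup.mem_map_equiv, Subgroup.mem_map_equiv] at e4
    simpa only [mul_assoc, _root_.mul_inv_rev, _root_.inv_inv, _root_.MulAut.conj_symm_apply, _root_.inv_mul_cancel_left, _root_.inv_mul_cancel, _root_.mul_one] using e4.symm)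
  refine Prod.ext e2 (Fin.ext ?_)
  rw [← e2] at e1
  have e5 := pow_injOn_Iio_orderOf (x := c x.1) ?_ ?_ e1
  · omega
  all_goals
    rw [Set.mem_Iio, orderOf_eq_prime (hc _).pow (hc _).ne]
    omega

theorem good : FP3.Good (normalizer (↑(zpowers a ⊔ zpowers b) : Set (E8 F))) := by
  have := finite_E8 (F := F)
  have h1 := Cyc.card_O_ge (nondeg8' (F := F)) (by rw [finrank8]; omega)
  rw [finrank8, ← Nat.card_eq_fintype_card] at h1
  exact N2.good_of_le (Subgroup.le_normalizer (Subgroup.mem_sup_left (Subgroup.mem_zpowers a))) le_rfl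
    (num (fx_le h h') (card_N h h') h1 (H450.Ux.card_O_le nondeg8' (by rw [finrank8]; omega)))

end main

theorem norm_comap {R : Subgroup (E8 F)} (ho : Odd r) (hR : ∀ x ∈ R, x ^ r = 1) :
    (normalizer (↑(R.map (QuotientGroup.mk' (Subgroup.center (E8 F)))) : Set (G8 F))).comap (QuotientGroup.mk' _) =
      normalizer (R : Set (E8 F)) := by
  refine le_antisymm (fun g hg => ?_) (Subgroup.map_le_iff_le_comap.1 (Subgroup.le_normalizer_map _))
  have k : ∀ g : E8 F, (g : G8 F) ∈ normalizer (↑(R.map (QuotientGroup.mk' (Subgroup.center (E8 F)))) : Set (G8 F)) →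
      ∀ x ∈ R, g * x * g⁻¹ ∈ R := fun g hg x hx => by
    obtain ⟨c, hc, e⟩ := (Subgroup.mem_normalizer_iff.1 hg x).1 ⟨x, hx, rfl⟩
    have h1 : c⁻¹ * (g * x * g⁻¹) ∈ Subgroup.center (E8 F) := QuotientGroup.eq.1 e
    obtain ⟨d, hd⟩ := mk_eq_one_iff.1 ((QuotientGroup.eq_one_iff _).2 h1)
    have h2 := (show Commute c _ from Subgroup.mem_center_iff.1 h1 c).mul_pow r
    rw [mul_inv_cancel_left, conj_pow, hR x hx, hR c hc, mul_one, mul_inv_cancel, one_mul] at h2
    exact inv_mul_eq_one.1 (odd_sc ho hd h2.symm) ▸ hc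
  exact Subgroup.mem_normalizer_iff.2 fun x => ⟨k g hg x, fun hx => by
    simpa only [mul_assoc, _root_.inv_mul_cancel_left, _root_.inv_inv, _root_.inv_mul_cancel, _root_.mul_one] using k g⁻¹ ((inv_mem hg :)) _ hx⟩

end GN3

open GN3 in
/-- **[GN3]** -/
theorem boxGN3 : BoxGN3 := by
  rintro F _ _ _ W a b r h1 h2 h3 h4 h5 h6 h7 h8 h9 h10 h11 rfl
  have h : Pr r W a := ⟨⟨h1, h2, h3⟩, h4, h5, h6, h8, h10⟩
  have h' : Pr r (prp (Q8 F) W) b := ⟨h.nu, h.dim', h5.nd_prp nondeg8', h7, h9, by rwa [prp_prp nondeg8']⟩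
  refine (N2.good_comap (QuotientGroup.mk' _) (QuotientGroup.mk'_surjective _) _).1 ?_
  have e : Subgroup.closure ({(a : G8 F), (b : G8 F)} : Set (G8 F)) =
      (zpowers a ⊔ zpowers b).map (QuotientGroup.mk' (Subgroup.center (E8 F))) := by
    rw [Subgroup.map_sup, MonoidHom.map_zpowers, MonoidHom.map_zpowers, Subgroup.zpowers_eq_closure,
      Subgroup.zpowers_eq_closure, ← Subgroup.closure_union]
    rfl
  rw [e, norm_comap h.nu.odd (_root_.Cfsg.Agent.N2C.D4.GN3.sup_ind (comm h h') h8 h9).2]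
  exact good h h'

end Cfsg.Agent.N2C.D4
end

-- part: N2/Cl/D4/Lie
section
/-!
# N2 (S3519), `PΩ₈⁺(q)`: local triality and the sign of a frame (helper58)
-/

set_option autoImplicit false
set_option linter.unusedSectionVars false

namespace Cfsg.Agent.N2C.D4

open QuadraticMap Module Cfsg.Agent.LieClassical.QuadForms Cfsg.Agent.LieClassical.OrthCore
  Cfsg.Agent.LieClassical.OrthTrans Cfsg.Agent.ClassicalGeometry.OrthSemi Cfsg.Agent.ClassicalGeometry.OrthAut1
  Cfsg.Agent.ClassicalGeometry.TrialityOct Cfsg.Agent.ClassicalGeometry.Triality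
  Cfsg.Agent.H989.OutOrth.Basic Cfsg.Agent.H989.OutOrth.Tri Cfsg.Agent.SB.D4

namespace LieT

variable {F : Type} [Field F]

theorem oconj_one : oconj (one8 F) = one8 F := by
  have h := oconj_omul_omul (one8 F) (one8 F)
  rwa [omul_one, omul_one, norm_one8, one_smul] at h

theorem polar_pr (x x' y : V8 F) : polar (Q8 F) (pm x y) (pm x' y) = Q8 F y * polar (Q8 F) x x' := by
  rw [polar_pm, pm_pm_right, polar_smul_right, smul_eq_mul]

theorem polar_pm' (x y z : V8 F) : polar (Q8 F) (pm x y) z = polar (Q8 F) (pm z x) y := by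
  rw [polar_comm, ← polar_pm]

theorem polar_pl (x y y' : V8 F) : polar (Q8 F) (pm x y) (pm x y') = Q8 F x * polar (Q8 F) y y' := by
  rw [polar_pm', pm_pm_left, polar_smul_left, smul_eq_mul, polar_comm]

/-- **the nucleus** -/
theorem nuc {G H : V8 F → V8 F} (h : ∀ x y, pm (G x) y = pm x (H y)) :
    ∃ l : F, (∀ x, G x = l • x) ∧ ∀ y, H y = l • y := by
  have h1 : ∀ x, oconj (G x) = omul (oconj x) (oconj (H (one8 F))) := fun x => by
    have := h x (one8 F)
    rwa [pm, pm, oconj_one, omul_one] at this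
  have h2 : ∀ y, oconj (H y) = omul (oconj (H (one8 F))) (oconj y) := fun y => by
    have := h (one8 F) y
    rw [pm, pm, h1, oconj_one, one_omul, one_omul] at this
    exact this.symm
  have h3 := scalar_of_assoc (c := oconj (H (one8 F))) fun x y => by
    have := h (oconj x) (oconj y)
    rw [pm, pm, h1, h2 (oconj y), oconj_oconj, oconj_oconj] at this
    exact this.symm
  refine ⟨oconj (H (one8 F)) (.inl 0), fun x => (kap F).injective ?_, fun y => (kap F).injective ?_⟩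
  · rw [kap_apply, kap_apply, h1, oconj_smul]
    nth_rw 1 [h3]
    rw [omul_smul, omul_one]
  · rw [kap_apply, kap_apply, h2, oconj_smul]
    nth_rw 1 [h3]
    rw [smul_omul, one_omul]

theorem exists_adj (φ : V8 F →ₗ[F] F) : ∃ w, ∀ v, polar (Q8 F) w v = φ v := by
  obtain ⟨w, hw⟩ := (LinearMap.injective_iff_surjective_of_finrank_eq_finrank
    (f := polarBilin (Q8 F)) (by exact Subspace.dual_finrank_eq.symm)).1
    ((injective_iff_map_eq_zero _).2 fun x hx => nondeg8 x fun y => LinearMap.congr_fun hx y) φ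
  exact ⟨w, LinearMap.congr_fun hw⟩

theorem ext_polar {u v : V8 F} (h : ∀ x, polar (Q8 F) u x = polar (Q8 F) v x) : u = v :=
  sub_eq_zero.1 (nondeg8 _ fun x => by rw [polar_sub_left, h, sub_self])

theorem exists_pm (v : V8 F) : ∃ x y, pm x y = v :=
  ⟨one8 F, pm v (one8 F), by rw [pm_pm_right, norm_one8, one_smul]⟩

/-- the maps with partners -/
def LiS : Submodule F (Module.End F (V8 F)) where
  carrier := {f | ∃ g h, Li f g h}
  add_mem' := by
    rintro f f' ⟨g, h, e⟩ ⟨g', h', e'⟩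
    refine ⟨g + g', h + h', fun x y => ?_⟩
    rw [LinearMap.add_apply, LinearMap.add_apply, LinearMap.add_apply, e, e', add_pm, pm_add]
    abel
  zero_mem' := ⟨0, 0, fun x y => by
    rw [LinearMap.zero_apply, LinearMap.zero_apply, LinearMap.zero_apply, zero_pm, pm_zero, add_zero]⟩
  smul_mem' := by
    rintro c f ⟨g, h, e⟩
    refine ⟨c • g, c • h, fun x y => ?_⟩
    rw [LinearMap.smul_apply, LinearMap.smul_apply, LinearMap.smul_apply, e, smul_pm, pm_smul, smul_add]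

/-- `x ↦ B(a, x) b` -/
def rk (a b : V8 F) : Module.End F (V8 F) := (polarBilin (Q8 F) a).smulRight b

theorem rk_apply (a b x : V8 F) : rk a b x = polar (Q8 F) a x • b := rfl

theorem li_rk (a b : V8 F) : Li (rk a b - rk b a) (pr b ∘ₗ pl a) (-(pl a ∘ₗ pr b)) := fun x y => by
  have h1 := pm_lin_left (pm a x) y b
  have h2 := pm_lin_right x (pm y b) a
  rw [polar_pm] at h1
  rw [← polar_pm, polar_comm] at h2
  show polar (Q8 F) a (pm x y) • b - polar (Q8 F) b (pm x y) • a = pm (pm (pm a x) b) y + pm x (-pm a (pm y b))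
  rw [← h1, ← h2, pm_neg]
  abel

theorem sum_rk_mem {ι : Type} [DecidableEq ι] (u : ι → V8 F) (c : ι → ι → F) (h1 : ∀ s, c s s = 0)
    (h2 : ∀ s t, c t s = - c s t) (S : Finset ι) : ∑ s ∈ S, ∑ t ∈ S, c s t • rk (u s) (u t) ∈ LiS := by
  induction S using Finset.induction_on with
  | empty => exact zero_mem _
  | insert a S ha ih =>
    simp only [Finset.sum_insert ha, Finset.sum_add_distrib]
    rw [h1, zero_smul, zero_add, ← add_assoc, ← Finset.sum_add_distrib]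
    refine add_mem (Submodule.sum_mem _ fun t _ => ?_) ih
    rw [h2 a t, show c a t • rk (u a) (u t) + -c a t • rk (u t) (u a) = c a t • (rk (u a) (u t) - rk (u t) (u a)) by module]
    exact LiS.smul_mem _ ⟨_, _, li_rk _ _⟩

theorem skew {f : Module.End F (V8 F)} (h : ∀ x, polar (Q8 F) (f x) x = 0) (x y : V8 F) :
    polar (Q8 F) (f x) y = - polar (Q8 F) x (f y) := by
  have h1 := h (x + y)
  rw [map_add, polar_add_left, polar_add_right, polar_add_right, h, h, polar_comm _ (f y)] at h1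
  linear_combination h1

theorem exists_li {f : Module.End F (V8 F)} (h : ∀ x, polar (Q8 F) (f x) x = 0) : ∃ g k, Li f g k := by
  choose w hw using fun s => exists_adj (F := F) (LinearMap.proj s)
  have h1 := sum_rk_mem (fun s => Pi.single s (1 : F)) (fun s t => polar (Q8 F) (f (w s)) (w t)) (fun s => h _)
    (fun s t => by rw [skew h, polar_comm]) Finset.univ
  suffices e : f = ∑ s, ∑ t, polar (Q8 F) (f (w s)) (w t) • rk (Pi.single s (1 : F)) (Pi.single t (1 : F)) from e ▸ h1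
  refine LinearMap.ext fun x => ?_
  rw [Finset.sum_comm, LinearMap.sum_apply, ← Finset.univ_sum_single (f x)]
  refine Finset.sum_congr rfl fun t _ => ?_
  have h2 : f x t = ∑ s, polar (Q8 F) (f (w s)) (w t) * polar (Q8 F) (Pi.single s 1) x := by
    have h3 : ∀ s, polar (Q8 F) (f (w s)) (w t) = - f (w t) s := fun s => by rw [skew h, hw]; rfl
    have h4 : f (w t) = ∑ s, f (w t) s • (Pi.single s 1 : V8 F) := by
      simp only [← Pi.single_smul, smul_eq_mul, mul_one, Finset.univ_sum_single]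
    rw [show f x t = polar (Q8 F) (w t) (f x) from (hw t _).symm, ← neg_neg (polar _ _ _), ← skew h, h4]
    simp only [h3, neg_mul, Finset.sum_neg_distrib]
    rw [← polarBilin_apply_apply, map_sum, LinearMap.sum_apply]
    simp only [map_smul, LinearMap.smul_apply, polarBilin_apply_apply, smul_eq_mul]
  simp only [LinearMap.sum_apply, LinearMap.smul_apply, rk_apply, smul_smul]
  rw [← Finset.sum_smul, ← h2, ← Pi.single_smul, smul_eq_mul, mul_one]

theorem li_unique {f g h g' h' : Module.End F (V8 F)} (e : Li f g h) (e' : Li f g' h') :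
    ∃ l : F, g' = g + l • 1 ∧ h' = h - l • 1 := by
  obtain ⟨l, h1, h2⟩ := nuc (G := fun x => g' x - g x) (H := fun y => h y - h' y) fun x y => by
    have := (e x y).symm.trans (e' x y)
    rw [sub_pm, pm_sub]
    linear_combination (exp := 1) -this
  exact ⟨l, LinearMap.ext fun x => eq_add_of_sub_eq' (h1 x), LinearMap.ext fun y => by
    rw [LinearMap.sub_apply, LinearMap.smul_apply, Module.End.one_apply, ← h2, sub_sub_cancel]⟩

theorem li_scalar {f g h : Module.End F (V8 F)} {l : F} (e : Li f g h) (hl : g = l • 1 ∨ h = l • 1) :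
    ∃ m : F, f = m • 1 := by
  choose a ha using fun z => exists_adj (polarBilin (Q8 F) z ∘ₗ f)
  have ha' : ∀ z v, polar (Q8 F) v (a z) = polar (Q8 F) (f v) z := fun z v => by
    rw [polar_comm, ha, polar_comm]; rfl
  rcases hl with rfl | rfl
  · have h1 : ∀ x y, f (pm x y) = pm x (h y + l • y) := fun x y => by
      rw [e, pm_add, pm_smul, add_comm, ← smul_pm]; rfl
    obtain ⟨m, h2, -⟩ := nuc (G := fun y => h y + l • y) (H := a) fun y z => ext_polar fun x => by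
      rw [polar_comm, ← polar_pm, ← h1, ← ha', polar_pm, polar_comm]
    refine ⟨m, LinearMap.ext fun v => ?_⟩
    obtain ⟨x, y, rfl⟩ := exists_pm v
    rw [h1, h2, pm_smul]; rfl
  · have h1 : ∀ x y, f (pm x y) = pm (g x + l • x) y := fun x y => by
      rw [e, add_pm, smul_pm, ← pm_smul]; rfl
    obtain ⟨m, -, h2⟩ := nuc (G := a) (H := fun x => g x + l • x) fun z x => ext_polar fun y => by
      rw [← polar_pm', ha', h1, polar_pm']
    refine ⟨m, LinearMap.ext fun v => ?_⟩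
    obtain ⟨x, y, rfl⟩ := exists_pm v
    rw [h1, h2, smul_pm]; rfl

theorem li_form {f g h : Module.End F (V8 F)} (e : Li f g h) (hf : ∀ x, polar (Q8 F) (f x) x = 0) :
    ∃ c : F, (∀ x, polar (Q8 F) (g x) x = c * Q8 F x) ∧ ∀ x, polar (Q8 F) (h x) x = -c * Q8 F x := by
  have h1 : ∀ x y, Q8 F y * polar (Q8 F) (g x) x + Q8 F x * polar (Q8 F) (h y) y = 0 := fun x y => by
    rw [← hf (pm x y), e, polar_add_left, polar_pr, polar_pl]
  have h2 := h1 (one8 F) (one8 F)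
  refine ⟨polar (Q8 F) (g (one8 F)) (one8 F), fun x => ?_, fun y => ?_⟩
  · have h3 := h1 x (one8 F)
    rw [norm_one8] at h2 h3
    linear_combination h3 - Q8 F x * h2
  · have h3 := h1 (one8 F) y
    rw [norm_one8] at h3
    linear_combination h3

/-! ### frames -/

/-- an orthogonal basis -/
structure Fm (e : Fin 8 → V8 F) : Prop where
  ne : ∀ i, Q8 F (e i) ≠ 0
  orth : ∀ i j, i ≠ j → polar (Q8 F) (e i) (e j) = 0

variable {e : Fin 8 → V8 F}

theorem Fm.gam (h : Fm e) (M : Gam (Q8 F)) : Fm fun i => M.1 (e i) := by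
  obtain ⟨σ, c, hM⟩ := M.2
  exact ⟨fun i => by rw [hM.form]; exact mul_ne_zero hM.ne ((map_ne_zero σ).2 (h.ne i)),
    fun i j hij => by rw [hM.polar, h.orth i j hij, map_zero, mul_zero]⟩

theorem Fm.self (h : Fm e) (h2 : (2 : F) ≠ 0) (i : Fin 8) : polar (Q8 F) (e i) (e i) ≠ 0 := by
  rw [polar_self, nsmul_eq_mul]
  exact mul_ne_zero h2 (h.ne i)

variable [Fintype F]

theorem Fm.span (h : Fm e) (h2 : (2 : F) ≠ 0) : Submodule.span F (Set.range e) = ⊤ :=
  (LinearMap.linearIndependent_of_isOrthoᵢ (B := polarBilin (Q8 F)) (fun i j hij => h.orth i j hij)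
    (h.self h2)).span_eq_top_of_card_eq_finrank (by rw [finrank8, Fintype.card_fin])

theorem Fm.ext (h : Fm e) (h2 : (2 : F) ≠ 0) {f g : V8 F →ₗ[F] V8 F} (h1 : ∀ i, f (e i) = g (e i)) (x : V8 F) :
    f x = g x := LinearMap.congr_fun (LinearMap.ext_on_range (h.span h2) h1) x

/-- sign changes on an even number of vectors whose norms agree modulo squares -/
theorem Fm.exists_sign (h : Fm e) (h2 : (2 : F) ≠ 0) (n : ℕ) (I : Finset (Fin 8)) (h1 : I.card = 2 * n)
    (h3 : ∀ a ∈ I, ∀ b ∈ I, IsSquare (Q8 F (e a) * Q8 F (e b))) :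
    ∃ z : E8 F, (∀ k ∈ I, z.1 (e k) = - e k) ∧ ∀ k, k ∉ I → z.1 (e k) = e k := by
  induction n generalizing I with
  | zero => exact ⟨1, fun k hk => absurd (Finset.card_pos.2 ⟨k, hk⟩) (by omega), fun _ _ => rfl⟩
  | succ n ih =>
    obtain ⟨a, ha, b, hb, hab⟩ := Finset.one_lt_card.1 (show 1 < I.card by omega)
    have hb' := Finset.mem_erase.2 ⟨hab.symm, hb⟩
    obtain ⟨z, a1, a2⟩ := ih ((I.erase a).erase b)
      (by rw [Finset.card_erase_of_mem hb', Finset.card_erase_of_mem ha]; omega)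
      fun x hx y hy => h3 x (Finset.mem_of_mem_erase (Finset.mem_of_mem_erase hx)) y
        (Finset.mem_of_mem_erase (Finset.mem_of_mem_erase hy))
    obtain ⟨r, hr⟩ := h3 a ha b hb
    have a3 : Q8 F ((r / Q8 F (e b)) • e b) = Q8 F (e a) := by
      have := h.ne b
      rw [QuadraticMap.map_smul, smul_eq_mul]
      field_simp
      linear_combination -hr
    have a4 : r / Q8 F (e b) ≠ 0 := fun e0 => h.ne a (by rw [← a3, e0, zero_smul, QuadraticMap.map_zero])
    have key : ∀ (c : F) (i : Fin 8) (hc : Q8 F (c • e i) ≠ 0) (k : Fin 8),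
        refl (Q8 F) (c • e i) hc (e k) = if k = i then - e k else e k := fun c i hc k => by
      rw [refl_apply, polar_smul_left]
      split_ifs with hk
      · have a5 : c ≠ 0 := fun e0 => hc (by rw [e0, zero_smul, QuadraticMap.map_zero])
        have := h.ne i
        rw [hk, polar_self, smul_smul, QuadraticMap.map_smul, smul_eq_mul, smul_eq_mul, nsmul_eq_mul,
          show (c * c * Q8 F (e i))⁻¹ * (c * (((2 : ℕ) : F) * Q8 F (e i))) * c = 2 by push_cast; field_simp]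
        module
      · rw [h.orth i k (Ne.symm hk), smul_zero, mul_zero, zero_smul, sub_zero]
    have a5 : Q8 F ((1 : F) • e a) ≠ 0 := by rw [one_smul]; exact h.ne a
    have a6 : ∀ k, (refl (Q8 F) _ a5 * refl (Q8 F) _ (a3 ▸ h.ne a)) (e k) = if k = a ∨ k = b then - e k else e k :=
      fun k => by
        rw [LinearEquiv.mul_apply, key]
        by_cases c1 : k = b
        · rw [if_pos c1, map_neg, key, if_neg (c1 ▸ hab.symm), if_pos (Or.inr c1)]
        · rw [if_neg c1, key]; simp only [c1, or_false]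
    refine ⟨z * ⟨_, good8.refl_mul_refl_mem (a3 ▸ h.ne a) a5 (by rw [a3, one_smul])⟩, fun k hk => ?_, fun k hk => ?_⟩
    · rw [e8_mul, a6]
      split_ifs with c1
      · rw [map_neg, a2 k (by simp only [Finset.mem_erase]; (clear * - I a b k c1; tauto))]
      · exact a1 k (by simp only [Finset.mem_erase]; (clear * - I a b k hk c1; tauto))
    · rw [e8_mul, a6, if_neg (by rintro (rfl | rfl) <;> contradiction)]
      exact a2 k fun c1 => hk (Finset.mem_of_mem_erase (Finset.mem_of_mem_erase c1))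

variable [DecidableEq F]

/-- the sign of the norm -/
def sgn8 (v : V8 F) : ℤ := quadraticChar F (Q8 F v)

theorem sgn8_smul {c : F} (hc : c ≠ 0) (v : V8 F) : sgn8 (c • v) = sgn8 v := by
  rw [sgn8, QuadraticMap.map_smul, smul_eq_mul, map_mul, ← pow_two, quadraticChar_sq_one' hc, one_mul, sgn8]

theorem sgn8_pm (x y : V8 F) : sgn8 (pm x y) = sgn8 x * sgn8 y := by rw [sgn8, norm_pm, map_mul, sgn8, sgn8]

theorem sgn8_gam (M : Gam (Q8 F)) : ∃ η : ℤ, η * η = 1 ∧ ∀ v, sgn8 (M.1 v) = η * sgn8 v := by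
  obtain ⟨σ, c, hM⟩ := M.2
  refine ⟨quadraticChar F c, by rw [← pow_two, quadraticChar_sq_one hM.ne], fun v => ?_⟩
  rw [sgn8, hM.form, map_mul, sgn8]
  congr 1
  by_cases h0 : Q8 F v = 0
  · rw [h0, map_zero]
  by_cases h1 : IsSquare (Q8 F v)
  · rw [(quadraticChar_one_iff_isSquare h0).2 h1, (quadraticChar_one_iff_isSquare ((map_ne_zero σ).2 h0)).2 (h1.map σ)]
  · rw [quadraticChar_neg_one_iff_not_isSquare.2 h1, quadraticChar_neg_one_iff_not_isSquare.2 fun h2 =>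
      h1 (σ.symm_apply_apply (Q8 F v) ▸ h2.map σ.symm)]

omit [DecidableEq F] in
theorem conjE_int (M : Gam (Q8 F)) {z : E8 F} {v : V8 F} {s : ℤ} (h : z.1 v = (s : F) • v) :
    (conjE (Q8 F) M z).1 (M.1 v) = (s : F) • M.1 v := by
  obtain ⟨σ, hσ⟩ := gam_smul M
  rw [conjE_apply, h, hσ, map_intCast]

omit [DecidableEq F] in
/-- invariance under `Γ` -/
theorem fix_of {A : Subgroup (G8 F)} {Γ : Subgroup (MulAut (G8 F))} {M₁ M₂ : Gam (Q8 F)} (C : Cx A Γ M₁ M₂) {z b c : E8 F}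
    (h : T3 z b c) (h0 : ∀ M ∈ LL Γ, ((conjE (Q8 F) M z : E8 F) : G8 F) = z)
    (h1 : ((conjE (Q8 F) M₁ b : E8 F) : G8 F) = z) (h2 : ((conjE (Q8 F) M₂ c : E8 F) : G8 F) = z) :
    ∀ σ ∈ Γ, σ (z : G8 F) = z := by
  intro σ hσ
  obtain ⟨M, h3 | h3 | h3⟩ := cosets σ
  · exact h3 ▸ h0 M (show Psi (Q8 F) M ∈ Γ from h3 ▸ hσ)
  · obtain ⟨α, a1, a2⟩ := C.e1
    have a3 : Psi (Q8 F) (M * M₁⁻¹) = σ * α⁻¹ := eq_mul_inv_of_mul_eq (MulEquiv.ext fun g => by
      obtain ⟨a, rfl⟩ := QuotientGroup.mk_surjective g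
      obtain ⟨b, c, a4⟩ := exists_T3 a
      simp only [MulAut.mul_apply, a2 a b c a4, h3 a b c a4, Psi_mk, map_mul, MulAut.mul_apply, conjE_inv_conjE])
    (rewrite [← inv_mul_cancel_right σ α, MulAut.mul_apply]; simp only [a2 z b c h]; simp only [h1]; simp only [← a3])
    exact (h0 _ (show Psi (Q8 F) _ ∈ Γ from a3 ▸ mul_mem hσ (inv_mem a1)) :)
  · obtain ⟨α, a1, a2⟩ := C.e2
    have a3 : Psi (Q8 F) (M * M₂⁻¹) = σ * α⁻¹ := eq_mul_inv_of_mul_eq (MulEquiv.ext fun g => by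
      obtain ⟨a, rfl⟩ := QuotientGroup.mk_surjective g
      obtain ⟨b, c, a4⟩ := exists_T3 a
      simp only [MulAut.mul_apply, a2 a b c a4, h3 a b c a4, Psi_mk, map_mul, MulAut.mul_apply, conjE_inv_conjE])
    (rewrite [← inv_mul_cancel_right σ α, MulAut.mul_apply]; simp only [a2 z b c h]; simp only [h2]; simp only [← a3])
    exact (h0 _ (show Psi (Q8 F) _ ∈ Γ from a3 ▸ mul_mem hσ (inv_mem a1)) :)

omit [DecidableEq F] in
theorem mk_eq_of {a b : E8 F} {c : F} (h : ∀ x, b.1 x = c • a.1 x) : (b : G8 F) = a :=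
  (mk_eq_iff.2 ⟨c, sq_one_of_smul h, h⟩).symm

omit [DecidableEq F] in
theorem mk_conjE_of {M : Gam (Q8 F)} {z b : E8 F} {u : F} (h : ∀ x, b.1 x = u • (conjE (Q8 F) M⁻¹ z).1 x) :
    ((conjE (Q8 F) M b : E8 F) : G8 F) = z :=
  (congrArg (Psi (Q8 F) M) (mk_eq_of h)).trans (congrArg QuotientGroup.mk (conjE_conjE_inv M z))

end LieT

open LieT

/-- **[Lie]** -/
theorem boxLie : BoxLie := fun _ _ _ =>
  ⟨fun _ => exists_li, fun _ _ _ _ _ => li_unique, fun _ _ _ _ => li_scalar, fun _ _ _ => li_form⟩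

/-- **[Sig]** -/
theorem boxSig : BoxSig := by
  intro F _ _ A Γ M₁ M₂ e C h2 he1 he2 hL hp ⟨i₀, j₀, hij⟩
  classical
  have h : Fm e := ⟨he1, he2⟩
  have hx := h.gam M₁⁻¹
  have hy := h.gam M₂⁻¹
  obtain ⟨η₁, a1, a2⟩ := sgn8_gam M₁⁻¹
  obtain ⟨η₂, a3, a4⟩ := sgn8_gam M₂⁻¹
  choose k c hk using hp
  have hc : ∀ i j, c i j ≠ 0 := fun i j e0 => mul_ne_zero (hx.ne i) (hy.ne j) (by
    rw [← norm_pm, hk, e0, zero_smul, QuadraticMap.map_zero])
  have hs : ∀ i j, sgn8 (e (k i j)) = η₁ * sgn8 (e i) * (η₂ * sgn8 (e j)) := fun i j => by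
    rw [← sgn8_smul (hc i j), ← hk, sgn8_pm, a2, a4]
  have hd : ∀ i, sgn8 (e i) = 1 ∨ sgn8 (e i) = -1 := fun i => quadraticChar_dichotomy (he1 i)
  have b1 : ∀ i, ∑ j, sgn8 (e j) = η₁ * sgn8 (e i) * η₂ * ∑ j, sgn8 (e j) := fun i => by
    have b2 : Function.Injective (k i) := fun j j' b3 => by
      by_contra b4
      have b5 := polar_pl (M₁⁻¹.1 (e i)) (M₂⁻¹.1 (e j)) (M₂⁻¹.1 (e j'))
      rw [hy.orth j j' b4, mul_zero, hk, hk, b3, polar_smul_left, polar_smul_right] at b5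
      exact smul_ne_zero (hc i j) (smul_ne_zero (hc i j') (h.self h2 _)) b5
    rw [Finset.mul_sum, ← (Finite.injective_iff_bijective.1 b2).sum_comp]
    exact Finset.sum_congr rfl fun j _ => by rw [hs]; ring
  have b2 : sgn8 (e i₀) * sgn8 (e j₀) = -1 := by
    rw [sgn8, sgn8, ← map_mul, quadraticChar_neg_one_iff_not_isSquare.2 hij]
  have b3 : ∑ j, sgn8 (e j) = 0 := by
    have c1 := b1 i₀
    have c2 := b1 j₀
    rcases hd i₀ with c3 | c3 <;> rcases hd j₀ with c4 | c4 <;> rw [c3, c4] at b2 <;> rw [c3] at c1 <;>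
      rw [c4] at c2 <;> first | omega | linarith
  have b4 : (Finset.univ.filter fun j => sgn8 (e j) = -1).card = 2 * 2 := by
    rw [← Finset.sum_filter_add_sum_filter_not Finset.univ fun j => sgn8 (e j) = -1,
      Finset.sum_congr rfl fun j hj => (Finset.mem_filter.1 hj).2,
      Finset.sum_congr rfl fun j hj => (hd j).resolve_right (Finset.mem_filter.1 hj).2] at b3
    have c1 := Finset.card_filter_add_card_filter_not (s := Finset.univ) fun j => sgn8 (e j) = -1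
    simp only [Finset.sum_const, Finset.card_univ, Fintype.card_fin, nsmul_eq_mul] at b3 c1
    omega
  obtain ⟨z, c1, c2⟩ := h.exists_sign h2 2 _ b4 fun a ha b hb =>
    (quadraticChar_one_iff_isSquare (mul_ne_zero (he1 a) (he1 b))).1 (by
      rw [map_mul, show quadraticChar F _ = _ from (Finset.mem_filter.1 ha).2,
        show quadraticChar F _ = _ from (Finset.mem_filter.1 hb).2]; rfl)
  have hz : ∀ i, z.1 (e i) = (sgn8 (e i) : F) • e i := fun i => by
    rcases hd i with c3 | c3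
    · rw [c3, c2 i fun c4 => by have := (Finset.mem_filter.1 c4).2; omega, Int.cast_one, one_smul]
    · rw [c3, c1 i (Finset.mem_filter.2 ⟨Finset.mem_univ _, c3⟩), Int.cast_neg, Int.cast_one, neg_smul, one_smul]
  have hsq : ∀ i, (sgn8 (e i) : F) * sgn8 (e i) = 1 := fun i => by rcases hd i with c3 | c3 <;> simp [c3]
  have hzz : z * z = 1 := e8_ext (h.ext h2 (f := (z * z).1.toLinearMap) (g := LinearMap.id) fun i => by
    show z.1 (z.1 _) = e i
    rw [hz, map_smul, hz, smul_smul, hsq, one_smul])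
  obtain ⟨b, d, hT⟩ := exists_T3 z
  have d1 : ∀ x y, z.1 (pm x y) = pm ((((η₁ * η₂ : ℤ) : F) • (conjE (Q8 F) M₁⁻¹ z).1.toLinearMap) x)
      ((conjE (Q8 F) M₂⁻¹ z).1.toLinearMap y) := fun x =>
    hy.ext h2 (f := z.1.toLinearMap ∘ₗ pl x) (g := pl _ ∘ₗ (conjE (Q8 F) M₂⁻¹ z).1.toLinearMap) fun j =>
      hx.ext h2 (f := z.1.toLinearMap ∘ₗ pr (M₂⁻¹.1 (e j))) (g := pr ((conjE (Q8 F) M₂⁻¹ z).1 (M₂⁻¹.1 (e j))) ∘ₗ
        (((η₁ * η₂ : ℤ) : F) • (conjE (Q8 F) M₁⁻¹ z).1.toLinearMap)) (fun i => by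
          show z.1 (pm _ _) = pm (((η₁ * η₂ : ℤ) : F) • (conjE (Q8 F) M₁⁻¹ z).1 _) ((conjE (Q8 F) M₂⁻¹ z).1 _)
          rw [conjE_int _ (hz i), conjE_int _ (hz j), smul_pm, smul_pm, pm_smul, hk, map_smul, hz, hs]
          push_cast
          module) x
  have d2 : ∃ u v : F, (∀ x, b.1 x = u • (conjE (Q8 F) M₁⁻¹ z).1 x) ∧ ∀ x, d.1 x = v • (conjE (Q8 F) M₂⁻¹ z).1 x := by
    have d3 : ((η₁ * η₂ : ℤ) : F) ≠ 0 := left_ne_zero_of_mul_eq_one (b := ((η₁ * η₂ : ℤ) : F)) (by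
      rw [← Int.cast_mul, mul_mul_mul_comm, a1, a3, mul_one, Int.cast_one])
    obtain ⟨u, -, d4, d5⟩ := Tr.unique (a := z.1) (b := LinearEquiv.smulOfNeZero F (V8 F) _ d3 * (conjE (Q8 F) M₁⁻¹ z).1)
      (c := (conjE (Q8 F) M₂⁻¹ z).1) (fun x y => d1 x y) hT
    exact ⟨u * ((η₁ * η₂ : ℤ) : F), u⁻¹, fun x => (d4 x).trans (smul_smul _ _ _), d5⟩
  obtain ⟨u, v, d3, d4⟩ := d2
  refine ⟨z, hzz, Z1_dim h2 hT hzz (e8_ext fun x => ?_) ?_ (by rw [neg_mul_neg, one_mul]),
    fix_of C hT (fun M hM => ?_) ?_ ?_⟩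
  · (rewrite [e8_mul, d3]; simp only [d3]; rewrite [map_smul, smul_smul]; simp only [sq_one_of_smul d3]; rewrite [one_smul, ← e8_mul, ← map_mul]; simp only [hzz]; simp only [map_one])
  · rintro ⟨s, hs⟩
    have e0 : ∀ i, (sgn8 (e i) : F) = s := fun i => smul_left_injective F
      (fun e1 => he1 i (by rw [e1, QuadraticMap.map_zero])) ((hz i).symm.trans (hs _))
    have e1 := congrArg (Int.cast : ℤ → F) b2
    rw [Int.cast_mul, e0 j₀, ← e0 i₀, hsq] at e1
    exact h2 (by push_cast at e1; linear_combination e1)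
  · obtain ⟨η, e1, e2⟩ := sgn8_gam M
    refine mk_eq_of (c := η) ((h.gam M).ext h2 (f := (conjE (Q8 F) M z).1.toLinearMap)
      (g := (η : F) • z.1.toLinearMap) fun i => ?_)
    obtain ⟨j, t, e3⟩ := hL M hM i
    have e4 : t ≠ 0 := fun e0 => (h.gam M).ne i (by rw [e3, e0, zero_smul, QuadraticMap.map_zero])
    show (conjE (Q8 F) M z).1 _ = (η : F) • z.1 _
    rw [conjE_int M (hz i), e3, map_smul, hz, ← sgn8_smul e4 (e j), ← e3, e2, e3, smul_comm t, smul_smul (η : F),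
      ← Int.cast_mul, ← mul_assoc, e1, one_mul]
  · exact mk_conjE_of d3
  · exact mk_conjE_of d4

end Cfsg.Agent.N2C.D4
end

-- part: N2/Cl/D4/LQ
section
/-!
# N2 (S3519), `PΩ₈⁺(q)`: a triple of quadratic elements of odd order is trivial (helper58)
-/

set_option autoImplicit false
set_option linter.unusedSectionVars false

namespace Cfsg.Agent.N2C.D4

open QuadraticMap Module Cfsg.Agent.LieClassical.QuadForms Cfsg.Agent.LieClassical.OrthCore
  Cfsg.Agent.LieClassical.OrthTrans Cfsg.Agent.ClassicalGeometry.OrthSemi Cfsg.Agent.ClassicalGeometry.OrthAut1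
  Cfsg.Agent.ClassicalGeometry.TrialityOct Cfsg.Agent.ClassicalGeometry.Triality
  Cfsg.Agent.H989.OutOrth.Basic Cfsg.Agent.H989.OutOrth.Tri Cfsg.Agent.SB.D4 LieT

namespace LQ

variable {F : Type} [Field F] [Fintype F]

theorem app_inv (a : E8 F) (x : V8 F) : a.1 (a⁻¹.1 x) = x := a.1.apply_symm_apply x
theorem inv_app (a : E8 F) (x : V8 F) : a⁻¹.1 (a.1 x) = x := a.1.symm_apply_apply x

theorem polar_inv (a : E8 F) (x y : V8 F) : polar (Q8 F) (a⁻¹.1 x) y = polar (Q8 F) x (a.1 y) := by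
  rw [← polar_map (E_le_O a.2), app_inv]

theorem eq_one_of_sq {G : Type*} [Group G] {a : G} {r : ℕ} (ho : Odd r) (ha : a ^ r = 1) (h2 : a * a = 1) : a = 1 := by
  obtain ⟨k, rfl⟩ := ho
  rwa [pow_succ, pow_mul, pow_two, h2, one_pow, one_mul] at ha

theorem qd_cases {a : E8 F} {r : ℕ} (ho : Odd r) (hr : (r : F) ≠ 0) (ha : a ^ r = 1) (h : Qd a) :
    a = 1 ∨ ∃ t : F, t * t - 4 ≠ 0 ∧ ∀ x, a⁻¹.1 x = t • x - a.1 x := by
  obtain ⟨t, d, h⟩ := h
  have h1 : ∀ x, a.1 x = t • x - d • a⁻¹.1 x := fun x => by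
    have := h (a⁻¹.1 x)
    rwa [app_inv] at this
  have h2 : ∀ x, a⁻¹.1 x = t • x - d • a.1 x := fun x => ext_polar fun y => by
    simp only [polar_inv, h1 y, polar_sub_left, polar_sub_right, polar_smul_left, polar_smul_left, polar_smul_right,
      polar_smul_right, polar_comm _ x (a⁻¹.1 y), polar_inv, polar_comm _ y]
  by_cases c1 : d = 1
  · subst c1
    by_cases c2 : t * t - 4 = 0
    · refine Or.inl (eq_one_of_sq ho ha ?_)
      have h3 : ∀ x, (a * a).1 ((a * a).1 x) = (2 : F) • (a * a).1 x - x := fun x => by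
        show a.1 (a.1 (a.1 (a.1 x))) = (2 : F) • a.1 (a.1 x) - x
        have e1 := h x
        have e2 := h (a.1 x)
        have e3 := h (a.1 (a.1 x))
        linear_combination (norm := module) e3 + t • e2 + c2 • a.1 (a.1 x) + e1
      have h4 : ∀ (n : ℕ) (x : V8 F), ((a * a) ^ n).1 x = x + (n : F) • ((a * a).1 x - x) := fun n x => by
        induction n with
        | zero => rw [pow_zero, Nat.cast_zero, zero_smul, add_zero]; rfl
        | succ n ih =>
          rw [pow_succ']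
          show (a * a).1 (((a * a) ^ n).1 x) = _
          rw [ih, map_add, map_smul, map_sub, h3]
          push_cast
          module
      refine Subtype.ext (LinearEquiv.ext fun x => ?_)
      have h5 := h4 r x
      rw [← pow_two, ← pow_mul, mul_comm, pow_mul, ha, one_pow, pow_two] at h5
      exact sub_eq_zero.1 ((smul_eq_zero.1 (left_eq_add.1 h5)).resolve_left hr)
    · exact Or.inr ⟨t, c2, fun x => by rw [h2, one_smul]⟩
  have h3 : ∀ x, (1 + d) • a.1 x = t • x := fun x => smul_right_injective _ (sub_ne_zero.2 (Ne.symm c1)) (by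
    have e1 := h1 x
    rw [h2] at e1
    show (1 - d) • _ = (1 - d) • _
    linear_combination (norm := module) e1)
  by_cases c2 : 1 + d = 0
  · refine Or.inl (eq_one_of_sq ho ha (Subtype.ext (LinearEquiv.ext fun x => ?_)))
    show a.1 (a.1 x) = x
    rw [h, ← h3, c2, zero_smul, show d = -1 by linear_combination c2]
    module
  · exact Or.inl (odd_sc ho (e := (1 + d)⁻¹ * t) (fun x => by rw [mul_smul, ← h3, inv_smul_smul₀ c2]) ha)

end LQ

open LQ

/-- **[LQ]** -/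
theorem boxLQ : BoxLQ := by
  intro F _ _ a b c r _ ho hr h ha hb hc qa qb qc
  have k1 : ∀ e, Sc b e → a = 1 := fun e he => by
    obtain ⟨_, d, -, h1, -⟩ := h.rot.sc he
    exact odd_sc ho h1 ha
  rcases qd_cases ho hr ha qa with h1 | ⟨s, -, h1⟩
  · exact h1
  rcases qd_cases ho hr hb qb with h2 | ⟨t, -, h2⟩
  · exact k1 1 (h2 ▸ Sc.one)
  rcases qd_cases ho hr hc qc with h3 | ⟨u, h4, h3⟩
  · obtain ⟨d, _, h4, -⟩ := h.rot.rot.sc (e := 1) (h3 ▸ Sc.one)
    exact odd_sc ho h4 ha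
  have h5 : ∀ x y, pm (b.1 x) (c.1 y - c⁻¹.1 y) = pm x (s • y - t • c⁻¹.1 y) := fun x y => by
    have e1 := h x y
    have e2 : a⁻¹.1 (pm x y) = pm (b⁻¹.1 x) (c⁻¹.1 y) := h.inv x y
    rw [h1, h2, e1, sub_pm, smul_pm] at e2
    rw [pm_sub, pm_sub, pm_smul, pm_smul]
    linear_combination (exp := 1) -e2
  have h6 : ∀ y, ∃ y', c.1 y' - c⁻¹.1 y' = y := fun y => ⟨(u * u - 4)⁻¹ • (c.1 y - c⁻¹.1 y), by
    have e1 := h3 (c.1 y)
    have e2 := h3 (c⁻¹.1 y)
    have e3 := h3 y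
    rw [inv_app] at e1
    rw [app_inv] at e2
    rw [map_smul, map_smul, ← smul_sub, map_sub, map_sub, app_inv, inv_app, e2, inv_smul_eq_iff₀ h4]
    linear_combination (norm := module) e1 + u • e3⟩
  choose g hg using h6
  obtain ⟨l, h7, -⟩ := nuc (G := b.1) (H := fun y => s • g y - t • c⁻¹.1 (g y)) fun x y => by rw [← h5, hg]
  exact k1 l h7

end Cfsg.Agent.N2C.D4
end

private theorem dce_112f54953419 : _root_.True := by
  try have : _root_.True := by simp only [_root_.Cfsg.Agent.N2C.D4.NoFix.eq_1]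
  try have : _root_.True := by simp only [_root_.Cfsg.Agent.N2C.D4.Ex.rot.eq_1]
  try have : _root_.True := by simp only [_root_.Cfsg.Agent.N2C.D4.LieT.sgn8.eq_1]
  try have : _root_.True := by simp only [_root_.Cfsg.Agent.N2C.D4.LieT.sgn8.congr_simp]
  exact _root_.True.intro
end
end
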